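import Cfsg.Agent.Lib.FischerClass.Defs
import Cfsg.Agent.Lib.FischerUnique24.Chart

/-!
Fischer's theorem: every neighbourhood is charted by the neighbour quotient at one member.
-/

set_option autoImplicit false

namespace Cfsg.Agent.FischerClass

open Cfsg Cfsg.Agent Cfsg.Agent.Fischer Cfsg.Agent.Fischer.Factor
open Cfsg.Agent.FischerUnique24 (IsChart Hd)

universe u

variable {G : Type u} [Group G] {D : Set G}

/-- A chart of the neighbourhood of `t` on the quotient at `d`. -/
theorem Std.exists_chart [Finite G] (hS : Std D) {d t : G} (hd : d ∈ D) (htD : t ∈ D) :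
    ∃ f : G → Q D d, IsChart D (img D d) t f := by
  classical
  obtain ⟨g, hg⟩ := hS.trans d hd t htD
  have hnb : ∀ {x}, x ∈ Nb D t → g⁻¹ * x * g ∈ Nb D d := fun {x} hx => by
    have := nb_conj hS.tg g⁻¹ hx
    rwa [inv_inv, show g⁻¹ * t * g = d by rw [← hg]; group] at this
  have hnb' : ∀ {x}, x ∈ Nb D d → g * x * g⁻¹ ∈ Nb D t := fun {x} hx => hg ▸ nb_conj hS.tg g hx
  have hH : ∀ {x}, x ∈ Hd D t → g⁻¹ * x * g ∈ Subgroup.closure (Nb D d) := by
    intro x hx
    unfold Hd at hx
    induction hx using Subgroup.closure_induction with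
    | mem y hy => exact Subgroup.subset_closure (hnb hy)
    | one => simp
    | mul a b _ _ ha hb => simpa [mul_assoc] using mul_mem ha hb
    | inv a _ ha => simpa [mul_assoc] using inv_mem ha
  have hH' : ∀ {x}, x ∈ Subgroup.closure (Nb D d) → g * x * g⁻¹ ∈ Hd D t := by
    intro x hx
    induction hx using Subgroup.closure_induction with
    | mem y hy => exact Subgroup.subset_closure (hnb' hy)
    | one => simp
    | mul a b _ _ ha hb => simpa [mul_assoc] using mul_mem ha hb
    | inv a _ ha => simpa [mul_assoc] using inv_mem ha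
  obtain ⟨f, hf⟩ : ∃ f : G → Q D d, ∀ x (h : x ∈ Subgroup.closure (Nb D d)),
      f (g * x * g⁻¹) = QuotientGroup.mk ⟨x, h⟩ :=
    ⟨fun y => if h : g⁻¹ * y * g ∈ Subgroup.closure (Nb D d) then QuotientGroup.mk ⟨_, h⟩ else 1,
      fun x h => by
        have e : g⁻¹ * (g * x * g⁻¹) * g = x := by group
        simp only [e, dif_pos h]⟩
  have hf' : ∀ {y} (hy : y ∈ Hd D t), f y = QuotientGroup.mk ⟨_, hH hy⟩ := fun {y} hy => by
    rw [← hf _ (hH hy)]
    congr 1
    group
  have hsub : ∀ {y}, y ∈ Nb D t → y ∈ Hd D t := fun hy => Subgroup.subset_closure hy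
  refine ⟨f, ⟨fun x hx y hy => ?_, fun z => ?_, fun x hx => ?_, fun y hy => ?_, fun z hz => ?_,
    fun y hy y' hy' e => ?_, fun y hy y' hy' => ?_⟩⟩
  · rw [hf' (mul_mem hx hy), hf' hx, hf' hy, ← QuotientGroup.mk_mul]
    exact congrArg _ (Subtype.ext (by simp [mul_assoc]))
  · obtain ⟨⟨x, hx⟩, rfl⟩ := QuotientGroup.mk_surjective z
    exact ⟨_, hH' hx, hf x hx⟩
  · rw [hf' hx, mk_eq_one_iff]
    constructor
    · intro h y hy
      have := (h _ (hnb hy))
      rw [← commute_conj_iff g, show g * (g⁻¹ * x * g) * g⁻¹ = x by group,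
        show g * (g⁻¹ * y * g) * g⁻¹ = y by group] at this
      exact this
    · intro h y hy
      rw [← commute_conj_iff g, show g * (g⁻¹ * x * g) * g⁻¹ = x by group]
      exact h _ (hnb' hy)
  · rw [hf' (hsub hy)]
    exact ⟨_, hnb hy, rfl⟩
  · obtain ⟨x, hx, rfl⟩ := img_lift hz
    exact ⟨_, hnb' hx, hf _ x.2⟩
  · rw [hf' (hsub hy), hf' (hsub hy')] at e
    have := congrArg Subtype.val (img_inj hS.tg hS.trans hS.twinFree hd (x := ⟨_, hH (hsub hy)⟩)
      (y := ⟨_, hH (hsub hy')⟩) (hnb hy) (hnb hy') e)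
    exact mul_left_cancel (mul_right_cancel this)
  · rw [hf' (hsub hy), hf' (hsub hy'), mk_commute_iff hS.tg.1 (hnb hy).1 (hnb hy').1]
    show Commute (g⁻¹ * y * g) (g⁻¹ * y' * g) ↔ _
    rw [← commute_conj_iff g, show g * (g⁻¹ * y * g) * g⁻¹ = y by group,
      show g * (g⁻¹ * y' * g) * g⁻¹ = y' by group]

/-- The cores central at one member are central at every member. -/
theorem Loc.of_one [Finite G] (hS : Std D) {d : G} (hd : d ∈ D)
    (h2 : Cfsg.pCore 2 ↥(Subgroup.closure (Nb D d)) ≤ Subgroup.center _)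
    (h3 : Cfsg.pCore 3 ↥(Subgroup.closure (Nb D d)) ≤ Subgroup.center _) : Loc D :=
  ⟨hS, fun _ ht => core_transport hS.tg hS.trans hd ht h2,
    fun _ ht => core_transport hS.tg hS.trans hd ht h3⟩

end Cfsg.Agent.FischerClass
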