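import Cfsg.Agent.Lib.FischerClass.FarPairs
import Mathlib.Combinatorics.Enumerative.DoubleCounting

/-!
Fischer's theorem: counting the members far from one member.
-/

set_option autoImplicit false

namespace Cfsg.Agent.FischerClass

open Cfsg Cfsg.Agent Cfsg.Agent.Fischer Cfsg.Agent.Fischer.Factor

universe u

variable {G : Type u} [Group G] {D : Set G}

/-- The members not commuting with `x`. -/
def far (D : Set G) (x : G) : Set G := {u | u ∈ D ∧ ¬ Commute x u}

/-- A fixed-point-free involution on a finite set: even size. -/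
theorem even_card_of_involution {α : Type*} [DecidableEq α] : ∀ (m : ℕ) (s : Finset α) (f : α → α),
    s.card = m → (∀ a ∈ s, f a ∈ s ∧ f a ≠ a ∧ f (f a) = a) → Even m := by
  intro m
  induction m using Nat.strong_induction_on with
  | _ m ih =>
    intro s f hc hf
    rcases s.eq_empty_or_nonempty with rfl | ⟨a, ha⟩
    · rw [← hc, Finset.card_empty]; exact Even.zero
    obtain ⟨hfa, hne, hff⟩ := hf a ha
    have hsub : ({a, f a} : Finset α) ⊆ s := by simp [Finset.insert_subset_iff, ha, hfa]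
    have hcard : (s \ {a, f a}).card + 2 = m := by
      have h2 := Finset.card_le_card hsub
      rw [Finset.card_pair hne.symm] at h2
      rw [Finset.card_sdiff_of_subset hsub, Finset.card_pair hne.symm, ← hc]
      omega
    obtain ⟨j, hj⟩ := ih _ (by omega) (s \ {a, f a}) f rfl (fun b hb => by
      simp only [Finset.mem_sdiff, Finset.mem_insert, Finset.mem_singleton, not_or] at hb ⊢
      obtain ⟨hbs, hba, hbf⟩ := hb
      obtain ⟨h1, h2, h3⟩ := hf b hbs
      exact ⟨⟨h1, fun e => hbf (by rw [← h3, e]), fun e => hba (by rw [← h3, e, hff])⟩, h2, h3⟩)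
    exact ⟨j + 1, by omega⟩

theorem even_far [Finite G] (hS : Std D) {x : G} (hx : x ∈ D) : Even (far D x).ncard := by
  classical
  rw [Set.ncard_eq_toFinset_card _ (Set.toFinite _)]
  refine even_card_of_involution _ _ (fun u => x * u * x) rfl fun u hu => ?_
  simp only [Set.Finite.mem_toFinset, far, Set.mem_setOf_eq] at hu ⊢
  refine ⟨⟨hS.xux_mem hx hu.1, hS.far_third hx hu.1 hu.2⟩, fun h => hu.2 ?_, ?_⟩
  · have h' := congrArg (fun z => z * x) h
    simp only [mul_assoc, TSet.sq hS.tset hx, mul_one] at h'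
    exact h'
  · simp only [mul_assoc, TSet.sq hS.tset hx, mul_one]
    rw [← mul_assoc, TSet.sq hS.tset hx, one_mul]

theorem nb_inter_conj (hS : Std D) (g a b : G) :
    (Nb D (g * a * g⁻¹) ∩ Nb D (g * b * g⁻¹)).ncard = (Nb D a ∩ Nb D b).ncard := by
  have h : (fun z => g * z * g⁻¹) '' (Nb D a ∩ Nb D b) = Nb D (g * a * g⁻¹) ∩ Nb D (g * b * g⁻¹) := by
    ext y
    constructor
    · rintro ⟨z, ⟨h1, h2⟩, rfl⟩
      exact ⟨nb_conj hS.tg g h1, nb_conj hS.tg g h2⟩
    · rintro ⟨h1, h2⟩
      refine ⟨g⁻¹ * y * g, ⟨?_, ?_⟩, by group⟩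
      · have := nb_conj hS.tg g⁻¹ h1
        rwa [inv_inv, show g⁻¹ * (g * a * g⁻¹) * g = a by group] at this
      · have := nb_conj hS.tg g⁻¹ h2
        rwa [inv_inv, show g⁻¹ * (g * b * g⁻¹) * g = b by group] at this
  rw [← h]
  exact Set.ncard_image_of_injective _ fun p q e => mul_left_cancel (mul_right_cancel e)

variable [Finite G]

/-- Far pairs times common neighbours. -/
theorem far_mul (hS : Std D) {k l μ : ℕ} {x : G} (hx : x ∈ D) (hk : ∀ t ∈ D, (Nb D t).ncard = k)
    (hl : ∀ a ∈ Nb D x, (Nb D x ∩ Nb D a).ncard = l)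
    (hμ : ∀ u ∈ far D x, (Nb D x ∩ Nb D u).ncard = μ) :
    (far D x).ncard * μ = k * (k - l - 1) := by
  classical
  set s := (Set.toFinite (far D x)).toFinset with hs
  set t := (Set.toFinite (Nb D x)).toFinset with ht
  have hms : ∀ u, u ∈ s ↔ u ∈ far D x := fun u => Set.Finite.mem_toFinset _
  have hmt : ∀ a, a ∈ t ↔ a ∈ Nb D x := fun a => Set.Finite.mem_toFinset _
  let r : G → G → Prop := fun u a => Commute a u
  have hdc := Finset.sum_card_bipartiteAbove_eq_sum_card_bipartiteBelow (s := s) (t := t) r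
  have h1 : ∀ u ∈ s, (t.bipartiteAbove r u).card = μ := by
    intro u hu
    rw [hms] at hu
    rw [← hμ u hu, ← Set.ncard_coe_finset]
    congr 1
    ext a
    simp only [Finset.coe_filter, Finset.bipartiteAbove, hmt, Set.mem_setOf_eq, Set.mem_inter_iff, r]
    exact ⟨fun ⟨h1, h2⟩ => ⟨h1, h1.1, fun e => hu.2 (e ▸ h1.2.2), h2.symm⟩,
      fun ⟨h1, h2⟩ => ⟨h1, h2.2.2.symm⟩⟩
  have h2 : ∀ a ∈ t, (s.bipartiteBelow r a).card = k - l - 1 := by
    intro a ha
    rw [hmt] at ha
    have hxa : x ∈ Nb D a := ⟨hx, ha.2.1.symm, ha.2.2.symm⟩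
    have e : ((s.bipartiteBelow r a : Finset G) : Set G) = Nb D a \ (Nb D x ∪ {x}) := by
      ext u
      simp only [Finset.coe_filter, Finset.bipartiteBelow, hms, Set.mem_setOf_eq, r, Set.mem_diff,
        Set.mem_union, Set.mem_singleton_iff, far]
      constructor
      · rintro ⟨⟨hu, hxu⟩, hau⟩
        refine ⟨⟨hu, fun e => hxu (e ▸ ha.2.2), hau⟩, ?_⟩
        rintro (h | rfl)
        · exact hxu h.2.2
        · exact hxu (Commute.refl _)
      · rintro ⟨h, hn⟩
        push Not at hn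
        exact ⟨⟨h.1, fun hc => hn.1 ⟨h.1, hn.2, hc⟩⟩, h.2.2⟩
    rw [← Set.ncard_coe_finset, e, show Nb D a \ (Nb D x ∪ {x}) = Nb D a \ (Nb D x ∩ Nb D a ∪ {x}) by
      ext u; simp only [Set.mem_diff, Set.mem_union, Set.mem_inter_iff]; tauto,
      Set.ncard_diff (fun u hu => hu.elim (fun h => h.2) (fun h => h.symm ▸ hxa)),
      Set.ncard_union_eq (Set.disjoint_singleton_right.2 fun h => h.1.2.1 rfl), hl a ha,
      Set.ncard_singleton, hk a ha.1]
    omega
  rw [Finset.sum_congr rfl h1, Finset.sum_congr rfl h2, Finset.sum_const, Finset.sum_const,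
    smul_eq_mul, smul_eq_mul] at hdc
  have hk' : t.card = k := by rw [← hk x hx, ht, ← Set.ncard_eq_toFinset_card]
  rw [hk'] at hdc
  rw [Set.ncard_eq_toFinset_card _ (Set.toFinite (far D x)), ← hs]
  exact hdc

end Cfsg.Agent.FischerClass
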