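import Cfsg.Agent.Lib.Fischer.TypeMFactor
import Cfsg.Agent.Lib.FischerTwins.Twins
import Cfsg.Prelude.Def_FischerSpaces

/-!
Fischer's theorem: the hypotheses, the possible conclusions, and the neighbour quotient of a group
satisfying the hypotheses satisfies them again.
-/

set_option autoImplicit false

namespace Cfsg.Agent.FischerClass

open Cfsg Cfsg.Agent Cfsg.Agent.Fischer Cfsg.Agent.Fischer.Factor

universe u

variable {G : Type u} [Group G] {D : Set G}

/-- A primitive group of 3-transpositions with trivial centre and width at least two. -/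
structure Std (D : Set G) : Prop where
  tg : IsThreeTranspositionGroup D
  prim : IsPrimitiveUnderConj D
  cz : Subgroup.center G = ⊥
  width : ∃ a ∈ D, ∃ b ∈ D, a ≠ b ∧ Commute a b

/-- In addition, the cores of the neighbour groups are central. -/
structure Loc (D : Set G) : Prop extends Std D where
  two : ∀ d ∈ D, Cfsg.pCore 2 ↥(Subgroup.closure (Nb D d)) ≤ Subgroup.center _
  three : ∀ d ∈ D, Cfsg.pCore 3 ↥(Subgroup.closure (Nb D d)) ≤ Subgroup.center _

/-- A symmetric group of degree `n` with its transpositions. -/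
def IsSym (D : Set G) (n : ℕ) : Prop :=
  ∃ e : G ≃* Equiv.Perm (Fin n), e '' D = {σ : Equiv.Perm (Fin n) | σ.IsSwap}

/-- An orthogonal group over two elements with its transvections. -/
def IsOTwo (D : Set G) : Prop :=
  (∃ m : ℕ, 3 ≤ m ∧ ∃ e : G ≃* ↥(Cfsg.isometryGroup (ZMod 2) (Cfsg.quadFormPlus m (ZMod 2))), e '' D = {g : ↥(Cfsg.isometryGroup (ZMod 2) (Cfsg.quadFormPlus m (ZMod 2))) | (((g : GL (Fin m ⊕ Fin m) (ZMod 2)) : Matrix (Fin m ⊕ Fin m) (Fin m ⊕ Fin m) (ZMod 2)) - 1).rank = 1}) ∨ (∃ m : ℕ, 2 ≤ m ∧ ∃ e : G ≃* ↥(Cfsg.isometryGroup (ZMod 2) (Cfsg.quadFormMinus m (ZMod 2) 1 1)), e '' D = {g : ↥(Cfsg.isometryGroup (ZMod 2) (Cfsg.quadFormMinus m (ZMod 2) 1 1)) | (((g : GL ((Fin m ⊕ Fin m) ⊕ Fin 2) (ZMod 2)) : Matrix ((Fin m ⊕ Fin m) ⊕ Fin 2) ((Fin m ⊕ Fin m) ⊕ Fin 2) (ZMod 2)) - 1).rank = 1})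

/-- A projective reflection group of dimension `n` over three elements with its reflections. -/
def IsOThree (D : Set G) (n : ℕ) : Prop :=
  ∃ Q : QuadraticForm (ZMod 3) (Fin n → ZMod 3), (QuadraticMap.polarBilin Q).Nondegenerate ∧ ∃ c : ZMod 3, c ≠ 0 ∧ ∃ e : G ≃* ↥(Cfsg.reflectionSubgroup (⇑Q) c) ⧸ Subgroup.center ↥(Cfsg.reflectionSubgroup (⇑Q) c), e '' D = (QuotientGroup.mk : ↥(Cfsg.reflectionSubgroup (⇑Q) c) → _) '' {g : ↥(Cfsg.reflectionSubgroup (⇑Q) c) | (g : ↥(Cfsg.isometryGroup (ZMod 3) (⇑Q))) ∈ Cfsg.reflectionsOfNorm (⇑Q) c}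

/-- The possible groups when the local cores are central. -/
def Out (D : Set G) : Prop :=
  (∃ n : ℕ, 7 ≤ n ∧ IsSym D n) ∨ IsOTwo D ∨ (∃ n : ℕ, 5 ≤ n ∧ IsOThree D n) ∨
    (IsOfTypeM22 G D ∨ IsOfTypeM23 G D ∨ IsOfTypeM24 G D)

namespace Std

variable (hS : Std D)
include hS

theorem tset : IsThreeTranspositionSet D := hS.tg.1

theorem trans : Trans D := hS.prim.1

theorem nonempty : D.Nonempty := by
  obtain ⟨a, ha, -⟩ := hS.prim.2.1
  exact ⟨a, ha⟩

theorem nb_nonempty {d : G} (hd : d ∈ D) : (Nb D d).Nonempty := by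
  obtain ⟨a, ha, b, hb, hab, hc⟩ := hS.width
  obtain ⟨g, hg⟩ := hS.trans a ha d hd
  exact ⟨g * b * g⁻¹, hg ▸ nb_conj hS.tg g (⟨hb, hab.symm, hc⟩ : b ∈ Nb D a)⟩

variable [Finite G]

theorem twinFree : TwinFree D := fun _ _ hd h => prim_sameComm_trivial hS.tg hS.prim hd h

theorem nbr_trivial {d w : G} (hd : d ∈ D) (h : SameNbr D d w) : w = d :=
  prim_sameNbr_trivial hS.tg hS.prim hS.width hd h

theorem connected : (Cfsg.commutingGraph D).Connected := prim_connected hS.tg hS.prim hS.width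

theorem ctx : OddCoreLocal.Ctx D :=
  ⟨hS.tg, hS.trans, fun _ hd => prim_trans_commuting hS.tg hS.prim hS.width hd,
    fun _ hd => prim_trans_noncommuting hS.tg hS.prim hS.width hd,
    fun _ hd _ h => hS.nbr_trivial hd h⟩

theorem twins {x : G} (hx : x ∈ D)
    (h : ¬ Cfsg.pCore 2 ↥(Subgroup.closure (Nb D x)) ≤ Subgroup.center _) : FischerTwins.Hyp D :=
  FischerTwins.hyp_of_base hS.ctx hS.cz hS.connected hx h

theorem center_q {d : G} (hd : d ∈ D) : Subgroup.center (Q D d) = ⊥ := by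
  refine eq_bot_iff.2 fun q hq => Subgroup.mem_bot.2 ?_
  obtain ⟨z, rfl⟩ := QuotientGroup.mk_surjective q
  rw [mk_eq_one_iff]
  intro y hy
  have hmem : (z : G) * y * (z : G)⁻¹ ∈ Nb D d := by
    have := nb_conj hS.tg (z : G) hy
    rwa [conj_eq_self_of_commute (commute_of_mem_closure_nb z.2).symm] at this
  have := img_inj hS.tg hS.trans hS.twinFree hd (x := z * ⟨y, nb_subset hy⟩ * z⁻¹)
    (y := ⟨y, nb_subset hy⟩) hmem hy (by
      rw [QuotientGroup.mk_mul, QuotientGroup.mk_mul, QuotientGroup.mk_inv,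
        ← Subgroup.mem_center_iff.1 hq, mul_inv_cancel_right])
  exact mul_inv_eq_iff_eq_mul.1 (congrArg Subtype.val this)

end Std

namespace Loc

variable [Finite G] (hL : Loc D)
include hL

theorem core_two {d : G} (hd : d ∈ D) : Cfsg.pCore 2 (Q D d) = ⊥ := by
  haveI : Fact (Nat.Prime 2) := ⟨Nat.prime_two⟩
  exact pCore_quotient_center (hL.two d hd)

theorem core_three {d : G} (hd : d ∈ D) : Cfsg.pCore 3 (Q D d) = ⊥ := by
  haveI : Fact (Nat.Prime 3) := ⟨Nat.prime_three⟩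
  exact pCore_quotient_center (hL.three d hd)

theorem img_tg {d : G} (hd : d ∈ D) : IsThreeTranspositionGroup (img D d) :=
  img_group hL.tg hL.trans hL.twinFree hd

theorem img_two {d : G} (hd : d ∈ D) : ∃ a ∈ img D d, ∃ b ∈ img D d, a ≠ b := by
  obtain ⟨y, hy⟩ := hL.nb_nonempty hd
  obtain ⟨z, hz, hyz⟩ : ∃ z ∈ Nb D d, ¬ Commute y z := by
    have := no_central_nb hL.tg hL.trans hL.twinFree hd hy
    push Not at this
    exact this
  refine ⟨_, ⟨⟨y, nb_subset hy⟩, hy, rfl⟩, _, ⟨⟨z, nb_subset hz⟩, hz, rfl⟩, fun e => hyz ?_⟩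
  have : (y : G) = z := congrArg Subtype.val (img_inj hL.tg hL.trans hL.twinFree hd
    (x := ⟨y, nb_subset hy⟩) (y := ⟨z, nb_subset hz⟩) hy hz e)
  exact this ▸ Commute.refl y

/-- Some two non-commuting members have two commuting common neighbours. -/
theorem exists_edge : ∃ p ∈ D, ∃ q ∈ D, ∃ d ∈ D, ∃ e ∈ D, ¬ Commute p q ∧ d ≠ e ∧ Commute d e ∧
    Commute d p ∧ Commute d q ∧ Commute e p ∧ Commute e q := by
  by_contra hno
  push Not at hno
  obtain ⟨x, hx⟩ := hL.nonempty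
  have hcomm : ∀ y ∈ Nb D x, ∀ z ∈ Nb D x, ∀ w ∈ Nb D x, y ≠ z → Commute y z → Commute z w →
      Commute y w := by
    intro y hy z hz w hw _ cyz czw
    by_contra cyw
    exact hno y hy.1 w hw.1 x hx z hz.1 cyw hz.2.1.symm hz.2.2 hy.2.2 hw.2.2 cyz.symm czw
  have hT := hL.img_tg hx
  -- commuting neighbours are equal
  have hnc : ∀ y ∈ Nb D x, ∀ z ∈ Nb D x, Commute y z → y = z := by
    intro y hy z hz cyz
    by_contra hyz
    set Y : ↥(Subgroup.closure (Nb D x)) := ⟨y, nb_subset hy⟩ with hY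
    set Z : ↥(Subgroup.closure (Nb D x)) := ⟨z, nb_subset hz⟩ with hZ
    have hsame : SameComm (img D x) (QuotientGroup.mk Y : Q D x) (QuotientGroup.mk Z) := by
      refine ⟨⟨Z, hz, rfl⟩, ?_⟩
      rintro _ ⟨w, hw, rfl⟩
      rw [mk_commute_iff hL.tset hz.1 hw.1, mk_commute_iff hL.tset hy.1 hw.1]
      exact ⟨fun h => hcomm y hy z hz w hw hyz cyz h,
        fun h => hcomm z hz y hy w hw (Ne.symm hyz) cyz.symm h⟩
    have hm := hsame.mul_mem_pCore hT ⟨Y, hy, rfl⟩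
    rw [hL.core_two hx, Subgroup.mem_bot] at hm
    have he := (eq_inv_of_mul_eq_one_right hm).trans (TSet.inv hT.1 ⟨Y, hy, rfl⟩)
    exact hyz (congrArg Subtype.val (img_inj hL.tg hL.trans hL.twinFree hx (x := Z) (y := Y) hz hy he)).symm
  obtain ⟨a, ha, b, hb, hab⟩ := hL.img_two hx
  have hsame : SameNbr (img D x) a b := by
    refine ⟨hb, fun c hc => ?_⟩
    have key : ∀ a ∈ img D x, ¬ (c ≠ a ∧ Commute a c) := by
      rintro _ ⟨y, hy, rfl⟩ ⟨hne, hcy⟩
      obtain ⟨w, hw, rfl⟩ := hc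
      refine hne (congrArg _ (Subtype.ext ?_))
      exact hnc _ hw _ hy ((mk_commute_iff hL.tset hy.1 hw.1).1 hcy).symm
    exact ⟨fun h => absurd h (key a ha), fun h => absurd h (key b hb)⟩
  have hm := hsame.mul_mem_pCore hT ha
  rw [hL.core_three hx, Subgroup.mem_bot] at hm
  exact hab ((eq_inv_of_mul_eq_one_right hm).trans (TSet.inv hT.1 ha)).symm

/-- The neighbour quotient satisfies the hypotheses again. -/
theorem std_img {r : G} (hr : r ∈ D) : Std (img D r) := by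
  obtain ⟨p, hp, q, hq, d, hd, e, he, hpq, hde, cde, cdp, cdq, cep, ceq⟩ := hL.exists_edge
  have hc : Common (img D r) :=
    common_img hL.tg hL.prim hL.twinFree hp hq hd he hpq hde cde cdp cdq cep ceq hr
  have hT := hL.img_tg hr
  have htr : Trans (img D r) := img_trans (prim_trans_commuting hL.tg hL.prim hL.width hr)
  have h2 := hL.img_two hr
  refine ⟨hT, primitive_of_common hT htr hc h2 (hL.core_two hr) (hL.core_three hr),
    hL.toStd.center_q hr, ?_⟩
  obtain ⟨a, ha, b, hb, hab⟩ := h2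
  by_cases hcom : Commute a b
  · exact ⟨a, ha, b, hb, hab, hcom⟩
  · obtain ⟨s, hs, hsa, hsb⟩ := hc a ha b hb hcom
    exact ⟨s, hs, a, ha, fun e => hcom (e ▸ hsb), hsa⟩

end Loc

end Cfsg.Agent.FischerClass
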