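import Cfsg.Agent.Lib.FischerTwins.Vec

/-!
No set of points of a solid over four elements meets every line in none or two points.
-/

set_option autoImplicit false
set_option maxRecDepth 100000

namespace Cfsg.Agent.FischerClassEx

open Cfsg.Agent.RigidGraph.He

/-- The admissible values along a side of a plane with three base points. -/
theorem side_values : ∀ g1 g2 g3 : K4, g1 ≠ 0 → g2 ≠ 0 → g3 ≠ 0 → g1 ≠ g2 → g1 ≠ g3 → g2 ≠ g3 →
    K4.w * g1 ≠ g2 → K4.v * g1 ≠ g3 → K4.v * g2 ≠ K4.w * g3 →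
    ∃ k : K4, k ≠ 0 ∧ g1 = k ∧ g2 = k * K4.v ∧ g3 = k * K4.w := by decide

theorem side_pick : ∀ k1 k2 k3 : K4, k1 ≠ 0 → k2 ≠ 0 → k3 ≠ 0 → ∃ c d : K4, c ≠ 0 ∧ d ≠ 0 ∧
    k1 * c ^ 2 + k2 * d ^ 2 = c * (k3 * (d * c⁻¹) ^ 2) := by decide

theorem nonzero_cases : ∀ c : K4, c ≠ 0 → c = 1 ∨ c = K4.w ∨ c = K4.v := by decide

variable {S : (Fin 4 → K4) → Prop}

/-- No three points in line. -/
theorem no_three (hscale : ∀ m, ∀ c : K4, c ≠ 0 → S m → S (c • m))
    (hline : ∀ p, S p → ∀ w : Fin 4 → K4, (∀ r : K4, w ≠ r • p) →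
      ∃ r : K4, S (w + r • p) ∧ ∀ r' : K4, S (w + r' • p) → r' = r)
    {p q : Fin 4 → K4} (hp : S p) (hq : S q) (hpq : ∀ r : K4, q ≠ r • p) {α β : K4} (hα : α ≠ 0)
    (hβ : β ≠ 0) : ¬ S (α • p + β • q) := by
  intro h
  obtain ⟨r, -, huniq⟩ := hline p hp q hpq
  have h0 := huniq 0 (by rwa [zero_smul, add_zero])
  have h1 := hscale _ β⁻¹ (inv_ne_zero hβ) h
  rw [smul_add, smul_smul, smul_smul, inv_mul_cancel₀ hβ, one_smul, add_comm] at h1
  exact mul_ne_zero (inv_ne_zero hβ) hα ((huniq _ h1).trans h0.symm)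

/-- Along a side the shifts are a multiple of the square. -/
theorem side (hscale : ∀ m, ∀ c : K4, c ≠ 0 → S m → S (c • m))
    (hline : ∀ p, S p → ∀ w : Fin 4 → K4, (∀ r : K4, w ≠ r • p) →
      ∃ r : K4, S (w + r • p) ∧ ∀ r' : K4, S (w + r' • p) → r' = r)
    (f : K4 → K4 → K4 → (Fin 4 → K4))
    (hadd : ∀ s a b s' a' b', f s a b + f s' a' b' = f (s + s') (a + a') (b + b'))
    (hsmul : ∀ c s a b, c • f s a b = f (c * s) (c * a) (c * b))
    (hinj : ∀ s a b s' a' b', f s a b = f s' a' b' → s = s' ∧ a = a' ∧ b = b')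
    (h0 : S (f 1 0 0)) (h1 : S (f 0 1 0)) (h2 : S (f 0 0 1)) :
    ∃ k : K4, k ≠ 0 ∧ ∀ c : K4, c ≠ 0 → S (f (k * c ^ 2) 1 c) := by
  have ex : ∀ c : K4, ∃ g : K4, S (f g 1 c) := fun c => by
    obtain ⟨r, hr, -⟩ := hline _ h0 (f 0 1 c) fun r e => by
      rw [hsmul] at e
      simpa using (hinj _ _ _ _ _ _ e).2.1
    simp only [hsmul, hadd, zero_add, mul_zero, add_zero, mul_one] at hr
    exact ⟨r, hr⟩
  choose g hg using ex
  have nz : ∀ c : K4, c ≠ 0 → g c ≠ 0 := by
    intro c hc e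
    have h := hg c
    rw [e] at h
    refine no_three hscale hline h1 h2 (fun r e' => ?_) one_ne_zero hc ?_
    · rw [hsmul] at e'
      simpa using (hinj _ _ _ _ _ _ e').2.2
    · simpa only [one_smul, hsmul, hadd, mul_zero, mul_one, zero_add, add_zero] using h
  have indep : ∀ c d : K4, c ≠ d → ∀ r : K4, f (g d) 1 d ≠ r • f (g c) 1 c := fun c d hcd r e => by
    rw [hsmul] at e
    obtain ⟨-, e1, e2⟩ := hinj _ _ _ _ _ _ e
    rw [mul_one] at e1
    rw [← e1, one_mul] at e2
    exact hcd e2.symm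
  have inj1 : ∀ c d : K4, c ≠ d → g c ≠ g d := by
    intro c d hcd e
    refine no_three hscale hline (hg c) (hg d) (indep c d hcd) one_ne_zero one_ne_zero ?_
    rw [one_smul, one_smul, hadd, e, K4.add_self, K4.add_self]
    have := hscale _ (c + d) (fun e' => hcd ((by decide : ∀ p q : K4, p + q = 0 → p = q) _ _ e')) h2
    rwa [hsmul, mul_zero, mul_one] at this
  have inj2 : ∀ c d : K4, c ≠ 0 → d ≠ 0 → c ≠ d → d * g c ≠ c * g d := by
    intro c d hc hd hcd e
    refine no_three hscale hline (hg c) (hg d) (indep c d hcd) hd hc ?_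
    rw [hsmul, hsmul, hadd, e, K4.add_self, mul_one, mul_one, mul_comm c d, K4.add_self]
    have := hscale _ (d + c) (fun e' => hcd ((by decide : ∀ p q : K4, p + q = 0 → q = p) _ _ e')) h1
    rwa [hsmul, mul_zero, mul_one] at this
  have hw : (K4.w : K4) ≠ 0 := by decide
  have hv : (K4.v : K4) ≠ 0 := by decide
  obtain ⟨k, hk, e1, e2, e3⟩ := side_values (g 1) (g K4.w) (g K4.v) (nz _ one_ne_zero) (nz _ hw) (nz _ hv)
    (inj1 _ _ (by decide)) (inj1 _ _ (by decide)) (inj1 _ _ (by decide))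
    (fun e => inj2 1 K4.w one_ne_zero hw (by decide) (by rw [one_mul]; exact e))
    (fun e => inj2 1 K4.v one_ne_zero hv (by decide) (by rw [one_mul]; exact e))
    (inj2 K4.w K4.v hw hv (by decide))
  refine ⟨k, hk, fun c hc => ?_⟩
  have h := hg c
  rcases nonzero_cases c hc with rfl | rfl | rfl
  · rw [one_pow, mul_one]
    rwa [e1] at h
  · rw [show (K4.w : K4) ^ 2 = K4.v by decide]
    rwa [e2] at h
  · rw [show (K4.v : K4) ^ 2 = K4.w by decide]
    rwa [e3] at h

/-- A non-empty set of points of a solid, with exactly one further point on each line through one of them, does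
not exist. -/
theorem no_solid (hscale : ∀ m, ∀ c : K4, c ≠ 0 → S m → S (c • m))
    (hline : ∀ p, S p → ∀ w : Fin 4 → K4, (∀ r : K4, w ≠ r • p) →
      ∃ r : K4, S (w + r • p) ∧ ∀ r' : K4, S (w + r' • p) → r' = r)
    (h0 : S ![1, 0, 0, 0]) : False := by
  have base : ∀ a b c : K4, (a ≠ 0 ∨ b ≠ 0 ∨ c ≠ 0) → ∃ r, S ![r, a, b, c] := by
    intro a b c habc
    obtain ⟨r, hr, -⟩ := hline _ h0 ![0, a, b, c] fun r e => by
      have h1 := congrFun e 1
      have h2 := congrFun e 2
      have h3 := congrFun e 3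
      simp at h1 h2 h3
      simp [h1, h2, h3] at habc
    refine ⟨r, ?_⟩
    simpa using hr
  obtain ⟨r1, hr1⟩ := base 1 0 0 (Or.inl one_ne_zero)
  obtain ⟨r2, hr2⟩ := base 0 1 0 (Or.inr (Or.inl one_ne_zero))
  obtain ⟨r3, hr3⟩ := base 0 0 1 (Or.inr (Or.inr one_ne_zero))
  obtain ⟨k1, hk1, H1⟩ := side hscale hline (fun s a b => ![s + a * r1 + b * r2, a, b, 0])
    (fun s a b s' a' b' => by ext i; fin_cases i <;> simp; ring)
    (fun c s a b => by ext i; fin_cases i <;> simp; ring)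
    (fun s a b s' a' b' e => by
      have e0 := congrFun e 0; have e1 := congrFun e 1; have e2 := congrFun e 2
      simp at e0 e1 e2; subst e1; subst e2; exact ⟨by simpa using e0, rfl, rfl⟩)
    (by simpa using h0) (by simpa using hr1) (by simpa using hr2)
  obtain ⟨k2, hk2, H2⟩ := side hscale hline (fun s a b => ![s + a * r1 + b * r3, a, 0, b])
    (fun s a b s' a' b' => by ext i; fin_cases i <;> simp; ring)
    (fun c s a b => by ext i; fin_cases i <;> simp; ring)
    (fun s a b s' a' b' e => by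
      have e0 := congrFun e 0; have e1 := congrFun e 1; have e2 := congrFun e 3
      simp at e0 e1 e2; subst e1; subst e2; exact ⟨by simpa using e0, rfl, rfl⟩)
    (by simpa using h0) (by simpa using hr1) (by simpa using hr3)
  obtain ⟨k3, hk3, H3⟩ := side hscale hline (fun s a b => ![s + a * r2 + b * r3, 0, a, b])
    (fun s a b s' a' b' => by ext i; fin_cases i <;> simp; ring)
    (fun c s a b => by ext i; fin_cases i <;> simp; ring)
    (fun s a b s' a' b' e => by
      have e0 := congrFun e 0; have e1 := congrFun e 2; have e2 := congrFun e 3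
      simp at e0 e1 e2; subst e1; subst e2; exact ⟨by simpa using e0, rfl, rfl⟩)
    (by simpa using h0) (by simpa using hr2) (by simpa using hr3)
  obtain ⟨c, d, hc, hd, hcd⟩ := side_pick k1 k2 k3 hk1 hk2 hk3
  have p1 := H1 c hc
  have p2 := H2 d hd
  have p3 := hscale _ c hc (H3 (d * c⁻¹) (mul_ne_zero hd (inv_ne_zero hc)))
  refine no_three hscale hline p1 p2 (fun r e => ?_) one_ne_zero one_ne_zero ?_
  · have e1 := congrFun e 1
    have e2 := congrFun e 2
    simp at e1 e2
    rw [← e1] at e2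
    exact hc (by simpa using e2.symm)
  · convert p3 using 1
    have hdc : c * (d * c⁻¹) = d := by field_simp
    ext i
    fin_cases i
    · simp only [Fin.isValue, Fin.zero_eta, Pi.add_apply, Pi.smul_apply, Matrix.cons_val_zero, smul_eq_mul,
        one_mul]
      linear_combination hcd + (r3) * hdc.symm + K4.add_self r1
    · simp [K4.add_self]
    · simp
    · simp only [Fin.reduceFinMk, Fin.isValue, Pi.add_apply, Pi.smul_apply, Matrix.cons_val, smul_eq_mul,
        one_mul, zero_add]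
      exact hdc.symm

end Cfsg.Agent.FischerClassEx
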