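import Cfsg.Agent.Lib.FischerClass.Pairs

/-!
Fischer's theorem: non-commuting pairs and their common neighbours.
-/

set_option autoImplicit false

namespace Cfsg.Agent.FischerClass

open Cfsg Cfsg.Agent Cfsg.Agent.Fischer Cfsg.Agent.Fischer.Factor

universe u

variable {G : Type u} [Group G] {D : Set G}

theorem Std.xux_mem (hS : Std D) {x u : G} (hx : x ∈ D) (hu : u ∈ D) : x * u * x ∈ D := by
  have := hS.tg.2.1 x u hu
  rwa [TSet.inv hS.tset hx] at this

theorem Std.commute_third_iff (hS : Std D) {z a b : G} (ha : a ∈ D) (h : Commute z a) :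
    Commute z (a * b * a) ↔ Commute z b := by
  have e : Commute (a * z * a⁻¹) (a * b * a⁻¹) ↔ Commute z b := commute_conj_iff a z b
  rwa [conj_eq_self_of_commute h.symm, TSet.inv hS.tset ha] at e

/-- The conjugate of a pair of far members. -/
theorem Std.far_third (hS : Std D) {x u : G} (hx : x ∈ D) (hu : u ∈ D) (h : ¬ Commute x u) :
    ¬ Commute x (x * u * x) := fun h' => h ((hS.commute_third_iff hx (Commute.refl x)).1 h')

variable [Finite G]

/-- Any two pairs of non-commuting members are conjugate. -/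
theorem Std.far_move (hS : Std D) {p q x u : G} (hp : p ∈ D) (hq : q ∈ D) (hpq : ¬ Commute p q)
    (hx : x ∈ D) (hu : u ∈ D) (hxu : ¬ Commute x u) :
    ∃ k : G, k * p * k⁻¹ = x ∧ k * q * k⁻¹ = u := by
  obtain ⟨g, hg⟩ := hS.trans p hp x hx
  have hnc : ¬ Commute x (g * q * g⁻¹) := fun h => hpq (by rwa [← hg, commute_conj_iff] at h)
  obtain ⟨m, hm, hmu⟩ := prim_trans_noncommuting hS.tg hS.prim hS.width hx (g * q * g⁻¹)
    (hS.tg.2.1 g q hq) u hu hnc hxu
  refine ⟨m * g, ?_, ?_⟩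
  · rw [show m * g * p * (m * g)⁻¹ = m * (g * p * g⁻¹) * m⁻¹ by group, hg,
      conj_eq_self_of_commute (commute_of_mem_commClosure hm)]
  · rw [show m * g * q * (m * g)⁻¹ = m * (g * q * g⁻¹) * m⁻¹ by group, hmu]

/-- Every two non-commuting members have two commuting common neighbours. -/
theorem Loc.edge_of_far (hL : Loc D) {x u : G} (hx : x ∈ D) (hu : u ∈ D) (hxu : ¬ Commute x u) :
    ∃ a ∈ D, ∃ b ∈ D, a ≠ b ∧ Commute a b ∧ a ∈ Nb D x ∧ a ∈ Nb D u ∧ b ∈ Nb D x ∧ b ∈ Nb D u := by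
  obtain ⟨p, hp, q, hq, d, hd, e, he, hpq, hde, cde, cdp, cdq, cep, ceq⟩ := hL.exists_edge
  obtain ⟨k, hkp, hkq⟩ := hL.far_move hp hq hpq hx hu hxu
  have mem : ∀ {z : G}, z ∈ D → Commute z p → Commute z q →
      k * z * k⁻¹ ∈ Nb D x ∧ k * z * k⁻¹ ∈ Nb D u := fun {z} hz h1 h2 => by
    have n1 : z ≠ p := fun e => hpq (e ▸ h2)
    have n2 : z ≠ q := fun e => hpq (e ▸ h1).symm
    exact ⟨hkp ▸ nb_conj hL.tg k ⟨hz, n1, h1.symm⟩, hkq ▸ nb_conj hL.tg k ⟨hz, n2, h2.symm⟩⟩
  exact ⟨_, (mem hd cdp cdq).1.1, _, (mem he cep ceq).1.1,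
    fun h => hde (mul_left_cancel (mul_right_cancel h)), (commute_conj_iff k d e).2 cde,
    (mem hd cdp cdq).1, (mem hd cdp cdq).2, (mem he cep ceq).1, (mem he cep ceq).2⟩

omit [Finite G] in
/-- Without a common neighbour the three members of a line and a fourth one are the only obstruction. -/
theorem syOn_of_meet (hS : Std D) (hloc : ∀ t ∈ D, SyOn (Nb D t))
    (hmeet : ∀ z ∈ D, ∀ a ∈ D, ∀ b ∈ D, ¬ Commute a b → ¬ Commute z a → ¬ Commute z b →
      ∃ e ∈ D, Commute e z ∧ Commute e a ∧ Commute e b) : SyOn D := by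
  intro a ha b hb hab z hz
  by_cases h1 : Commute z a
  · rw [nc_of_commute h1, zero_add]
    by_cases h2 : Commute z b
    · rw [nc_of_commute h2, nc_of_commute ((hS.commute_third_iff ha h1).2 h2)]
      exact add_zero 0
    · rw [nc_of_not h2, nc_of_not fun h => h2 ((hS.commute_third_iff ha h1).1 h)]
      exact CharTwo.add_self_eq_zero 1
  by_cases h2 : Commute z b
  · have hb' : a * b * a = b * a * b := TSet.braid hS.tset ha hb hab
    rw [nc_of_commute h2, add_zero, nc_of_not h1, hb',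
      nc_of_not fun h => h1 ((hS.commute_third_iff hb h2).1 h)]
    exact CharTwo.add_self_eq_zero 1
  by_cases h3 : Commute z (a * b * a)
  · rw [nc_of_commute h3, nc_of_not h1, nc_of_not h2, add_zero]
    exact CharTwo.add_self_eq_zero 1
  obtain ⟨e, he, cez, cea, ceb⟩ := hmeet z hz a ha b hb hab h1 h2
  have nez : z ≠ e := fun h => h1 (h ▸ cea)
  have nea : a ≠ e := fun h => h1 (h ▸ cez).symm
  have neb : b ≠ e := fun h => h2 (h ▸ cez).symm
  exact hloc e he a ⟨ha, nea, cea⟩ b ⟨hb, neb, ceb⟩ hab z ⟨hz, nez, cez⟩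

end Cfsg.Agent.FischerClass
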