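import Cfsg.Agent.Lib.FischerClass.ExcludeUnitary
import Cfsg.Agent.Lib.FischerClass.ExcludeSolid
import Cfsg.Agent.Lib.FischerClass.FarPairs

/-!
Fischer's theorem: a unitary neighbour quotient of dimension at least eight is impossible.
-/

set_option autoImplicit false

namespace Cfsg.Agent.FischerClassEx

open Cfsg Cfsg.Agent Cfsg.Agent.Fischer Cfsg.Agent.Fischer.Factor Cfsg.Agent.FischerClass
open Cfsg.Agent.RigidGraph.He
open Cfsg.Agent.FischerTwins (hf ptr Par push)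

universe u

variable {n : ℕ}

/-- Coordinates on a totally isotropic solid, in eight coordinates. -/
def dbl (m : Fin 4 → K4) : Fin 8 → K4 := ![m 0, m 0, m 1, m 1, m 2, m 2, m 3, m 3]

theorem hf_dbl (m m' : Fin 4 → K4) : hf 8 (dbl m) (dbl m') = 0 := by
  simp [FischerTwins.hf_def, Fin.sum_univ_eight, dbl, K4.add_self, add_assoc]

theorem dbl_add (m m' : Fin 4 → K4) : dbl (m + m') = dbl m + dbl m' := by
  ext i; fin_cases i <;> rfl

theorem dbl_smul (c : K4) (m : Fin 4 → K4) : dbl (c • m) = c • dbl m := by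
  ext i; fin_cases i <;> rfl

theorem dbl_inj {m m' : Fin 4 → K4} (h : dbl m = dbl m') : m = m' := by
  ext i
  fin_cases i
  exacts [congrFun h 0, congrFun h 2, congrFun h 4, congrFun h 6]

variable {G : Type u} [Group G] [Finite G] {D : Set G}

theorem no_big (hL : Loc D) {d : G} (hd : d ∈ D) (h8 : 8 ≤ n) (hU : IsUn (img D d) n) : False := by
  have hn : 0 < n := by omega
  have he : Function.Injective (Fin.castLE h8) := Fin.castLE_injective h8
  let ι : (Fin 4 → K4) → (Fin n → K4) := fun m => push (Fin.castLE h8) (dbl m)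
  have ι_add : ∀ m m', ι (m + m') = ι m + ι m' := fun m m' => by
    simp only [ι, dbl_add, FischerTwins.push_add]
  have ι_smul : ∀ (c : K4) m, ι (c • m) = c • ι m := fun c m => by
    simp only [ι, dbl_smul, FischerTwins.push_smul]
  have ι_hf : ∀ m m', hf n (ι m) (ι m') = 0 := fun m m' => by
    simp only [ι, FischerTwins.hf_push_push he, hf_dbl]
  have ι_inj : ∀ m m', ι m = ι m' → m = m' := fun m m' e => dbl_inj (funext fun i => by
    have := congrFun e (Fin.castLE h8 i)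
    simpa only [ι, FischerTwins.push_apply he] using this)
  have ι_ne : ∀ m, m ≠ 0 → ι m ≠ 0 := fun m hm e => hm (ι_inj m 0 (by
    rw [e, show (0 : Fin 4 → K4) = (0 : K4) • m from (zero_smul _ m).symm, ι_smul, zero_smul]))
  -- a far pair and one of its common neighbours
  obtain ⟨u, hu, hxu⟩ : ∃ u ∈ D, ¬ Commute d u := by
    by_contra hno
    push Not at hno
    have : d ∈ Subgroup.center G := mem_center_of_commute_gen hL.tg.2.2 hno
    rw [hL.cz, Subgroup.mem_bot] at this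
    exact TSet.ne_one hL.tset hd this
  obtain ⟨a, ha, -, -, -, -, hax, hau, -, -⟩ := hL.edge_of_far hd hu hxu
  have he0 : (![1, 0, 0, 0] : Fin 4 → K4) ≠ 0 := fun e => one_ne_zero (congrFun e 0)
  obtain ⟨φ, L, hφa⟩ := exists_lab hL.toStd (fun t ht => hL.std_img ht) hd hn hU hd hax (ι_hf _ _)
    (ι_ne _ he0)
  let S : (Fin 4 → K4) → Prop := fun m => ∃ y ∈ Nb D d, y ∈ Nb D u ∧ Par (ι m) (φ y)
  have hscale : ∀ m, ∀ c : K4, c ≠ 0 → S m → S (c • m) := by
    rintro m c hc ⟨y, hy, hyu, h⟩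
    refine ⟨y, hy, hyu, Par.trans (Par.symm ⟨c, hc, ι_smul c m⟩) h⟩
  refine no_solid (S := S) hscale (fun p hp w hw => ?_) ⟨a, hax, hau, hφa⟩
  obtain ⟨b, hbx, hbu, hpb⟩ := hp
  have hb : b ∈ D := hbx.1
  have hw0 : w ≠ 0 := fun e => hw 0 (by rw [e, zero_smul])
  obtain ⟨y, hy, hwy⟩ := L.surj (ι w) (ι_ne w hw0) (ι_hf _ _)
  have hby : b ≠ y := fun e => by
    subst e
    obtain ⟨c, hc, hcv⟩ := hpb.trans hwy.symm
    rw [← ι_smul] at hcv
    exact hw c (ι_inj _ _ hcv)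
  have hcy : Commute b y := (L.comm b hbx y hy).2 ((hpb.hf_left _).2 ((hwy.hf_right _).2 (ι_hf _ _)))
  have hxb : d ∈ Nb D b := ⟨hd, hbx.2.1.symm, hbx.2.2.symm⟩
  obtain ⟨χ, M, -⟩ := exists_lab hL.toStd (fun t ht => hL.std_img ht) hd hn hU hb hxb (ι_hf _ _) (ι_ne _ he0)
  obtain ⟨c, ⟨⟨hcx, hcb⟩, hsp, hcu⟩, huniq⟩ :=
    line_unique L M hd hb hu hxu hbx hbu ⟨hy, hy.1, hby.symm, hcy⟩
  obtain ⟨k, hk, hkb⟩ := hpb
  obtain ⟨k', hk', hky⟩ := hwy
  obtain ⟨r, s, hrs⟩ := Submodule.mem_span_pair.1 hsp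
  have hs : s ≠ 0 := fun e => by
    rw [e, zero_smul, add_zero] at hrs
    exact hcb.2.1 (L.inj b hbx c hcx ⟨r, fun e' => L.ne c hcx (by rw [← hrs, e', zero_smul]), hrs.symm⟩).symm
  have hφc : φ c = (s * k') • ι (w + ((s * k')⁻¹ * (r * k)) • p) := by
    rw [← hrs, hkb, hky, ι_add, ι_smul, smul_add, smul_smul, smul_smul, smul_smul, ← mul_assoc,
      mul_inv_cancel₀ (mul_ne_zero hs hk'), one_mul, add_comm]
  have hcS : Par (ι (w + ((s * k')⁻¹ * (r * k)) • p)) (φ c) := ⟨_, mul_ne_zero hs hk', hφc⟩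
  refine ⟨(s * k')⁻¹ * (r * k), ⟨c, hcx, hcu, hcS⟩, ?_⟩
  rintro r' ⟨c', hc'x, hc'u, h'⟩
  have hsub : ∀ m : K4, ι (w + m • p) = m • ι p + ι w := fun m => by rw [ι_add, ι_smul, add_comm]
  have hc'b : c' ≠ b := fun e => by
    subst e
    obtain ⟨j, hj, hjv⟩ := h'.trans (Par.symm ⟨k, hk, hkb⟩)
    rw [← ι_smul] at hjv
    have e2 := ι_inj _ _ hjv
    refine hw (j⁻¹ + r') ?_
    have e5 : w + r' • p = j⁻¹ • p := (eq_inv_smul_iff₀ hj).2 e2.symm
    rw [add_smul, ← e5, add_assoc, FischerTwins.add_self_vec, add_zero]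
  have hcomm : Commute c' b := (L.comm c' hc'x b hbx).2 ((h'.hf_left _).2
    ((Par.hf_right ⟨k, hk, hkb⟩ _).2 (ι_hf _ _)))
  have hsp' : φ c' ∈ Submodule.span K4 {φ b, φ y} := by
    obtain ⟨j, -, hjv⟩ := h'
    rw [hjv, hsub]
    refine Submodule.smul_mem _ _ (Submodule.mem_span_pair.2 ⟨r' * k⁻¹, k'⁻¹, ?_⟩)
    rw [hkb, hky, smul_smul, smul_smul, mul_assoc, inv_mul_cancel₀ hk, mul_one, inv_mul_cancel₀ hk',
      one_smul]
  have hcc := huniq c' ⟨hc'x, hc'x.1, hc'b, hcomm.symm⟩ hsp' hc'u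
  subst hcc
  obtain ⟨j, hj, hjv⟩ := h'.trans hcS.symm
  rw [← ι_smul] at hjv
  have e2 := ι_inj _ _ hjv
  rw [smul_add, smul_smul] at e2
  have e3 : (j + 1) • w = ((s * k')⁻¹ * (r * k) + j * r') • p := by
    have e4 : j • w + w = ((s * k')⁻¹ * (r * k)) • p + (j * r') • p := by
      have := congrArg (fun z => z + (j • w + ((s * k')⁻¹ * (r * k)) • p)) e2
      calc j • w + w = (w + ((s * k')⁻¹ * (r * k)) • p) + (j • w + ((s * k')⁻¹ * (r * k)) • p) := by
            rw [add_add_add_comm, FischerTwins.add_self_vec, add_zero, add_comm]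
        _ = (j • w + (j * r') • p) + (j • w + ((s * k')⁻¹ * (r * k)) • p) := this
        _ = ((s * k')⁻¹ * (r * k)) • p + (j * r') • p := by
            rw [add_add_add_comm, FischerTwins.add_self_vec, zero_add, add_comm]
    rw [add_smul, add_smul, one_smul]
    exact e4
  by_cases hj1 : j + 1 = 0
  · have : j = 1 := (by decide : ∀ p : K4, p + 1 = 0 → p = 1) _ hj1
    subst this
    rw [hj1, zero_smul, one_mul] at e3
    have hp0 : p ≠ 0 := fun e => L.ne b hbx (by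
      rw [hkb, e, show (0 : Fin 4 → K4) = (0 : K4) • p from (zero_smul _ p).symm, ι_smul, zero_smul, smul_zero])
    exact ((by decide : ∀ p q : K4, p + q = 0 → q = p) _ _ ((smul_eq_zero.1 e3.symm).resolve_right hp0))
  · exact absurd (by rw [mul_smul, ← e3, smul_smul, inv_mul_cancel₀ hj1, one_smul] :
      w = ((j + 1)⁻¹ * ((s * k')⁻¹ * (r * k) + j * r')) • p) (hw _)

end Cfsg.Agent.FischerClassEx
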