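import Cfsg.Agent.Lib.FischerClass.ExcludeFiveLab
import Cfsg.Agent.Lib.FischerClass.FarPairs

/-!
Fischer's theorem: a unitary neighbour quotient of dimension five is impossible; the field `u_five`.
-/

set_option autoImplicit false
set_option maxHeartbeats 1000000
set_option maxRecDepth 100000

namespace Cfsg.Agent.FischerClassEx

open Cfsg Cfsg.Agent Cfsg.Agent.Fischer Cfsg.Agent.Fischer.Factor Cfsg.Agent.FischerClass
open Cfsg.Agent.RigidGraph.He
open Cfsg.Agent.FischerTwins (hf Par)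
open Cfsg.Agent.FischerSolvable.Model (tv)
open Five

universe u

variable {G : Type u} [Group G] {D : Set G}

theorem conj_keep (hT : IsThreeTranspositionGroup D) {k t y : G} (hk : Commute k t) (hy : y ∈ Nb D t) :
    k * y * k⁻¹ ∈ Nb D t := by
  have := nb_conj hT k hy
  rwa [conj_eq_self_of_commute hk] at this

theorem commute_closure {S : Set G} {t k : G} (h : ∀ s ∈ S, Commute s t) (hk : k ∈ Subgroup.closure S) :
    Commute k t := by
  induction hk using Subgroup.closure_induction with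
  | mem y hy => exact h y hy
  | one => exact Commute.one_left _
  | mul a b _ _ ha hb => exact ha.mul_left hb
  | inv a _ ha => exact ha.inv_left

theorem fold_fix {n : ℕ} : ∀ (W : List (Fin n → K4)) (x : Fin n → K4), (∀ g ∈ W, hf n x g = 0) → W.foldr tv x = x
  | [], _, _ => rfl
  | g :: W, x, h => by
    rw [List.foldr_cons, fold_fix W x fun v hv => h v (List.mem_cons_of_mem _ hv),
      FischerTwins.tv_fix (h g (List.mem_cons_self ..))]

theorem shift_unique {n : ℕ} {B v : Fin n → K4} (hB : B ≠ 0) (hv : v ≠ 0) (hBv : ¬ Par B v) {g g' : K4}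
    (h : Par (v + g' • B) (v + g • B)) : g' = g := by
  obtain ⟨k, -, hk⟩ := h
  have e : (k + 1) • v = (k * g' + g) • B := by
    have h2 := congrArg (fun z => z + (k • v + g • B)) hk
    calc (k + 1) • v = v + g • B + (k • v + g • B) := by
          rw [add_add_add_comm, FischerTwins.add_self_vec, add_zero, add_smul, one_smul, add_comm]
      _ = k • (v + g' • B) + (k • v + g • B) := h2
      _ = (k * g' + g) • B := by
          rw [smul_add, smul_smul, add_add_add_comm, FischerTwins.add_self_vec, zero_add, add_smul]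
  by_cases h1 : k + 1 = 0
  · have : k = 1 := (by decide : ∀ p : K4, p + 1 = 0 → p = 1) _ h1
    subst this
    rw [h1, zero_smul, one_mul] at e
    exact (by decide : ∀ p q : K4, p + q = 0 → p = q) _ _ ((smul_eq_zero.1 e.symm).resolve_right hB)
  · have hv' : v = ((k + 1)⁻¹ * (k * g' + g)) • B := by
      rw [mul_smul, ← e, smul_smul, inv_mul_cancel₀ h1, one_smul]
    exact absurd ⟨_, fun e0 => hv (by rw [hv', e0, zero_smul]), hv'⟩ hBv

variable [Finite G]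

theorem no_five (hL : Loc D) {d : G} (hd : d ∈ D) (hU : IsUn (img D d) 5) : False := by
  classical
  have hI : ∀ t ∈ D, Std (img D t) := fun t ht => hL.std_img ht
  have hT := hL.tg
  -- the chart at the common neighbour, and the choice of the far member
  obtain ⟨a, hax⟩ := hL.nb_nonempty hd
  have hxa : d ∈ Nb D a := ⟨hd, hax.2.1.symm, hax.2.2.symm⟩
  have hA : hf 5 (toV A0) (toV A0) = 0 := (hf_toV _ _).trans base_spec.1
  have hA0 : toV A0 ≠ 0 := toV_ne base_spec.2.2.2.1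
  obtain ⟨ψ, L', hψx⟩ := exists_lab hL.toStd hI hd (by norm_num) hU hax.1 hxa hA hA0
  obtain ⟨u, hua, hψu⟩ := L'.surj (toV U0) (toV_ne base_spec.2.2.2.2) ((hf_toV _ _).trans base_spec.2.1)
  have hxu : ¬ Commute d u := fun e => base_spec.2.2.1 <| by
    rw [← hf_toV]
    exact (hψx.hf_left _).1 ((hψu.hf_right _).1 ((L'.comm d hxa u hua).1 e))
  have hu : u ∈ D := hua.1
  have hau : a ∈ Nb D u := ⟨hax.1, hua.2.1.symm, hua.2.2.symm⟩
  -- the nine common neighbours of the three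
  set P : Set G := Nb D a ∩ Nb D d ∩ Nb D u with hP
  have hq : ∀ i, ∃ p ∈ P, Par (toV (std i)) (ψ p) := by
    intro i
    obtain ⟨h1, h2, h3, h4, h5, -⟩ := std_spec i
    obtain ⟨p, hp, hpp⟩ := L'.surj (toV (std i)) (toV_ne h4) ((hf_toV _ _).trans h1)
    have c1 : Commute p d := (L'.comm p hp d hxa).2 ((hpp.hf_left _).2 ((hψx.hf_right _).2
      ((hf_toV _ _).trans h2)))
    have c2 : Commute p u := (L'.comm p hp u hua).2 ((hpp.hf_left _).2 ((hψu.hf_right _).2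
      ((hf_toV _ _).trans h3)))
    have n1 : p ≠ d := fun e => not_par h5 (by subst e; exact hψx.trans hpp.symm)
    have n2 : p ≠ u := fun e => hxu (e ▸ c1.symm)
    exact ⟨p, ⟨⟨hp, hp.1, n1, c1.symm⟩, hp.1, n2, c2.symm⟩, hpp⟩
  choose q hqP hqψ using hq
  have hPq : ∀ p ∈ P, ∃ i, p = q i := by
    rintro p ⟨⟨hpa, hpx⟩, hpu⟩
    have e := toV_ofV (ψ p)
    have c0 := L'.iso p hpa
    have c1 : hf 5 (ψ p) (toV A0) = 0 := (hψx.hf_right _).1 ((L'.comm p hpa d hxa).1 hpx.2.2.symm)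
    have c2 : hf 5 (ψ p) (toV U0) = 0 := (hψu.hf_right _).1 ((L'.comm p hpa u hua).1 hpu.2.2.symm)
    rw [← e, hf_toV] at c0 c1 c2
    rcases classify _ _ _ _ _ c0 c1 c2 with h | ⟨i, hi⟩
    · exact absurd (by rw [← e]; exact (congrArg toV h).trans toV_O) (L'.ne p hpa)
    · refine ⟨i, L'.inj p hpa (q i) (hqP i).1.1 ?_⟩
      have hi' : Par (toV (std i)) (ψ p) := e ▸ par_iff.1 hi
      exact hi'.symm.trans (hqψ i)
  have hqc : ∀ i j, i ≠ j → ¬ Commute (q i) (q j) := fun i j hij e => (std_spec i).2.2.2.2.2 j hij <| by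
    rw [← hf_toV]
    exact ((hqψ i).hf_left _).1 (((hqψ j).hf_right _).1 ((L'.comm _ (hqP i).1.1 _ (hqP j).1.1).1 e))
  have hPc : ∀ p ∈ P, ∀ r ∈ P, p * r * p⁻¹ ∈ P := by
    rintro p ⟨⟨hpa, hpx⟩, hpu⟩ r ⟨⟨hra, hrx⟩, hru⟩
    exact ⟨⟨conj_keep hT hpa.2.2.symm hra, conj_keep hT hpx.2.2.symm hrx⟩, conj_keep hT hpu.2.2.symm hru⟩
  have hPx : P ⊆ Nb D d := fun p hp => hp.1.2
  -- the normalised chart at `d`
  obtain ⟨φ₀, L₀, hφ₀a⟩ := exists_lab hL.toStd hI hd (by norm_num) hU hd hax hA hA0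
  have hperp : ∀ {φ : G → Fin 5 → K4}, ULab D d φ → Par (toV A0) (φ a) → ∀ p ∈ P,
      hf 5 (φ p) (toV A0) = 0 ∧ ¬ Par (toV A0) (φ p) := fun {φ} L hφa p hp =>
    ⟨(hφa.hf_right _).1 ((L.comm p (hPx hp) a hax).1 hp.1.1.2.2.symm),
      fun e => hp.1.1.2.1 (L.inj p (hPx hp) a hax (e.symm.trans hφa))⟩
  obtain ⟨φ₁, L₁, hφ₁a, hφ₁0⟩ : ∃ φ₁, ULab D d φ₁ ∧ Par (toV A0) (φ₁ a) ∧ Par (toV (std 0)) (φ₁ (q 0)) := by
    obtain ⟨h1, h2⟩ := hperp L₀ hφ₀a _ (hqP 0)
    have e := toV_ofV (φ₀ (q 0))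
    have h0 := L₀.iso _ (hPx (hqP 0))
    rw [← e, hf_toV] at h0
    rw [← e, hf_toV] at h1
    rcases word1 _ _ _ _ _ h0 h1 with h | h
    · rcases mult_cases h with h | h
      · exact absurd (by rw [← e]; exact (congrArg toV h).trans toV_O) (L₀.ne _ (hPx (hqP 0)))
      · exact absurd (e ▸ h) h2
    obtain ⟨W, hW, hWp⟩ := List.any_eq_true.1 h
    have hv := List.all_eq_true.1 word1_valid W hW
    have hg : ∀ g ∈ W.map toV, hf 5 g g = 0 ∧ hf 5 (toV A0) g = 0 := by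
      intro g hg
      obtain ⟨g, hgW, rfl⟩ := List.mem_map.1 hg
      have := List.all_eq_true.1 hv g hgW
      rw [Bool.and_eq_true, decide_eq_true_eq, decide_eq_true_eq, ← hf_toV, ← hf_toV] at this
      exact ⟨this.1, (FischerTwins.hf_zero_iff _ _).1 this.2⟩
    refine ⟨_, L₀.relabel_word (by norm_num) (W.map toV) (fun g h => (hg g h).1), ?_, ?_⟩
    · have := fold_par (W.map toV) hφ₀a
      rwa [fold_fix _ _ fun g h => (hg g h).2] at this
    · have := par_iff.1 hWp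
      have e' : toV ⟨φ₀ (q 0) 0, φ₀ (q 0) 1, φ₀ (q 0) 2, φ₀ (q 0) 3, φ₀ (q 0) 4⟩ = φ₀ (q 0) := e
      rw [toV_fold, e'] at this
      exact this
  have hcls : ∀ i, ∃ j t, Par (toV (add5 (std j) (sc5 t A0))) (φ₁ (q i)) := by
    intro i
    obtain ⟨h1, h2⟩ := hperp L₁ hφ₁a _ (hqP i)
    have e := toV_ofV (φ₁ (q i))
    have h0 := L₁.iso _ (hPx (hqP i))
    rw [← e, hf_toV] at h0
    rw [← e, hf_toV] at h1
    rcases class5 _ _ _ _ _ h0 h1 with h | ⟨j, t, h⟩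
    · rcases mult_cases h with h | h
      · exact absurd (by rw [← e]; exact (congrArg toV h).trans toV_O) (L₁.ne _ (hPx (hqP i)))
      · exact absurd (e ▸ h) h2
    · exact ⟨j, t, e ▸ par_iff.1 h⟩
  choose cls shf hclsf using hcls
  have hclsb : Function.Bijective cls := Finite.injective_iff_bijective.1 fun i i' h => by
    by_contra hne
    refine hqc i i' hne ((L₁.comm _ (hPx (hqP i)) _ (hPx (hqP i'))).2 ?_)
    rw [(hclsf i).hf_left, (hclsf i').hf_right, h, toV_add, toV_add, toV_sc, toV_sc]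
    simp only [FischerTwins.hf_add_left, FischerTwins.hf_add_right, FischerTwins.hf_smul_left,
      FischerTwins.hf_smul_right, hf_toV, (std_spec (cls i')).1, (std_spec (cls i')).2.1, base_spec.1,
      mul_zero, add_zero]
    rw [← hf_toV, (FischerTwins.hf_zero_iff _ _).1 ((hf_toV _ _).trans (std_spec (cls i')).2.1)]
    simp only [mul_zero, add_zero]
  obtain ⟨φ, L, hφa, hφ0, i₁, hφ1, i₂, hφ2⟩ : ∃ φ, ULab D d φ ∧ Par (toV A0) (φ a) ∧
      Par (toV (std 0)) (φ (q 0)) ∧ ∃ i₁, Par (toV (std 1)) (φ (q i₁)) ∧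
      ∃ i₂, Par (toV (std 2)) (φ (q i₂)) := by
    obtain ⟨i₁, hi₁⟩ := hclsb.2 1
    obtain ⟨i₂, hi₂⟩ := hclsb.2 2
    obtain ⟨W, hW, hWp⟩ := List.any_eq_true.1 (word2 (shf i₁) (shf i₂))
    rw [Bool.and_eq_true, Bool.and_eq_true] at hWp
    obtain ⟨⟨hw0, hw1⟩, hw2⟩ := hWp
    have hv := List.all_eq_true.1 word2_valid W hW
    have hg : ∀ g ∈ W.map toV, hf 5 g g = 0 ∧ hf 5 (toV A0) g = 0 := by
      intro g hg
      obtain ⟨g, hgW, rfl⟩ := List.mem_map.1 hg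
      have := List.all_eq_true.1 hv g hgW
      rw [Bool.and_eq_true, decide_eq_true_eq, decide_eq_true_eq, ← hf_toV, ← hf_toV] at this
      exact ⟨this.1, (FischerTwins.hf_zero_iff _ _).1 this.2⟩
    have key : ∀ {v w : V5} {y : G}, par5 w (fold5 W v) = true → Par (toV v) (φ₁ y) →
        Par (toV w) ((W.map toV).foldr tv (φ₁ y)) := fun {v w y} h h' => by
      refine (par_iff.1 h).trans ?_
      rw [toV_fold]
      exact fold_par _ h'
    refine ⟨_, L₁.relabel_word (by norm_num) (W.map toV) (fun g h => (hg g h).1), ?_, key hw0 hφ₁0,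
      i₁, key hw1 (hi₁ ▸ hclsf i₁), i₂, key hw2 (hi₂ ▸ hclsf i₂)⟩
    have := fold_par (W.map toV) hφ₁a
    rwa [fold_fix _ _ fun g h => (hg g h).2] at this
  -- the nine are the standard nine
  have hstep : ∀ {i j k : Fin 9}, par5 (std k) (tv5 (std i) (std j)) = true →
      (∃ p ∈ P, Par (toV (std i)) (φ p)) → (∃ r ∈ P, Par (toV (std j)) (φ r)) →
      ∃ w ∈ P, Par (toV (std k)) (φ w) := by
    rintro i j k h ⟨p, hp, hpp⟩ ⟨r, hr, hrr⟩
    refine ⟨_, hPc p hp r hr, ((par_iff.1 h).trans ?_).trans (L.conj p (hPx hp) r (hPx hr))⟩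
    obtain ⟨c, hc, hcp⟩ := hpp
    rw [toV_tv, hcp, FischerTwins.tv_scalar hc]
    exact hrr.tv _
  have hall : ∀ k, ∃ i, Par (toV (std k)) (φ (q i)) := by
    have s0 : ∃ p ∈ P, Par (toV (std 0)) (φ p) := ⟨_, hqP 0, hφ0⟩
    have s1 : ∃ p ∈ P, Par (toV (std 1)) (φ p) := ⟨_, hqP i₁, hφ1⟩
    have s2 : ∃ p ∈ P, Par (toV (std 2)) (φ p) := ⟨_, hqP i₂, hφ2⟩
    obtain ⟨c1, c2, c3, c4, c5, c6⟩ := closed5
    have s3 := hstep c1 s0 s1
    have s6 := hstep c2 s0 s2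
    have s8 := hstep c3 s1 s2
    have s4 := hstep c4 s1 s6
    have s7 := hstep c5 s2 s3
    have s5 := hstep c6 s2 s4
    intro k
    obtain ⟨p, hp, hpk⟩ : ∃ p ∈ P, Par (toV (std k)) (φ p) := by fin_cases k <;> assumption
    obtain ⟨i, rfl⟩ := hPq p hp
    exact ⟨i, hpk⟩
  choose idx hidx using hall
  have hidxb : Function.Bijective idx := Finite.injective_iff_bijective.1 fun k k' h => by
    by_contra hne
    refine (std_spec k).2.2.2.2.2 k' hne ?_
    rw [← hf_toV]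
    exact ((hidx k).hf_left _).1 (((hidx k').hf_right _).1 (by rw [h]; exact L.iso _ (hPx (hqP _))))
  have hstd : ∀ p ∈ P, ∃ k, Par (toV (std k)) (φ p) := fun p hp => by
    obtain ⟨i, rfl⟩ := hPq p hp
    obtain ⟨k, rfl⟩ := hidxb.2 i
    exact ⟨k, hidx k⟩
  -- the base member and its lines
  set b := q 0 with hb
  have hbP : b ∈ P := hqP 0
  have hbx : b ∈ Nb D d := hbP.1.2
  have hbu : b ∈ Nb D u := hbP.2
  have hxb : d ∈ Nb D b := ⟨hd, hbx.2.1.symm, hbx.2.2.symm⟩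
  obtain ⟨χ, M, -⟩ := exists_lab hL.toStd hI hd (by norm_num) hU hbx.1 hxb hA hA0
  set B0 : Fin 5 → K4 := toV (std 0) with hB0
  have hB00 : B0 ≠ 0 := toV_ne (std_spec 0).2.2.2.1
  have hBiso : hf 5 B0 B0 = 0 := (hf_toV _ _).trans (std_spec 0).1
  set X : Set G := Nb D d ∩ Nb D u with hX
  have onB : ∀ {v : Fin 5 → K4}, v ≠ 0 → ¬ Par B0 v → hf 5 v B0 = 0 → ∀ {c : G} {g : K4}, c ∈ Nb D d →
      Par (v + g • B0) (φ c) → c ∈ Nb D b := by
    intro v hv0 hvp hvB c g hc h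
    refine ⟨hc.1, fun e => ?_, ((L.comm c hc b hbx).2 ?_).symm⟩
    · subst e
      obtain ⟨j, hj, hjB⟩ := h.trans hφ0.symm
      rw [smul_add, smul_smul] at hjB
      have e1 : j • v = (1 + j * g) • B0 := by
        rw [add_smul, one_smul]
        nth_rw 1 [hjB]
        rw [add_assoc, FischerTwins.add_self_vec, add_zero]
      have e2 : v = (j⁻¹ * (1 + j * g)) • B0 := by rw [mul_smul, ← e1, smul_smul, inv_mul_cancel₀ hj, one_smul]
      exact hvp ⟨_, fun e0 => hv0 (by rw [e2, e0, zero_smul]), e2⟩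
    · rw [h.hf_left, hφ0.hf_right, FischerTwins.hf_add_left, FischerTwins.hf_smul_left, hvB, hBiso, mul_zero,
        add_zero]
  have huniq : ∀ v : Fin 5 → K4, v ≠ 0 → hf 5 v v = 0 → hf 5 v B0 = 0 → ¬ Par B0 v →
      ∃ g : K4, (∃ c ∈ X, Par (v + g • B0) (φ c)) ∧
        ∀ c ∈ X, ∀ g' : K4, Par (v + g' • B0) (φ c) → g' = g := by
    intro v hv0 hv hvB hvp
    obtain ⟨y, hy, hvy⟩ := L.surj v hv0 hv
    have hyb : y ∈ Nb D b := onB hv0 hvp hvB (g := 0) hy (by rw [zero_smul, add_zero]; exact hvy)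
    obtain ⟨c, ⟨⟨hcx, hcb⟩, hsp, hcu⟩, hcun⟩ := line_unique L M hd hbx.1 hu hxu hbx hbu ⟨hy, hyb⟩
    obtain ⟨r, s, hrs⟩ := Submodule.mem_span_pair.1 hsp
    obtain ⟨k, hk, hkb⟩ := hφ0
    obtain ⟨k', hk', hky⟩ := hvy
    have hs : s ≠ 0 := fun e => by
      rw [e, zero_smul, add_zero] at hrs
      exact hcb.2.1 (L.inj b hbx c hcx ⟨r, fun e' => L.ne c hcx (by rw [← hrs, e', zero_smul]), hrs.symm⟩).symm
    have hc : Par (v + ((s * k')⁻¹ * (r * k)) • B0) (φ c) := by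
      refine ⟨s * k', mul_ne_zero hs hk', ?_⟩
      rw [← hrs, hkb, hky, smul_add, smul_smul, smul_smul, smul_smul, ← mul_assoc,
        mul_inv_cancel₀ (mul_ne_zero hs hk'), one_mul, add_comm]
    refine ⟨_, ⟨c, ⟨hcx, hcu⟩, hc⟩, fun c' hc' g' h' => ?_⟩
    have hcc : c' = c := hcun c' ⟨hc'.1, onB hv0 hvp hvB hc'.1 h'⟩ (by
      obtain ⟨j, -, hj⟩ := h'
      rw [hj]
      refine Submodule.smul_mem _ _ (Submodule.mem_span_pair.2 ⟨g' * k⁻¹, k'⁻¹, ?_⟩)
      rw [hkb, hky, smul_smul, smul_smul, mul_assoc, inv_mul_cancel₀ hk, mul_one, inv_mul_cancel₀ hk',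
        one_smul, add_comm]) hc'.2
    subst hcc
    exact shift_unique hB00 hv0 hvp (h'.trans hc.symm)
  -- the scalar on the plane
  have hSd : ∀ s ∈ P, Commute s d := fun s hs => hs.1.2.2.2.symm
  have hSu : ∀ s ∈ P, Commute s u := fun s hs => hs.2.2.2.symm
  obtain ⟨z, hz, hzc⟩ := word_conj L hT hPx ((WZ.map std).map toV) (fun g hg => by
    simp only [List.mem_map] at hg
    obtain ⟨_, ⟨i, -, rfl⟩, rfl⟩ := hg
    exact ⟨_, hqP (idx i), hidx i⟩)
  have hzX : ∀ c ∈ X, z * c * z⁻¹ ∈ X := fun c hc =>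
    ⟨conj_keep hT (commute_closure hSd hz) hc.1, conj_keep hT (commute_closure hSu hz) hc.2⟩
  have hzmove : ∀ {v : V5} {c : G}, c ∈ X → Par (toV v) (φ c) →
      Par (toV (fold5 (WZ.map std) v)) (φ (z * c * z⁻¹)) := fun {v c} hc h => by
    rw [toV_fold]
    exact (fold_par _ h).trans (hzc c hc.1).2
  have hamove : ∀ {v : V5} {c : G}, c ∈ X → Par (toV v) (φ c) →
      a * c * a⁻¹ ∈ X ∧ Par (toV (tv5 A0 v)) (φ (a * c * a⁻¹)) := fun {v c} hc h => by
    refine ⟨⟨conj_keep hT hax.2.2.symm hc.1, conj_keep hT hau.2.2.symm hc.2⟩, ?_⟩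
    obtain ⟨k, hk, hka⟩ := hφa
    refine Par.trans ?_ (L.conj a hax c hc.1)
    rw [toV_tv, hka, FischerTwins.tv_scalar hk]
    exact h.tv _
  -- the fixed lines
  have hfixed : ∀ i, ∀ c ∈ X, ∀ g : K4, Par (toV (fixed i) + g • B0) (φ c) → g = 0 := by
    intro i c hc g hg
    obtain ⟨f1, f2, f3, f4, -⟩ := fixed_spec i
    obtain ⟨g₀, ⟨c₀, hc₀, hg₀⟩, hun⟩ := huniq (toV (fixed i)) (toV_ne f3) ((hf_toV _ _).trans f1)
      ((hf_toV _ _).trans f2) (not_par f4)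
    rw [hun c hc g hg]
    have h1 := hzmove hc₀ (v := add5 (fixed i) (sc5 g₀ (std 0))) (by rwa [toV_add, toV_sc])
    rw [z_valid, toV_add, toV_sc] at h1
    exact (by decide : ∀ p : K4, K4.w * p = p → p = 0) _ (hun _ (hzX c₀ hc₀) _ h1)
  -- the six lines
  obtain ⟨σ, hσ⟩ : ∃ σ : K4, ∀ t : Bool, ∀ k : K4, k ≠ 0 →
      (∃ c ∈ X, Par (toV (six σ t k)) (φ c)) ∧
      ∀ c ∈ X, ∀ g : K4, Par (toV (six 0 t k) + g • B0) (φ c) → g = k * σ := by
    obtain ⟨e1, e2, e3, e4, -⟩ := six_spec 0 false 1 one_ne_zero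
    obtain ⟨σ, ⟨c₀, hc₀, hσ₀⟩, -⟩ := huniq (toV (six 0 false 1)) (toV_ne e3) ((hf_toV _ _).trans e1)
      ((hf_toV _ _).trans e2) (not_par e4)
    have shift : ∀ t k, toV (six σ t k) = toV (six 0 t k) + (k * σ) • B0 := fun t k => by
      have h := congrArg toV (six_shift t k 0 σ)
      rw [add_zero, toV_add, toV_add, toV_sc, toV_sc, zero_smul, add_zero] at h
      exact h.symm
    have b0 : ∃ c ∈ X, Par (toV (six σ false 1)) (φ c) := ⟨c₀, hc₀, by rw [shift, one_mul]; exact hσ₀⟩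
    have bz : ∀ {t k}, (∃ c ∈ X, Par (toV (six σ t k)) (φ c)) →
        ∃ c ∈ X, Par (toV (six σ t (K4.w * k))) (φ c) := by
      rintro t k ⟨c, hc, h⟩
      exact ⟨_, hzX c hc, by rw [← z_six]; exact hzmove hc h⟩
    have ba : ∀ {k}, (∃ c ∈ X, Par (toV (six σ false k)) (φ c)) →
        ∃ c ∈ X, Par (toV (six σ true k)) (φ c) := by
      rintro k ⟨c, hc, h⟩
      obtain ⟨h1, h2⟩ := hamove hc h
      exact ⟨_, h1, by rw [← ta_six]; exact h2⟩
    have hex : ∀ t k, k ≠ (0 : K4) → ∃ c ∈ X, Par (toV (six σ t k)) (φ c) := by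
      intro t k hk
      have hk' : k = 1 ∨ k = K4.w * 1 ∨ k = K4.w * (K4.w * 1) := by revert k; decide
      cases t
      · rcases hk' with rfl | rfl | rfl
        exacts [b0, bz b0, bz (bz b0)]
      · rcases hk' with rfl | rfl | rfl
        exacts [ba b0, ba (bz b0), ba (bz (bz b0))]
    refine ⟨σ, fun t k hk => ⟨hex t k hk, fun c hc g hg => ?_⟩⟩
    obtain ⟨f1, f2, f3, f4, -⟩ := six_spec 0 t k hk
    obtain ⟨g₀, -, hun⟩ := huniq (toV (six 0 t k)) (toV_ne f3) ((hf_toV _ _).trans f1)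
      ((hf_toV _ _).trans f2) (not_par f4)
    obtain ⟨c₁, hc₁, h1⟩ := hex t k hk
    rw [shift] at h1
    exact (hun c hc g hg).trans (hun c₁ hc₁ _ h1).symm
  -- the property singling out one line
  let R : G → Prop := fun p => ∃ y ∈ X, Commute y b ∧ Commute y p ∧ ∃ p' ∈ P, ¬ Commute y p'
  have hR : ∀ p ∈ P, p ≠ b → R p → ∀ i, Par (toV (std i)) (φ p) → h5 (S5 σ) (std i) = 0 := by
    rintro p hp hpb ⟨y, hy, hyb, hyp, p', hp', hyp'⟩ i hi
    have hne : y ≠ b := fun e => by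
      subst e
      obtain ⟨j, hj⟩ := hPq p hp
      subst hj
      exact hqc 0 j (fun e0 => hpb (by rw [hb, e0])) hyp
    have e := toV_ofV (φ y)
    have c0 := L.iso y hy.1
    have c1 : hf 5 (φ y) B0 = 0 := (hφ0.hf_right _).1 ((L.comm y hy.1 b hbx).1 hyb)
    rw [← e, hf_toV] at c0
    rw [← e, hB0, hf_toV] at c1
    rcases cover5 _ _ _ _ _ c0 c1 with h | ⟨j, g, h⟩ | ⟨t, k, g, hk, h⟩
    · rcases mult_cases h with h | h
      · exact absurd (by rw [← e]; exact (congrArg toV h).trans toV_O) (L.ne y hy.1)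
      · exact absurd (L.inj y hy.1 b hbx ((e ▸ h : Par B0 (φ y)).symm.trans hφ0)) hne
    · have h' : Par (toV (fixed j) + g • B0) (φ y) := by
        have := par_iff.1 h
        have e' : toV ⟨φ y 0, φ y 1, φ y 2, φ y 3, φ y 4⟩ = φ y := e
        rw [e', toV_add, toV_sc] at this
        exact this
      have hg := hfixed j y hy g h'
      subst hg
      rw [zero_smul, add_zero] at h'
      obtain ⟨l, hl⟩ := hstd p' hp'
      exact absurd ((L.comm y hy.1 p' (hPx hp')).2 ((h'.hf_left _).2 ((hl.hf_right _).2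
        ((hf_toV _ _).trans ((fixed_spec j).2.2.2.2 l))))) hyp'
    · have h' : Par (toV (six 0 t k) + g • B0) (φ y) := by
        have := par_iff.1 h
        have e' : toV ⟨φ y 0, φ y 1, φ y 2, φ y 3, φ y 4⟩ = φ y := e
        rw [e', toV_add, toV_sc] at this
        exact this
      have hg := (hσ t k hk).2 y hy g h'
      subst hg
      have h6 : Par (toV (six σ t k)) (φ y) := by
        have e6 := congrArg toV (six_shift t k 0 σ)
        rw [add_zero, toV_add, toV_add, toV_sc, toV_sc, zero_smul, add_zero] at e6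
        rw [← e6]
        exact h'
      refine ((six_spec σ t k hk).2.2.2.2 i).1 ?_
      rw [← hf_toV]
      exact (h6.hf_left _).1 ((hi.hf_right _).1 ((L.comm y hy.1 p (hPx hp)).1 hyp))
  obtain ⟨⟨i₀, hi₀, hi₀S⟩, i', hi'S⟩ := sel_exists σ
  set p₀ := q (idx i₀) with hp₀
  have hp₀P : p₀ ∈ P := hqP _
  have hp₀φ : Par (toV (std i₀)) (φ p₀) := hidx i₀
  have hp₀b : p₀ ≠ b := fun e => (std_spec i₀).2.2.2.2.2 0 hi₀ <| by
    rw [← hf_toV]
    exact (hp₀φ.hf_left _).1 ((hφ0.hf_right _).1 (by rw [e]; exact L.iso b hbx))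
  have hp₀R : R p₀ := by
    obtain ⟨c, hc, hcφ⟩ := (hσ false 1 one_ne_zero).1
    obtain ⟨-, f2, -, -, f5⟩ := six_spec σ false 1 one_ne_zero
    refine ⟨c, hc, (L.comm c hc.1 b hbx).2 ((hcφ.hf_left _).2 ((hφ0.hf_right _).2 ((hf_toV _ _).trans f2))),
      (L.comm c hc.1 _ (hPx hp₀P)).2 ((hcφ.hf_left _).2 ((hp₀φ.hf_right _).2 ((hf_toV _ _).trans
        ((f5 i₀).2 hi₀S)))), q (idx i'), hqP _, fun e => hi'S ((f5 i').1 ?_)⟩
    rw [← hf_toV]
    exact (hcφ.hf_left _).1 (((hidx i').hf_right _).1 ((L.comm c hc.1 _ (hPx (hqP _))).1 e))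
  -- an element moving that line
  obtain ⟨g, hg, hgc⟩ := word_conj L' hT (Set.Subset.refl (Nb D a)) (W0.map toV) (fun v hv => by
    obtain ⟨w, hw, rfl⟩ := List.mem_map.1 hv
    have hwi := of_decide_eq_true (List.all_eq_true.1 w0_valid w hw)
    refine L'.surj (toV w) (toV_ne fun e => ?_) ((hf_toV _ _).trans hwi)
    subst e
    revert hw
    decide)
  have hga : Commute g a := commute_closure (fun s hs => hs.2.2.symm) hg
  have gfix : ∀ {v : V5} {y : G}, y ∈ Nb D a → Par (toV v) (ψ y) → par5 v (fold5 W0 v) = true →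
      g * y * g⁻¹ = y := fun {v y} hy h hv => by
    obtain ⟨h1, h2⟩ := hgc y hy
    refine L'.inj _ h1 y hy ((h2.symm.trans ?_).trans h)
    have := par_iff.1 hv
    rw [toV_fold] at this
    exact (fold_par _ h.symm).trans this.symm
  have hgd := gfix hxa hψx w0_spec.1
  have hgu := gfix hua hψu w0_spec.2.1
  have hgb := gfix hbP.1.1 (hqψ 0) w0_spec.2.2.1
  have comm_of : ∀ {y : G}, g * y * g⁻¹ = y → Commute g y := fun h => mul_inv_eq_iff_eq_mul.1 h
  have hgP : ∀ p ∈ P, g * p * g⁻¹ ∈ P := fun p hp =>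
    ⟨⟨conj_keep hT hga hp.1.1, conj_keep hT (comm_of hgd) hp.1.2⟩, conj_keep hT (comm_of hgu) hp.2⟩
  have hgR : R (g * p₀ * g⁻¹) := by
    obtain ⟨y, hy, hyb, hyp, p', hp', hyp'⟩ := hp₀R
    refine ⟨g * y * g⁻¹, ⟨conj_keep hT (comm_of hgd) hy.1, conj_keep hT (comm_of hgu) hy.2⟩, ?_,
      (commute_conj_iff g y p₀).2 hyp, g * p' * g⁻¹, hgP p' hp', fun e => hyp' ((commute_conj_iff g y p').1 e)⟩
    have := (commute_conj_iff g y b).2 hyb
    rwa [hgb] at this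
  set p₁ := g * p₀ * g⁻¹ with hp₁
  have hp₁P : p₁ ∈ P := hgP _ hp₀P
  have hp₁b : p₁ ≠ b := fun e => hp₀b (by
    rw [← hgb] at e
    exact mul_left_cancel (mul_right_cancel e))
  obtain ⟨i₁', hi₁'⟩ := hstd p₁ hp₁P
  have hi₁0 : i₁' ≠ 0 := fun e => hp₁b (L.inj _ (hPx hp₁P) b hbx ((e ▸ hi₁').symm.trans hφ0))
  -- where it can go
  obtain ⟨ii, hii⟩ := hPq p₀ hp₀P
  have hii0 : ii ≠ 0 := fun e => hp₀b (by rw [hii, e, hb])
  obtain ⟨-, w4⟩ := w0_spec.2.2.2 ii hii0 |> fun h => (⟨h.1, h⟩ : _ ∧ _)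
  have hψp₁ : Par (toV (fold5 W0 (std ii))) (ψ p₁) := by
    rw [toV_fold]
    refine (fold_par _ ?_).trans (hgc p₀ hp₀P.1.1).2
    rw [hii]
    exact hqψ ii
  rcases sel_unique σ i₀ i₁' hi₀ hi₁0 hi₀S (hR p₁ hp₁P hp₁b hgR i₁' hi₁') with h | h
  · subst h
    have e : p₁ = p₀ := L.inj _ (hPx hp₁P) _ (hPx hp₀P) (hi₁'.symm.trans hp₀φ)
    refine not_par w4.1 ((Par.trans ?_ hψp₁.symm))
    rw [e, hii]
    exact hqψ ii
  · have hbp : b * p₀ * b⁻¹ ∈ P := hPc b hbP p₀ hp₀P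
    have e : p₁ = b * p₀ * b⁻¹ := by
      refine L.inj _ (hPx hp₁P) _ (hPx hbp) ((hi₁'.symm.trans (par_iff.1 h).symm).trans ?_)
      refine Par.trans ?_ (L.conj b hbx p₀ (hPx hp₀P))
      obtain ⟨k, hk, hkb⟩ := hφ0
      rw [toV_tv, hkb, FischerTwins.tv_scalar hk]
      exact hp₀φ.tv _
    refine not_par w4.2 (Par.trans ?_ hψp₁.symm)
    rw [e]
    refine Par.trans ?_ (L'.conj b hbP.1.1 p₀ hp₀P.1.1)
    obtain ⟨k, hk, hkb⟩ := hqψ 0
    rw [toV_tv, hkb, FischerTwins.tv_scalar hk, hii]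
    exact (hqψ ii).tv _

/-- The field `u_five` of the facts used by the induction. -/
theorem u_five : ∀ {G : Type u} [Group G] [Finite G] {D : Set G}, Loc D → ∀ d ∈ D,
    IsUn (img D d) 5 → False :=
  fun hL _ hd h => no_five hL hd h

end Cfsg.Agent.FischerClassEx
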