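import Cfsg.Agent.Lib.RigidGraph.He.FieldFour

/-!
Vectors and words of transvections in five dimensions over four elements, and their finite checks.
-/

set_option autoImplicit false
set_option maxRecDepth 100000

namespace Cfsg.Agent.FischerClassEx.Five

open Cfsg.Agent.RigidGraph.He

/-- A vector with five coordinates. -/
structure V5 where
  a : K4
  b : K4
  c : K4
  d : K4
  e : K4
  deriving DecidableEq

/-- The conjugate. -/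
def sq : K4 → K4
  | .o => .o | .l => .l | .w => .v | .v => .w

/-- The form. -/
def h5 : V5 → V5 → K4
  | ⟨a, b, c, d, e⟩, ⟨a', b', c', d', e'⟩ => a * sq a' + b * sq b' + c * sq c' + d * sq d' + e * sq e'

/-- Sum. -/
def add5 : V5 → V5 → V5
  | ⟨a, b, c, d, e⟩, ⟨a', b', c', d', e'⟩ => ⟨a + a', b + b', c + c', d + d', e + e'⟩

/-- Multiple. -/
def sc5 : K4 → V5 → V5
  | k, ⟨a, b, c, d, e⟩ => ⟨k * a, k * b, k * c, k * d, k * e⟩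

/-- The transvection. -/
def tv5 (v x : V5) : V5 := add5 x (sc5 (h5 x v) v)

/-- A word of transvections. -/
def fold5 : List V5 → V5 → V5
  | [], x => x
  | g :: W, x => tv5 g (fold5 W x)

/-- The zero vector. -/
def O5 : V5 := ⟨.o, .o, .o, .o, .o⟩

/-- Decidable proportionality. -/
def par5 (v w : V5) : Bool :=
  decide (w = sc5 1 v) || decide (w = sc5 .w v) || decide (w = sc5 .v v)

/-- Membership in a line through the origin. -/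
def mult5 (v w : V5) : Bool := decide (w = O5) || par5 v w

/-- The point of the chosen member. -/
def A0 : V5 := ⟨.l, .l, .o, .o, .o⟩

/-- The far point. -/
def U0 : V5 := ⟨.l, .w, .o, .o, .o⟩

/-- The nine points of the unitary plane. -/
def std : Fin 9 → V5
  | 0 => ⟨.o, .o, .l, .l, .o⟩
  | 1 => ⟨.o, .o, .l, .w, .o⟩
  | 2 => ⟨.o, .o, .l, .o, .l⟩
  | 3 => ⟨.o, .o, .l, .v, .o⟩
  | 4 => ⟨.o, .o, .l, .o, .w⟩
  | 5 => ⟨.o, .o, .l, .o, .v⟩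
  | 6 => ⟨.o, .o, .o, .l, .l⟩
  | 7 => ⟨.o, .o, .o, .l, .w⟩
  | 8 => ⟨.o, .o, .o, .l, .v⟩

/-- Words moving a point to the first of the nine. -/
def W1 : List (List V5) := [
  [⟨.o, .o, .l, .o, .l⟩],
  [⟨.o, .o, .l, .o, .w⟩],
  [⟨.o, .o, .l, .o, .v⟩],
  [⟨.o, .o, .o, .l, .l⟩],
  [⟨.o, .o, .o, .l, .w⟩],
  [⟨.o, .o, .o, .l, .v⟩],
  [],
  [⟨.o, .o, .l, .v, .o⟩],
  [⟨.o, .o, .l, .w, .o⟩],
  [⟨.l, .l, .l, .o, .l⟩],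
  [⟨.l, .l, .l, .o, .w⟩],
  [⟨.l, .l, .l, .o, .v⟩],
  [⟨.l, .l, .w, .o, .l⟩],
  [⟨.l, .l, .w, .o, .w⟩],
  [⟨.l, .l, .w, .o, .v⟩],
  [⟨.l, .l, .v, .o, .l⟩],
  [⟨.l, .l, .v, .o, .w⟩],
  [⟨.l, .l, .v, .o, .v⟩],
  [⟨.l, .l, .o, .l, .l⟩],
  [⟨.l, .l, .o, .l, .w⟩],
  [⟨.l, .l, .o, .l, .v⟩],
  [⟨.o, .o, .o, .l, .l⟩, ⟨.l, .l, .o, .l, .l⟩],
  [⟨.l, .l, .w, .l, .o⟩],
  [⟨.l, .l, .v, .l, .o⟩],
  [⟨.l, .l, .o, .w, .l⟩],
  [⟨.l, .l, .o, .w, .w⟩],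
  [⟨.l, .l, .o, .w, .v⟩],
  [⟨.l, .l, .l, .w, .o⟩],
  [⟨.o, .o, .o, .l, .l⟩, ⟨.l, .l, .o, .w, .w⟩],
  [⟨.l, .l, .v, .w, .o⟩],
  [⟨.l, .l, .o, .v, .l⟩],
  [⟨.l, .l, .o, .v, .w⟩],
  [⟨.l, .l, .o, .v, .v⟩],
  [⟨.l, .l, .l, .v, .o⟩],
  [⟨.l, .l, .w, .v, .o⟩],
  [⟨.o, .o, .o, .l, .l⟩, ⟨.l, .l, .o, .v, .v⟩]]

/-- Words moving two more points to their places. -/
def W2 : List (List V5) := [
  [],
  [⟨.o, .o, .o, .l, .l⟩, ⟨.o, .o, .o, .l, .w⟩, ⟨.l, .l, .o, .l, .v⟩, ⟨.l, .l, .o, .w, .v⟩],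
  [⟨.o, .o, .o, .l, .l⟩, ⟨.o, .o, .o, .l, .w⟩, ⟨.l, .l, .o, .l, .w⟩, ⟨.l, .l, .o, .w, .w⟩],
  [⟨.o, .o, .o, .l, .l⟩, ⟨.o, .o, .o, .l, .w⟩, ⟨.l, .l, .o, .l, .l⟩, ⟨.l, .l, .o, .w, .l⟩],
  [⟨.o, .o, .o, .l, .l⟩, ⟨.o, .o, .l, .o, .l⟩, ⟨.l, .l, .o, .l, .v⟩, ⟨.l, .l, .l, .v, .o⟩],
  [⟨.o, .o, .o, .l, .l⟩, ⟨.o, .o, .l, .o, .w⟩, ⟨.l, .l, .o, .l, .w⟩, ⟨.l, .l, .l, .v, .o⟩],
  [⟨.o, .o, .l, .l, .o⟩, ⟨.l, .l, .v, .v, .o⟩],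
  [⟨.o, .o, .o, .l, .l⟩, ⟨.o, .o, .l, .o, .v⟩, ⟨.l, .l, .o, .l, .l⟩, ⟨.l, .l, .l, .v, .o⟩],
  [⟨.o, .o, .o, .l, .l⟩, ⟨.o, .o, .l, .o, .l⟩, ⟨.l, .l, .o, .l, .w⟩, ⟨.l, .l, .l, .w, .o⟩],
  [⟨.o, .o, .o, .l, .l⟩, ⟨.o, .o, .l, .o, .v⟩, ⟨.l, .l, .o, .l, .v⟩, ⟨.l, .l, .l, .w, .o⟩],
  [⟨.o, .o, .o, .l, .l⟩, ⟨.o, .o, .l, .o, .w⟩, ⟨.l, .l, .o, .l, .l⟩, ⟨.l, .l, .l, .w, .o⟩],
  [⟨.o, .o, .l, .l, .o⟩, ⟨.l, .l, .w, .w, .o⟩],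
  [⟨.o, .o, .o, .l, .l⟩, ⟨.o, .o, .l, .o, .l⟩, ⟨.l, .l, .o, .w, .l⟩, ⟨.l, .l, .w, .l, .o⟩],
  [⟨.o, .o, .l, .l, .o⟩, ⟨.l, .l, .l, .l, .o⟩],
  [⟨.o, .o, .o, .l, .l⟩, ⟨.o, .o, .l, .o, .v⟩, ⟨.l, .l, .o, .w, .w⟩, ⟨.l, .l, .w, .l, .o⟩],
  [⟨.o, .o, .o, .l, .l⟩, ⟨.o, .o, .l, .o, .w⟩, ⟨.l, .l, .o, .w, .v⟩, ⟨.l, .l, .w, .l, .o⟩]]

/-- A word acting as a scalar on the plane. -/
def WZ : List (Fin 9) := [4, 2, 1, 0]

/-- A word moving the lines through the first point. -/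
def W0 : List V5 := [⟨.o, .l, .o, .o, .l⟩, ⟨.o, .l, .v, .v, .w⟩, ⟨.o, .l, .v, .v, .v⟩, ⟨.o, .l, .o, .o, .w⟩]

/-- The shifted point outside the plane. -/
def S5 (s : K4) : V5 := add5 ⟨.o, .o, .o, .o, .l⟩ (sc5 s (std 0))

/-- The six shifted representatives, by side and scalar. -/
def six (s : K4) (t : Bool) (k : K4) : V5 :=
  add5 (if t then ⟨.o, .l, .o, .o, .o⟩ else ⟨.l, .o, .o, .o, .o⟩) (sc5 k (S5 s))

/-- The three fixed representatives. -/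
def fixed : Fin 3 → V5
  | 0 => A0
  | 1 => U0
  | 2 => ⟨.l, .v, .o, .o, .o⟩

/-- Representatives of the lines through the first point. -/
def rep : Fin 3 ⊕ (Bool × K4) → V5
  | .inl i => fixed i
  | .inr p => six 0 p.1 p.2

theorem classify : ∀ a b c d e : K4, h5 ⟨a, b, c, d, e⟩ ⟨a, b, c, d, e⟩ = 0 → h5 ⟨a, b, c, d, e⟩ A0 = 0 →
    h5 ⟨a, b, c, d, e⟩ U0 = 0 → (⟨a, b, c, d, e⟩ : V5) = O5 ∨ ∃ i, par5 (std i) ⟨a, b, c, d, e⟩ = true := by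
  decide +kernel

theorem std_spec : ∀ i, h5 (std i) (std i) = 0 ∧ h5 (std i) A0 = 0 ∧ h5 (std i) U0 = 0 ∧ std i ≠ O5 ∧
    par5 A0 (std i) = false ∧ ∀ j, i ≠ j → h5 (std i) (std j) ≠ 0 := by
  decide +kernel

theorem base_spec : h5 A0 A0 = 0 ∧ h5 U0 U0 = 0 ∧ h5 A0 U0 ≠ 0 ∧ A0 ≠ O5 ∧ U0 ≠ O5 := by decide +kernel

theorem class5 : ∀ a b c d e : K4, h5 ⟨a, b, c, d, e⟩ ⟨a, b, c, d, e⟩ = 0 → h5 ⟨a, b, c, d, e⟩ A0 = 0 →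
    mult5 A0 ⟨a, b, c, d, e⟩ = true ∨
      ∃ i, ∃ t, par5 (add5 (std i) (sc5 t A0)) ⟨a, b, c, d, e⟩ = true := by
  decide +kernel

theorem word1_valid : W1.all (fun W => W.all fun g => decide (h5 g g = 0) && decide (h5 g A0 = 0)) = true := by
  decide +kernel

theorem word1 : ∀ a b c d e : K4, h5 ⟨a, b, c, d, e⟩ ⟨a, b, c, d, e⟩ = 0 → h5 ⟨a, b, c, d, e⟩ A0 = 0 →
    mult5 A0 ⟨a, b, c, d, e⟩ = true ∨
      W1.any (fun W => par5 (std 0) (fold5 W ⟨a, b, c, d, e⟩)) = true := by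
  decide +kernel

theorem word2_valid : W2.all (fun W => W.all fun g => decide (h5 g g = 0) && decide (h5 g A0 = 0)) = true := by
  decide +kernel

theorem word2 : ∀ s t : K4, W2.any (fun W => par5 (std 0) (fold5 W (std 0)) &&
    par5 (std 1) (fold5 W (add5 (std 1) (sc5 s A0))) &&
    par5 (std 2) (fold5 W (add5 (std 2) (sc5 t A0)))) = true := by
  decide +kernel

theorem closed5 : par5 (std 3) (tv5 (std 0) (std 1)) = true ∧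
    par5 (std 6) (tv5 (std 0) (std 2)) = true ∧
    par5 (std 8) (tv5 (std 1) (std 2)) = true ∧
    par5 (std 4) (tv5 (std 1) (std 6)) = true ∧
    par5 (std 7) (tv5 (std 2) (std 3)) = true ∧
    par5 (std 5) (tv5 (std 2) (std 4)) = true := by
  decide +kernel

theorem cover5 : ∀ a b c d e : K4, h5 ⟨a, b, c, d, e⟩ ⟨a, b, c, d, e⟩ = 0 → h5 ⟨a, b, c, d, e⟩ (std 0) = 0 →
    mult5 (std 0) ⟨a, b, c, d, e⟩ = true ∨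
      (∃ i g, par5 (add5 (fixed i) (sc5 g (std 0))) ⟨a, b, c, d, e⟩ = true) ∨
      ∃ t k g, k ≠ (0 : K4) ∧ par5 (add5 (six 0 t k) (sc5 g (std 0))) ⟨a, b, c, d, e⟩ = true := by
  decide +kernel

theorem z_valid : ∀ i, ∀ g : K4, fold5 (WZ.map std) (add5 (fixed i) (sc5 g (std 0))) =
    add5 (fixed i) (sc5 (.w * g) (std 0)) := by
  decide +kernel

theorem z_six : ∀ s t k, fold5 (WZ.map std) (six s t k) = six s t (.w * k) := by decide +kernel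

theorem ta_six : ∀ s k, tv5 A0 (six s false k) = six s true k := by decide +kernel

theorem fixed_spec : ∀ i, h5 (fixed i) (fixed i) = 0 ∧ h5 (fixed i) (std 0) = 0 ∧ fixed i ≠ O5 ∧
    par5 (std 0) (fixed i) = false ∧ (∀ j, h5 (fixed i) (std j) = 0) := by
  decide +kernel

theorem fixed_rigid : ∀ i, ∀ g : K4,
    par5 (add5 (fixed i) (sc5 g (std 0))) (add5 (fixed i) (sc5 (.w * g) (std 0))) = true → g = 0 := by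
  decide +kernel

theorem six_spec : ∀ s t k, k ≠ (0 : K4) → h5 (six s t k) (six s t k) = 0 ∧ h5 (six s t k) (std 0) = 0 ∧
    six s t k ≠ O5 ∧ par5 (std 0) (six s t k) = false ∧
    (∀ i, h5 (six s t k) (std i) = 0 ↔ h5 (S5 s) (std i) = 0) := by
  decide +kernel

theorem six_shift : ∀ t k g, ∀ s, add5 (six 0 t k) (sc5 (k * s + g) (std 0)) =
    add5 (six s t k) (sc5 g (std 0)) := by
  decide +kernel

theorem w0_valid : W0.all (fun g => decide (h5 g g = 0)) = true := by decide +kernel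

theorem w0_spec : par5 A0 (fold5 W0 A0) = true ∧ par5 U0 (fold5 W0 U0) = true ∧
    par5 (std 0) (fold5 W0 (std 0)) = true ∧
    ∀ i, i ≠ 0 → par5 (std i) (fold5 W0 (std i)) = false ∧
      par5 (tv5 (std 0) (std i)) (fold5 W0 (std i)) = false := by
  decide +kernel

theorem sel_unique : ∀ s, ∀ i j : Fin 9, i ≠ 0 → j ≠ 0 → h5 (S5 s) (std i) = 0 → h5 (S5 s) (std j) = 0 →
    j = i ∨ par5 (tv5 (std 0) (std i)) (std j) = true := by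
  decide +kernel

theorem sel_exists : ∀ s, (∃ i : Fin 9, i ≠ 0 ∧ h5 (S5 s) (std i) = 0) ∧ ∃ i, h5 (S5 s) (std i) ≠ 0 := by
  decide +kernel

end Cfsg.Agent.FischerClassEx.Five
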