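import Cfsg.Agent.Lib.FischerClass.ExcludeUnitary
import Cfsg.Agent.Lib.FischerClass.ExcludeFiveData

/-!
Fischer's theorem: labellings in five dimensions, in coordinates, and words of transvections acting
through conjugation.
-/

set_option autoImplicit false

namespace Cfsg.Agent.FischerClassEx

open Cfsg Cfsg.Agent Cfsg.Agent.Fischer Cfsg.Agent.Fischer.Factor Cfsg.Agent.FischerClass
open Cfsg.Agent.RigidGraph.He
open Cfsg.Agent.FischerTwins (hf Par)
open Cfsg.Agent.FischerSolvable.Model (tv)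

universe u

namespace Five

/-- The vector with the given coordinates. -/
def toV : V5 → Fin 5 → K4
  | ⟨a, b, c, d, e⟩ => ![a, b, c, d, e]

/-- The coordinates of a vector. -/
def ofV (v : Fin 5 → K4) : V5 := ⟨v 0, v 1, v 2, v 3, v 4⟩

theorem toV_ofV (v : Fin 5 → K4) : toV (ofV v) = v := by
  ext i; fin_cases i <;> rfl

theorem toV_inj {v w : V5} (h : toV v = toV w) : v = w := by
  obtain ⟨a, b, c, d, e⟩ := v
  obtain ⟨a', b', c', d', e'⟩ := w
  have h0 := congrFun h 0; have h1 := congrFun h 1; have h2 := congrFun h 2; have h3 := congrFun h 3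
  have h4 := congrFun h 4
  simp [toV] at h0 h1 h2 h3 h4
  simp [h0, h1, h2, h3, h4]

theorem sq_eq : ∀ a : K4, sq a = a ^ 2 := by decide

theorem hf_toV (v w : V5) : hf 5 (toV v) (toV w) = h5 v w := by
  obtain ⟨a, b, c, d, e⟩ := v
  obtain ⟨a', b', c', d', e'⟩ := w
  simp [FischerTwins.hf_def, Fin.sum_univ_five, toV, h5, sq_eq]

theorem toV_add (v w : V5) : toV (add5 v w) = toV v + toV w := by
  obtain ⟨a, b, c, d, e⟩ := v
  obtain ⟨a', b', c', d', e'⟩ := w
  ext i; fin_cases i <;> rfl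

theorem toV_sc (k : K4) (v : V5) : toV (sc5 k v) = k • toV v := by
  obtain ⟨a, b, c, d, e⟩ := v
  ext i; fin_cases i <;> rfl

theorem toV_O : toV O5 = 0 := by ext i; fin_cases i <;> rfl

theorem toV_ne {v : V5} (h : v ≠ O5) : toV v ≠ 0 := fun e => h (toV_inj (e.trans toV_O.symm))

theorem toV_tv (v x : V5) : toV (tv5 v x) = tv (toV v) (toV x) := by
  rw [tv5, toV_add, toV_sc, FischerTwins.tv_eq, hf_toV]

theorem toV_fold : ∀ (W : List V5) (x : V5), toV (fold5 W x) = (W.map toV).foldr tv (toV x)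
  | [], _ => rfl
  | g :: W, x => by rw [fold5, toV_tv, toV_fold W x, List.map_cons, List.foldr_cons]

theorem par_iff {v w : V5} : par5 v w = true ↔ Par (toV v) (toV w) := by
  constructor
  · intro h
    rw [par5, Bool.or_eq_true, Bool.or_eq_true, decide_eq_true_eq, decide_eq_true_eq, decide_eq_true_eq] at h
    rcases h with (rfl | rfl) | rfl
    exacts [⟨1, one_ne_zero, toV_sc _ _⟩, ⟨K4.w, by decide, toV_sc _ _⟩, ⟨K4.v, by decide, toV_sc _ _⟩]
  · rintro ⟨k, hk, h⟩
    rw [← toV_sc] at h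
    have h' := toV_inj h
    rw [par5, Bool.or_eq_true, Bool.or_eq_true, decide_eq_true_eq, decide_eq_true_eq, decide_eq_true_eq]
    rcases (by decide : ∀ k : K4, k ≠ 0 → k = 1 ∨ k = K4.w ∨ k = K4.v) k hk with rfl | rfl | rfl
    exacts [Or.inl (Or.inl h'), Or.inl (Or.inr h'), Or.inr h']

theorem not_par {v w : V5} (h : par5 v w = false) : ¬ Par (toV v) (toV w) := fun e => by
  rw [par_iff.2 e] at h
  cases h

theorem mult_cases {v w : V5} (h : mult5 v w = true) : w = O5 ∨ Par (toV v) (toV w) := by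
  rw [mult5, Bool.or_eq_true, decide_eq_true_eq] at h
  exact h.imp_right par_iff.1

end Five

variable {n : ℕ} {G : Type u} [Group G] {D : Set G}

theorem fold_par : ∀ (W : List (Fin n → K4)) {v w : Fin n → K4}, Par v w → Par (W.foldr tv v) (W.foldr tv w)
  | [], _, _, h => h
  | g :: W, _, _, h => by
    rw [List.foldr_cons, List.foldr_cons]
    exact (fold_par W h).tv g

/-- A word of transvections is conjugation by an element of the group of the members along it. -/
theorem word_conj {t : G} {φ : G → Fin n → K4} (L : ULab D t φ) (hT : IsThreeTranspositionGroup D)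
    {S : Set G} (hS : S ⊆ Nb D t) :
    ∀ (W : List (Fin n → K4)), (∀ g ∈ W, ∃ y ∈ S, Par g (φ y)) → ∃ k ∈ Subgroup.closure S,
      ∀ y ∈ Nb D t, k * y * k⁻¹ ∈ Nb D t ∧ Par (W.foldr tv (φ y)) (φ (k * y * k⁻¹))
  | [], _ => ⟨1, one_mem _, fun y hy => by simpa using ⟨hy, Par.refl _⟩⟩
  | g :: W, hW => by
    obtain ⟨k, hk, hkW⟩ := word_conj L hT hS W fun v hv => hW v (List.mem_cons_of_mem _ hv)
    obtain ⟨s, hs, hgs⟩ := hW g (List.mem_cons_self ..)
    refine ⟨s * k, mul_mem (Subgroup.subset_closure hs) hk, fun y hy => ?_⟩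
    obtain ⟨hy', hp⟩ := hkW y hy
    have hmem : s * (k * y * k⁻¹) * s⁻¹ ∈ Nb D t := by
      have := nb_conj hT s hy'
      rwa [conj_eq_self_of_commute (hS hs).2.2.symm] at this
    have e : s * k * y * (s * k)⁻¹ = s * (k * y * k⁻¹) * s⁻¹ := by group
    rw [e]
    refine ⟨hmem, ?_⟩
    rw [List.foldr_cons]
    refine ((hp.tv g).trans ?_).trans (L.conj s (hS hs) _ hy')
    obtain ⟨c, hc, hcv⟩ := hgs
    rw [hcv, FischerTwins.tv_scalar hc]
    exact Par.refl _

end Cfsg.Agent.FischerClassEx
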