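import Cfsg.Agent.Lib.FischerClass.ExcludeSrg
import Cfsg.Agent.Lib.FischerUnique24.Count

/-!
Fischer's theorem: a neighbour quotient of type M(24) is impossible.
-/

set_option autoImplicit false
set_option maxRecDepth 100000

namespace Cfsg.Agent.FischerClassEx

open Cfsg Cfsg.Agent Cfsg.Agent.Fischer Cfsg.Agent.Fischer.Factor Cfsg.Agent.FischerClass

universe u

theorem bad24_all : ∀ a : Fin 10, ∀ b : Fin 4, ∀ c : Fin 3, ∀ d : Fin 2, ∀ e : Fin 2, ∀ f : Fin 2, ∀ g : Fin 2,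
    badMu 306936 31671
      (2 ^ (a : ℕ) * 3 ^ (b : ℕ) * 7 ^ (c : ℕ) * 11 ^ (d : ℕ) * 17 ^ (e : ℕ) * 23 ^ (f : ℕ) * 29 ^ (g : ℕ)) =
      true := by
  decide +kernel

theorem bad24 (m : ℕ) (h : m ∣ 306936 * (306936 - 31671 - 1)) : badMu 306936 31671 m = true := by
  rw [show 306936 * (306936 - 31671 - 1) = 2 ^ 9 * 3 ^ 3 * 7 ^ 2 * 11 ^ 1 * 17 ^ 1 * 23 ^ 1 * 29 ^ 1 by norm_num,
    Nat.dvd_mul] at h
  obtain ⟨m6, p7, h6, h7, rfl⟩ := h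
  rw [Nat.dvd_mul] at h6
  obtain ⟨m5, p6, h5, h6, rfl⟩ := h6
  rw [Nat.dvd_mul] at h5
  obtain ⟨m4, p5, h4, h5, rfl⟩ := h5
  rw [Nat.dvd_mul] at h4
  obtain ⟨m3, p4, h3, h4, rfl⟩ := h4
  rw [Nat.dvd_mul] at h3
  obtain ⟨m2, p3, h2, h3, rfl⟩ := h3
  rw [Nat.dvd_mul] at h2
  obtain ⟨p1, p2, h1, h2, rfl⟩ := h2
  obtain ⟨a, ha, rfl⟩ := (Nat.dvd_prime_pow (by norm_num)).1 h1
  obtain ⟨b, hb, rfl⟩ := (Nat.dvd_prime_pow (by norm_num)).1 h2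
  obtain ⟨c, hc, rfl⟩ := (Nat.dvd_prime_pow (by norm_num)).1 h3
  obtain ⟨d, hd, rfl⟩ := (Nat.dvd_prime_pow (by norm_num)).1 h4
  obtain ⟨e, he, rfl⟩ := (Nat.dvd_prime_pow (by norm_num)).1 h5
  obtain ⟨f, hf, rfl⟩ := (Nat.dvd_prime_pow (by norm_num)).1 h6
  obtain ⟨g, hg, rfl⟩ := (Nat.dvd_prime_pow (by norm_num)).1 h7
  exact bad24_all ⟨a, by omega⟩ ⟨b, by omega⟩ ⟨c, by omega⟩ ⟨d, by omega⟩ ⟨e, by omega⟩ ⟨f, by omega⟩
    ⟨g, by omega⟩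

/-- The field `m24` of the facts used by the induction. -/
theorem m24 : ∀ {G : Type u} [Group G] [Finite G] {D : Set G}, Loc D → ∀ d ∈ D,
    IsOfTypeM24 (Q D d) (img D d) → False := by
  intro G _ _ D hL d hd h
  have hS := hL.std_img hd
  obtain ⟨r, -, C⟩ := FischerUnique24.exists_ctx hS.tg hS.prim h
  exact false_of_bad hL hd C.card_class (fun A hA => C.card_nb hA) bad24

end Cfsg.Agent.FischerClassEx
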