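import Cfsg.Agent.Lib.FischerClass.Count
import Cfsg.Agent.Lib.FischerClass.Charts
import Cfsg.Agent.Lib.FischerClassTy.SrgTrace

/-!
Fischer's theorem: the conditions on the parameters of the commuting graph, given the number of members
and the valency in the neighbour quotient.
-/

set_option autoImplicit false

namespace Cfsg.Agent.FischerClassEx

open Cfsg Cfsg.Agent Cfsg.Agent.Fischer Cfsg.Agent.Fischer.Factor Cfsg.Agent.FischerClass
open Cfsg.Agent.FischerUnique24 (IsChart)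
open Matrix

universe u

variable {G : Type u} [Group G] [Finite G] {D : Set G}

theorem exists_far (hS : Std D) {x : G} (hx : x ∈ D) : ∃ u ∈ D, ¬ Commute x u := by
  by_contra hno
  push Not at hno
  have : x ∈ Subgroup.center G := mem_center_of_commute_gen hS.tg.2.2 hno
  rw [hS.cz, Subgroup.mem_bot] at this
  exact TSet.ne_one hS.tset hx this

/-- The two counts at every member from those of the neighbour quotient. -/
theorem nb_counts (hS : Std D) {d : G} (hd : d ∈ D) {k l : ℕ} (hk : (img D d).ncard = k)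
    (hl : ∀ A ∈ img D d, (Nb (img D d) A).ncard = l) :
    ∀ t ∈ D, (Nb D t).ncard = k ∧ ∀ a ∈ Nb D t, (Nb D t ∩ Nb D a).ncard = l := by
  intro t ht
  obtain ⟨f, hf⟩ := hS.exists_chart hd ht
  refine ⟨?_, fun a ha => ?_⟩
  · have e : f '' Nb D t = img D d := Set.Subset.antisymm (by rintro _ ⟨y, hy, rfl⟩; exact hf.mem y hy)
      fun z hz => hf.lift z hz
    rw [← hk, ← e, Set.InjOn.ncard_image fun a ha b hb => hf.inj a ha b hb]
  · rw [← hl _ (hf.mem a ha), ← hf.nb_inter ha, Set.InjOn.ncard_image fun p hp q hq => hf.inj p hp.1 q hq.1]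

/-- The parameters of the commuting graph: an integrality condition on the common neighbours of a far pair. -/
theorem param (hS : Std D) {k l : ℕ}
    (hcnt : ∀ t ∈ D, (Nb D t).ncard = k ∧ ∀ a ∈ Nb D t, (Nb D t ∩ Nb D a).ncard = l)
    {x u : G} (hx : x ∈ D) (hu : u ∈ D) (hxu : ¬ Commute x u) :
    ∃ o m : ℕ, m = (Nb D x ∩ Nb D u).ncard ∧ o * m = k * (k - l - 1) ∧ m < k ∧ 0 < o ∧
      ∃ q : ℤ, (((l : ℤ) - m) ^ 2 + 4 * ((k : ℤ) - m)) * q ^ 2 =
        (2 * (k : ℤ) + ((k : ℤ) + o) * ((l : ℤ) - m)) ^ 2 := by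
  classical
  haveI : Fintype D := Fintype.ofFinite _
  haveI : Nonempty D := ⟨⟨x, hx⟩⟩
  set m := (Nb D x ∩ Nb D u).ncard with hm
  set o := (far D x).ncard with ho
  have hall : ∀ v ∈ D, ∀ w ∈ D, ¬ Commute v w → (Nb D v ∩ Nb D w).ncard = m := fun v hv w hw hvw => by
    obtain ⟨g, hg1, hg2⟩ := hS.far_move hx hu hxu hv hw hvw
    have := nb_inter_conj hS g x u
    rwa [hg1, hg2] at this
  have hom : o * m = k * (k - l - 1) :=
    far_mul hS hx (fun t ht => (hcnt t ht).1) (hcnt x hx).2 fun w hw => hall x hx w hw.1 hw.2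
  have hmk : m < k := by
    rw [← (hcnt x hx).1]
    refine Set.ncard_lt_ncard (Set.inter_subset_left.ssubset_of_ne fun e => ?_)
    have hsub : Nb D x ⊆ Nb D u := Set.inter_eq_left.1 e
    have heq : Nb D x = Nb D u := Set.eq_of_subset_of_ncard_le hsub (by rw [(hcnt x hx).1, (hcnt u hu).1])
    have hux : u = x := hS.nbr_trivial hx (w := u) ⟨hu, fun y hy =>
      ⟨fun h => (heq.le ⟨hy, h⟩).2, fun h => (heq.ge ⟨hy, h⟩).2⟩⟩
    exact hxu (hux ▸ Commute.refl x)
  have hcardD : Fintype.card D = 1 + k + o := by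
    have e : insert x (Nb D x) ∪ far D x = D := by
      refine Set.Subset.antisymm ?_ fun y hy => ?_
      · rintro y ((rfl | hy) | hy)
        exacts [hx, hy.1, hy.1]
      · by_cases hc : Commute x y
        · by_cases e : y = x
          exacts [Or.inl (Or.inl e), Or.inl (Or.inr ⟨hy, e, hc⟩)]
        · exact Or.inr ⟨hy, hc⟩
    have hd : Disjoint (insert x (Nb D x)) (far D x) := by
      rw [Set.disjoint_left]
      rintro y (rfl | hy) hy'
      exacts [hy'.2 (Commute.refl _), hy'.2 hy.2.2]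
    rw [← Nat.card_eq_fintype_card, Nat.card_coe_set_eq]
    conv_lhs => rw [← e]
    rw [Set.ncard_union_eq hd, Set.ncard_insert_of_notMem (fun h => h.2.1 rfl), (hcnt x hx).1, ← ho]
    omega
  let A : Matrix D D ℝ := Matrix.of fun v w => if (w : G) ∈ Nb D v then 1 else 0
  have sym : ∀ v w : D, (w : G) ∈ Nb D v ↔ (v : G) ∈ Nb D w := fun v w =>
    ⟨fun h => ⟨v.2, h.2.1.symm, h.2.2.symm⟩, fun h => ⟨w.2, h.2.1.symm, h.2.2.symm⟩⟩
  have card_sub : ∀ S : Set G, S ⊆ D →
      ((Finset.univ : Finset D).filter fun w : D => (w : G) ∈ S).card = S.ncard := by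
    intro S hS'
    rw [← Set.ncard_coe_finset]
    refine Set.ncard_congr (fun (w : D) _ => (w : G)) (fun w hw => by simpa using hw)
      (fun a b _ _ e => Subtype.ext e) fun y hy => ⟨⟨y, hS' hy⟩, by simpa using hy, rfl⟩
  have hrow : ∀ v, ∑ w, A v w = (((k : ℤ)) : ℝ) := fun v => by
    simp only [A, Matrix.of_apply]
    rw [Finset.sum_boole, card_sub (Nb D v) (fun y hy => hy.1), (hcnt v v.2).1]
    push_cast
    rfl
  have hsq : A * A = ((((k : ℤ)) : ℝ) - ((m : ℤ) : ℝ)) • (1 : Matrix D D ℝ) +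
      (((l : ℤ) : ℝ) - ((m : ℤ) : ℝ)) • A + ((m : ℤ) : ℝ) • Matrix.of (fun _ _ => (1 : ℝ)) := by
    ext v w
    have hvw : (A * A) v w = ((Nb D v ∩ Nb D w).ncard : ℝ) := by
      rw [Matrix.mul_apply, ← card_sub (Nb D v ∩ Nb D w) (fun y hy => hy.1.1), ← Finset.sum_boole]
      refine Finset.sum_congr rfl fun z _ => ?_
      simp only [A, Matrix.of_apply, Set.mem_inter_iff, sym z w]
      split_ifs <;> simp_all
    rw [hvw]
    simp only [Matrix.add_apply, Matrix.smul_apply, Matrix.one_apply, Matrix.of_apply, A, smul_eq_mul]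
    by_cases e : v = w
    · subst e
      rw [Set.inter_self, (hcnt v v.2).1, if_pos rfl, if_neg fun h => h.2.1 rfl]
      push_cast
      ring
    have e' : (v : G) ≠ w := fun h => e (Subtype.ext h)
    by_cases hc : Commute (v : G) (w : G)
    · have hmem : (w : G) ∈ Nb D v := ⟨w.2, e'.symm, hc⟩
      rw [(hcnt v v.2).2 w hmem, if_neg e, if_pos hmem]
      push_cast
      ring
    · rw [hall v v.2 w w.2 hc, if_neg e, if_neg fun h => hc h.2.2]
      push_cast
      ring
  have hpos : (0 : ℤ) < ((l : ℤ) - m) ^ 2 + 4 * ((k : ℤ) - m) :=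
    add_pos_of_nonneg_of_pos (sq_nonneg _) (by omega)
  obtain ⟨q, hq⟩ := FischerClassTy.srg_trace (A := A) hcardD hrow (fun w => by
    rw [← hrow w]
    refine Finset.sum_congr rfl fun v _ => ?_
    simp only [A, Matrix.of_apply, sym v w]) (fun v => by
    simp only [A, Matrix.of_apply]
    exact if_neg fun h => h.2.1 rfl) hsq hpos
  refine ⟨o, m, hm, hom, hmk, (Set.ncard_pos).2 ⟨u, hu, hxu⟩, q, ?_⟩
  rw [hq]
  push_cast
  ring

/-! ### Excluding candidates by a finite check -/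

/-- The candidates `m` rejected: too large, or the trace condition fails. -/
def badMu (k l m : ℕ) : Bool :=
  Nat.ble k m ||
    (let d := (if m ≤ l then (l - m) ^ 2 else (m - l) ^ 2) + 4 * (k - m)
     let s := Nat.sqrt d
     let a := 2 * k + (k + k * (k - l - 1) / m) * l
     let b := (k + k * (k - l - 1) / m) * m
     !(Nat.beq a b) && (!(Nat.beq (s * s) d) || !(Nat.beq ((if b ≤ a then a - b else b - a) % s) 0)))

theorem badMu_spec {k l o m : ℕ} (h : badMu k l m = true) (hm : 0 < m) (hmk : m < k)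
    (hom : o * m = k * (k - l - 1))
    {q : ℤ} (hq : (((l : ℤ) - m) ^ 2 + 4 * ((k : ℤ) - m)) * q ^ 2 =
      (2 * (k : ℤ) + ((k : ℤ) + o) * ((l : ℤ) - m)) ^ 2) : False := by
  have hdiv : k * (k - l - 1) / m = o := by rw [← hom]; exact Nat.mul_div_cancel o hm
  rw [badMu, Bool.or_eq_true] at h
  rcases h with h | h
  · exact absurd (Nat.le_of_ble_eq_true h) (by omega)
  simp only [hdiv, Bool.and_eq_true, Bool.or_eq_true, Bool.not_eq_true'] at h
  obtain ⟨hab, h⟩ := h
  set a := 2 * k + (k + o) * l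
  set b := (k + o) * m
  have hab' : a ≠ b := fun e => by rw [e, Nat.beq_refl] at hab; cases hab
  set t : ℤ := 2 * (k : ℤ) + ((k : ℤ) + o) * ((l : ℤ) - m) with ht
  have htab : (a : ℤ) - b = t := by simp only [a, b, ht]; push_cast; ring
  have ht0 : t ≠ 0 := fun h0 => hab' (by omega)
  set d := (if m ≤ l then (l - m) ^ 2 else (m - l) ^ 2) + 4 * (k - m) with hd
  have hcast : (d : ℤ) = ((l : ℤ) - m) ^ 2 + 4 * ((k : ℤ) - m) := by
    rw [hd]
    split_ifs with h1
    · rw [Nat.cast_add, Nat.cast_pow, Nat.cast_mul, Nat.cast_sub h1, Nat.cast_sub hmk.le]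
      rfl
    · rw [Nat.cast_add, Nat.cast_pow, Nat.cast_mul, Nat.cast_sub (by omega : l ≤ m), Nat.cast_sub hmk.le]
      push_cast
      ring
  rw [← hcast] at hq
  obtain ⟨s, hs⟩ := Fischer.SrgSquare.exists_sqrt ht0 hq
  have hsq : Nat.sqrt d = s := by rw [hs, Nat.sqrt_eq']
  have hst : (s : ℤ) ∣ t := by
    rw [hs, Nat.cast_pow, ← mul_pow] at hq
    exact (Int.pow_dvd_pow_iff two_ne_zero).1 (hq ▸ pow_dvd_pow_of_dvd (dvd_mul_right (s : ℤ) q) 2)
  have hmod : (if b ≤ a then a - b else b - a) % s = 0 := by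
    refine Nat.mod_eq_zero_of_dvd (Int.natCast_dvd_natCast.1 ?_)
    split_ifs with h1
    · rwa [Nat.cast_sub h1, htab]
    · rw [Nat.cast_sub (by omega : a ≤ b), show (b : ℤ) - a = -t by omega]
      exact (dvd_neg).2 hst
  rw [hsq, hmod] at h
  have hss : s * s = d := by rw [hs]; ring
  rw [hss] at h
  rcases h with h | h
  · rw [Nat.beq_refl] at h; cases h
  · rw [Nat.beq_refl] at h; cases h

/-- No admissible number of common neighbours. -/
theorem false_of_counts (hL : Loc D) {d : G} (hd : d ∈ D) {k l : ℕ}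
    (hcnt : ∀ t ∈ D, (Nb D t).ncard = k ∧ ∀ a ∈ Nb D t, (Nb D t ∩ Nb D a).ncard = l)
    (hbad : ∀ m : ℕ, m ∣ k * (k - l - 1) → badMu k l m = true) : False := by
  obtain ⟨u, hu, hdu⟩ := exists_far hL.toStd hd
  obtain ⟨o, m, hm, hom, hmk, -, q, hq⟩ := param hL.toStd hcnt hd hu hdu
  have hm0 : 0 < m := by
    obtain ⟨a, -, -, -, -, -, ha1, ha2, -, -⟩ := hL.edge_of_far hd hu hdu
    rw [hm]
    exact (Set.ncard_pos).2 ⟨a, ha1, ha2⟩
  exact badMu_spec (hbad m ⟨o, by rw [← hom, mul_comm]⟩) hm0 hmk hom hq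

theorem false_of_bad (hL : Loc D) {d : G} (hd : d ∈ D) {k l : ℕ} (hk : (img D d).ncard = k)
    (hl : ∀ A ∈ img D d, (Nb (img D d) A).ncard = l)
    (hbad : ∀ m : ℕ, m ∣ k * (k - l - 1) → badMu k l m = true) : False :=
  false_of_counts hL hd (nb_counts hL.toStd hd hk hl) hbad

end Cfsg.Agent.FischerClassEx
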