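import Cfsg.Agent.Lib.FischerClass.ExcludeUnitary
import Cfsg.Agent.Lib.FischerClass.ExcludeSrg
import Cfsg.Agent.Lib.FischerClass.ExcludeBig

/-!
Fischer's theorem: a unitary neighbour quotient of dimension seven is impossible; the field `u_large`.
-/

set_option autoImplicit false
set_option maxRecDepth 100000

namespace Cfsg.Agent.FischerClassEx

open Cfsg Cfsg.Agent Cfsg.Agent.Fischer Cfsg.Agent.Fischer.Factor Cfsg.Agent.FischerClass
open Cfsg.Agent.RigidGraph.He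
open Cfsg.Agent.FischerTwins (hf Par)

universe u

theorem hf_cons {n : ℕ} (a : K4) (w : Fin n → K4) (b : K4) (w' : Fin n → K4) :
    hf (n + 1) (Fin.cons a w) (Fin.cons b w') = a * b ^ 2 + hf n w w' := by
  simp only [FischerTwins.hf_def, Fin.sum_univ_succ, Fin.cons_zero, Fin.cons_succ]

/-- The number of vectors of given norm. -/
noncomputable def normCount (n : ℕ) (s : K4) : ℕ := Nat.card {v : Fin n → K4 // hf n v v = s}

theorem normCount_succ (n : ℕ) (s : K4) :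
    normCount (n + 1) s = ∑ a : K4, normCount n (s + a * a ^ 2) := by
  rw [normCount]
  refine (Nat.card_congr (β := Σ a : K4, {w : Fin n → K4 // hf n w w = s + a * a ^ 2}) ?_).trans Nat.card_sigma
  refine
    { toFun := fun v => ⟨v.1 0, Fin.tail v.1, ?_⟩
      invFun := fun p => ⟨Fin.cons p.1 p.2.1, ?_⟩
      left_inv := fun v => Subtype.ext (Fin.cons_self_tail v.1)
      right_inv := fun p => by
        obtain ⟨a, w, hw⟩ := p
        exact Sigma.subtype_ext (by simp) (by simp) }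
  · have h := v.2
    rw [← Fin.cons_self_tail v.1, hf_cons] at h
    exact (by decide : ∀ p q r : K4, p + q = r → q = r + p) _ _ _ h
  · rw [hf_cons, p.2.2, add_comm s, ← add_assoc, K4.add_self, zero_add]

theorem normCount_zero : normCount 0 0 = 1 ∧ normCount 0 1 = 0 := by
  constructor
  · rw [normCount, Nat.card_eq_one_iff_unique]
    exact ⟨⟨fun a b => Subtype.ext (Subsingleton.elim _ _)⟩, ⟨⟨0, FischerTwins.hf_zero_left _⟩⟩⟩
  · rw [normCount, Nat.card_eq_zero]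
    refine Or.inl ⟨fun v => ?_⟩
    have h := v.2
    rw [Subsingleton.elim v.1 0, FischerTwins.hf_zero_left] at h
    exact one_ne_zero h.symm

theorem univ_K4 : (Finset.univ : Finset K4) = {0, 1, K4.w, K4.v} := by decide

theorem normCount_step (n : ℕ) : normCount (n + 1) 0 = normCount n 0 + 3 * normCount n 1 ∧
    normCount (n + 1) 1 = normCount n 1 + 3 * normCount n 0 := by
  have e0 : ((0 : K4) + 0 * 0 ^ 2) = 0 := by decide
  have e1 : ((0 : K4) + 1 * 1 ^ 2) = 1 := by decide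
  have e2 : ((0 : K4) + K4.w * K4.w ^ 2) = 1 := by decide
  have e3 : ((0 : K4) + K4.v * K4.v ^ 2) = 1 := by decide
  have f0 : ((1 : K4) + 0 * 0 ^ 2) = 1 := by decide
  have f1 : ((1 : K4) + 1 * 1 ^ 2) = 0 := by decide
  have f2 : ((1 : K4) + K4.w * K4.w ^ 2) = 0 := by decide
  have f3 : ((1 : K4) + K4.v * K4.v ^ 2) = 0 := by decide
  constructor <;>
  · rw [normCount_succ, univ_K4, Finset.sum_insert (by decide), Finset.sum_insert (by decide),
      Finset.sum_insert (by decide), Finset.sum_singleton]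
    simp only [e0, e1, e2, e3, f0, f1, f2, f3]
    ring

theorem normCount_five_seven : normCount 5 0 = 496 ∧ normCount 7 0 = 8128 := by
  obtain ⟨a0, b0⟩ := normCount_zero
  obtain ⟨a1, b1⟩ := normCount_step 0
  obtain ⟨a2, b2⟩ := normCount_step 1
  obtain ⟨a3, b3⟩ := normCount_step 2
  obtain ⟨a4, b4⟩ := normCount_step 3
  obtain ⟨a5, b5⟩ := normCount_step 4
  obtain ⟨a6, b6⟩ := normCount_step 5
  obtain ⟨a7, -⟩ := normCount_step 6
  simp only [show (0 : ℕ) + 1 = 1 from rfl, show 1 + 1 = 2 from rfl, show 2 + 1 = 3 from rfl,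
    show 3 + 1 = 4 from rfl, show 4 + 1 = 5 from rfl, show 5 + 1 = 6 from rfl, show 6 + 1 = 7 from rfl] at *
  omega

/-- The standard isotropic point. -/
def A7 : Fin 7 → K4 := Fin.cons 1 (Fin.cons 1 0)

theorem A7_iso : hf 7 A7 A7 = 0 := by
  rw [A7, hf_cons, hf_cons, FischerTwins.hf_zero_left]
  decide

theorem A7_ne : A7 ≠ 0 := fun e => one_ne_zero (congrFun e 0)

theorem card_perp : Nat.card {v : Fin 7 → K4 // hf 7 v v = 0 ∧ hf 7 v A7 = 0} = 4 * 496 := by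
  have hA : ∀ (a b : K4) (w : Fin 5 → K4),
      hf 7 (Fin.cons a (Fin.cons b w)) A7 = a + b := fun a b w => by
    rw [A7, hf_cons, hf_cons, FischerTwins.hf_zero_right, one_pow, mul_one, mul_one, add_zero]
  have hN : ∀ (a : K4) (w : Fin 5 → K4), hf 7 (Fin.cons a (Fin.cons a w)) (Fin.cons a (Fin.cons a w)) = hf 5 w w := by
    intro a w
    rw [hf_cons, hf_cons, ← add_assoc, K4.add_self, zero_add]
  have hform : ∀ v : Fin 7 → K4, hf 7 v A7 = 0 → v = Fin.cons (v 0) (Fin.cons (v 0) (Fin.tail (Fin.tail v))) := by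
    intro v h
    have e : v = Fin.cons (v 0) (Fin.cons (Fin.tail v 0) (Fin.tail (Fin.tail v))) := by
      rw [Fin.cons_self_tail, Fin.cons_self_tail]
    rw [e, hA] at h
    rwa [← (by decide : ∀ p q : K4, p + q = 0 → p = q) _ _ h] at e
  let eqv : {v : Fin 7 → K4 // hf 7 v v = 0 ∧ hf 7 v A7 = 0} ≃ K4 × {w : Fin 5 → K4 // hf 5 w w = 0} :=
    { toFun := fun v => (v.1 0, ⟨Fin.tail (Fin.tail v.1), by
        have h := v.2.1
        rwa [hform v.1 v.2.2, hN] at h⟩)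
      invFun := fun p => ⟨Fin.cons p.1 (Fin.cons p.1 p.2.1), by rw [hN]; exact p.2.2, by rw [hA, K4.add_self]⟩
      left_inv := fun v => Subtype.ext (hform v.1 v.2.2).symm
      right_inv := fun p => Prod.ext (by simp) (Subtype.ext (by simp)) }
  rw [Nat.card_congr eqv,
    Nat.card_prod, show Nat.card {w : Fin 5 → K4 // hf 5 w w = 0} = 496 from normCount_five_seven.1,
    Nat.card_eq_fintype_card, K4.card_K4]

variable {n : ℕ} {G : Type u} [Group G] [Finite G] {D : Set G}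

omit [Finite G] in
/-- Members correspond three to one to vectors. -/
theorem three_mul_card {t : G} {φ : G → Fin n → K4} (L : ULab D t φ) (S : Set G) (hS : S ⊆ Nb D t)
    (P : (Fin n → K4) → Prop) (hP : ∀ v w, Par v w → P v → P w) (hmem : ∀ y ∈ Nb D t, y ∈ S ↔ P (φ y)) :
    3 * S.ncard = Nat.card {v : Fin n → K4 // v ≠ 0 ∧ hf n v v = 0 ∧ P v} := by
  have h3 : Nat.card {c : K4 // c ≠ 0} = 3 := by rw [Nat.card_eq_fintype_card]; decide
  rw [← h3, ← Nat.card_coe_set_eq, ← Nat.card_prod]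
  refine Nat.card_congr (Equiv.ofBijective (fun p => ⟨p.1.1 • φ p.2.1, ?_, ?_, ?_⟩) ⟨?_, ?_⟩)
  · exact smul_ne_zero p.1.2 (L.ne _ (hS p.2.2))
  · exact (Par.hf_self (⟨p.1.1, p.1.2, rfl⟩ : Par (φ p.2.1) _)).2 (L.iso _ (hS p.2.2))
  · exact hP _ _ ⟨p.1.1, p.1.2, rfl⟩ ((hmem _ (hS p.2.2)).1 p.2.2)
  · rintro ⟨⟨c, hc⟩, y, hy⟩ ⟨⟨c', hc'⟩, y', hy'⟩ h
    have h' : c • φ y = c' • φ y' := congrArg Subtype.val h
    have : y = y' := L.inj y (hS hy) y' (hS hy') (Par.trans ⟨c, hc, rfl⟩ (Par.symm ⟨c', hc', h'⟩))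
    subst this
    have : c = c' := smul_left_injective K4 (L.ne y (hS hy)) h'
    subst this
    rfl
  · rintro ⟨v, hv0, hv, hPv⟩
    obtain ⟨y, hy, h⟩ := L.surj v hv0 hv
    obtain ⟨c, hc, hcy⟩ := h.symm
    exact ⟨⟨⟨c, hc⟩, y, (hmem y hy).2 (hP _ _ h hPv)⟩, Subtype.ext hcy.symm⟩

theorem bad7_all : ∀ a : Fin 12, ∀ b : Fin 3, ∀ c : Fin 2, ∀ d : Fin 2,
    badMu 2709 660 (2 ^ (a : ℕ) * 3 ^ (b : ℕ) * 7 ^ (c : ℕ) * 43 ^ (d : ℕ)) = true := by
  decide +kernel

theorem bad7 (m : ℕ) (h : m ∣ 2709 * (2709 - 660 - 1)) : badMu 2709 660 m = true := by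
  rw [show 2709 * (2709 - 660 - 1) = 2 ^ 11 * 3 ^ 2 * 7 ^ 1 * 43 ^ 1 by norm_num, Nat.dvd_mul] at h
  obtain ⟨m3, p4, h3, h4, rfl⟩ := h
  rw [Nat.dvd_mul] at h3
  obtain ⟨m2, p3, h2, h3, rfl⟩ := h3
  rw [Nat.dvd_mul] at h2
  obtain ⟨p1, p2, h1, h2, rfl⟩ := h2
  obtain ⟨a, ha, rfl⟩ := (Nat.dvd_prime_pow (by norm_num)).1 h1
  obtain ⟨b, hb, rfl⟩ := (Nat.dvd_prime_pow (by norm_num)).1 h2
  obtain ⟨c, hc, rfl⟩ := (Nat.dvd_prime_pow (by norm_num)).1 h3
  obtain ⟨d, hd, rfl⟩ := (Nat.dvd_prime_pow (by norm_num)).1 h4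
  exact bad7_all ⟨a, by omega⟩ ⟨b, by omega⟩ ⟨c, by omega⟩ ⟨d, by omega⟩

theorem no_seven (hL : Loc D) {d : G} (hd : d ∈ D) (hU : IsUn (img D d) 7) : False := by
  have hcnt : ∀ t ∈ D, (Nb D t).ncard = 2709 ∧ ∀ a ∈ Nb D t, (Nb D t ∩ Nb D a).ncard = 660 := by
    intro t ht
    have hpart : ∀ a ∈ Nb D t, ∃ φ : G → Fin 7 → K4, ULab D t φ ∧ Par A7 (φ a) := fun a ha =>
      exists_lab hL.toStd (fun r hr => hL.std_img hr) hd (by norm_num) hU ht ha A7_iso A7_ne
    refine ⟨?_, fun a ha => ?_⟩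
    · obtain ⟨a, ha⟩ := hL.nb_nonempty ht
      obtain ⟨φ, L, -⟩ := hpart a ha
      have h := three_mul_card L (Nb D t) le_rfl (fun _ => True) (fun _ _ _ h => h) fun y hy => iff_of_true hy trivial
      have e : Nat.card {v : Fin 7 → K4 // v ≠ 0 ∧ hf 7 v v = 0 ∧ True} = 8127 := by
        have hset : {v : Fin 7 → K4 | v ≠ 0 ∧ hf 7 v v = 0 ∧ True} =
            {v : Fin 7 → K4 | hf 7 v v = 0} \ {0} := by
          ext v; simp [and_comm]
        calc Nat.card {v : Fin 7 → K4 // v ≠ 0 ∧ hf 7 v v = 0 ∧ True}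
            = {v : Fin 7 → K4 | v ≠ 0 ∧ hf 7 v v = 0 ∧ True}.ncard := Nat.card_coe_set_eq _
          _ = ({v : Fin 7 → K4 | hf 7 v v = 0} \ {0}).ncard := by rw [hset]
          _ = {v : Fin 7 → K4 | hf 7 v v = 0}.ncard - 1 :=
            Set.ncard_sdiff_singleton_of_mem (FischerTwins.hf_zero_left _)
          _ = 8127 := by
            rw [← Nat.card_coe_set_eq, show Nat.card {v : Fin 7 → K4 | hf 7 v v = 0} = 8128 from
              normCount_five_seven.2]
      omega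
    · obtain ⟨φ, L, hφ⟩ := hpart a ha
      have h := three_mul_card L (Nb D t ∩ Nb D a) Set.inter_subset_left
        (fun v => hf 7 v A7 = 0 ∧ ¬ Par A7 v)
        (fun v w hvw hv => ⟨(hvw.hf_left _).2 hv.1, fun e => hv.2 (e.trans hvw.symm)⟩)
        (fun y hy => by
          constructor
          · rintro ⟨-, hya⟩
            exact ⟨(hφ.hf_right _).1 ((L.comm y hy a ha).1 hya.2.2.symm),
              fun e => hya.2.1 (L.inj a ha y hy (hφ.symm.trans e)).symm⟩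
          · rintro ⟨h1, h2⟩
            exact ⟨hy, hy.1, fun e => h2 (e ▸ hφ), ((L.comm y hy a ha).2 ((hφ.hf_right _).2 h1)).symm⟩)
      have e : Nat.card {v : Fin 7 → K4 // v ≠ 0 ∧ hf 7 v v = 0 ∧ hf 7 v A7 = 0 ∧ ¬ Par A7 v} = 1980 := by
        set M : Set (Fin 7 → K4) := Set.range fun c : K4 => c • A7
        have hset : {v : Fin 7 → K4 | v ≠ 0 ∧ hf 7 v v = 0 ∧ hf 7 v A7 = 0 ∧ ¬ Par A7 v} =
            {v : Fin 7 → K4 | hf 7 v v = 0 ∧ hf 7 v A7 = 0} \ M := by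
          ext v
          simp only [Set.mem_ofPred_eq, Set.mem_sdiff, M, Set.mem_range]
          constructor
          · rintro ⟨h0, h1, h2, h3⟩
            refine ⟨⟨h1, h2⟩, fun ⟨c, hc⟩ => h3 ⟨c, fun e => h0 (by rw [← hc, e, zero_smul]), hc.symm⟩⟩
          · rintro ⟨⟨h1, h2⟩, h3⟩
            exact ⟨fun e => h3 ⟨0, by rw [e, zero_smul]⟩, h1, h2, fun ⟨c, _, hc⟩ => h3 ⟨c, hc.symm⟩⟩
        calc Nat.card {v : Fin 7 → K4 // v ≠ 0 ∧ hf 7 v v = 0 ∧ hf 7 v A7 = 0 ∧ ¬ Par A7 v}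
            = {v : Fin 7 → K4 | v ≠ 0 ∧ hf 7 v v = 0 ∧ hf 7 v A7 = 0 ∧ ¬ Par A7 v}.ncard := Nat.card_coe_set_eq _
          _ = ({v : Fin 7 → K4 | hf 7 v v = 0 ∧ hf 7 v A7 = 0} \ M).ncard := by rw [hset]
          _ = {v : Fin 7 → K4 | hf 7 v v = 0 ∧ hf 7 v A7 = 0}.ncard - M.ncard := Set.ncard_sdiff (by
            rintro _ ⟨c, rfl⟩
            simp only [Set.mem_ofPred_eq, FischerTwins.hf_smul_left, FischerTwins.hf_smul_right, A7_iso,
              mul_zero, and_self])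
          _ = 1980 := by
            rw [← Nat.card_coe_set_eq, show Nat.card {v : Fin 7 → K4 | hf 7 v v = 0 ∧ hf 7 v A7 = 0} = 4 * 496
              from card_perp, Set.ncard_range_of_injective (smul_left_injective K4 A7_ne),
              Nat.card_eq_fintype_card, K4.card_K4]
      omega
  exact false_of_counts hL hd hcnt bad7

/-- The field `u_large` of the facts used by the induction. -/
theorem u_large : ∀ {G : Type u} [Group G] [Finite G] {D : Set G}, Loc D → ∀ d ∈ D, ∀ n : ℕ,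
    7 ≤ n → IsUn (img D d) n → False := by
  intro G _ _ D hL d hd n hn h
  obtain rfl | h8 := (show n = 7 ∨ 8 ≤ n by omega)
  · exact no_seven hL hd h
  · exact no_big hL hd h8 h

end Cfsg.Agent.FischerClassEx
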