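import Cfsg.Agent.Lib.FischerClass.Defs
import Cfsg.Agent.Lib.FischerTwins.Model

/-!
Fischer's theorem: the groups with local cores not central, and the recognition steps.

With `d ∈ D`, `hL : Loc D` and `X = img D d`, which is one of `IsSp X m` (`2 ≤ m`), `IsUn X n` (`4 ≤ n`),
`IsSym X 5`, `Out X`, the steps to prove are:

* `IsSp X m → IsOTwo D`; `IsSym X 5 → IsSym D 7`; `7 ≤ n → IsSym X n → IsSym D (n + 2)`;
  hyperbolic of dimension 6 gives `IsSym D 10`; orthogonal over two elements of dimension at least 8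
  gives `False`;
* elliptic of dimension 6, or `IsUn X 4`, gives `IsOThree D 6`;
  `5 ≤ n → IsOThree X n → IsOThree D (n + 1)`;
* `IsUn X 5 → False`; `IsUn X 6 → IsOfTypeM22 G D`; `7 ≤ n → IsUn X n → False`;
* `IsOfTypeM22 _ X → IsOfTypeM23 G D`; `IsOfTypeM23 _ X → IsOfTypeM24 G D`;
  `IsOfTypeM24 _ X → False`.
-/

set_option autoImplicit false

namespace Cfsg.Agent.FischerClass

open Cfsg Cfsg.Agent

universe u

variable {G : Type u} [Group G]

/-- A symplectic group over two elements with its transvections. -/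
def IsSp (D : Set G) (m : ℕ) : Prop :=
  ∃ e : G ≃* Matrix.symplecticGroup (Fin m) (ZMod 2), e '' D = {g : Matrix.symplecticGroup (Fin m) (ZMod 2) | ((g : Matrix (Fin m ⊕ Fin m) (Fin m ⊕ Fin m) (ZMod 2)) - 1).rank = 1}

/-- A projective unitary group over four elements with its transvections. -/
def IsUn (D : Set G) (n : ℕ) : Prop :=
  ∃ e : G ≃* Cfsg.PSU n RigidGraph.He.K4 2, e '' D = (QuotientGroup.mk : ↥(Cfsg.SU n RigidGraph.He.K4 2) → Cfsg.PSU n RigidGraph.He.K4 2) '' {g : ↥(Cfsg.SU n RigidGraph.He.K4 2) | (((g : Matrix.SpecialLinearGroup (Fin n) RigidGraph.He.K4) : Matrix (Fin n) (Fin n) RigidGraph.He.K4) - 1).rank = 1}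

end Cfsg.Agent.FischerClass
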