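import Cfsg.Agent.Lib.FischerClass.Graph
import Cfsg.Agent.Lib.Transvec.OrthTwo
import Cfsg.Agent.Lib.AutPOmega.Forms

/-!
Fischer's theorem: classes of transvections of orthogonal groups over two elements as sets of vectors.
-/

set_option autoImplicit false

namespace Cfsg.Agent.FischerClass

open Cfsg Cfsg.Agent Cfsg.Agent.Fischer Cfsg.Agent.Fischer.Factor
open Cfsg.Agent.Transvec Cfsg.Agent.Transvec.Orth

universe u

variable {G : Type u} [Group G] {D : Set G}
variable {ι : Type} [Fintype ι] [DecidableEq ι] {q : (ι → ZMod 2) → ZMod 2}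

open Classical in
/-- One when the two elements do not commute. -/
noncomputable def nc (a b : G) : ZMod 2 := if Commute a b then 0 else 1

theorem nc_of_commute {a b : G} (h : Commute a b) : nc a b = 0 := by
  classical
  simp [nc, h]

theorem nc_of_not {a b : G} (h : ¬ Commute a b) : nc a b = 1 := by
  classical
  simp [nc, h]

theorem nc_eq_zero_iff {a b : G} : nc a b = 0 ↔ Commute a b := by
  refine ⟨fun h => ?_, nc_of_commute⟩
  by_contra h'
  rw [nc_of_not h'] at h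
  exact one_ne_zero h

theorem nc_comm (a b : G) : nc a b = nc b a := by
  by_cases h : Commute a b
  · rw [nc_of_commute h, nc_of_commute h.symm]
  · rw [nc_of_not h, nc_of_not fun h' => h h'.symm]

/-- The set `S` seen as the vectors of value one of a quadratic form. -/
structure OrthModel (S : Set G) (q : (ι → ZMod 2) → ZMod 2) (φ : G → ι → ZMod 2) : Prop where
  form : Geo.IsNondegenerateQuadraticForm q
  q_one : ∀ d ∈ S, q (φ d) = 1
  surj : ∀ v, q v = 1 → ∃ d ∈ S, φ d = v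
  inj : ∀ d ∈ S, ∀ e ∈ S, φ d = φ e → d = e
  pol_eq : ∀ d ∈ S, ∀ e ∈ S, pol q (φ d) (φ e) = nc d e

theorem refl_inj (hQ : Geo.IsNondegenerateQuadraticForm q) {a b : ι → ZMod 2} (ha : q a = 1)
    (h : OrthTwo.refl hQ a = OrthTwo.refl hQ b) : a = b := by
  obtain ⟨z, hz⟩ := OrthTwo.exists_pol_one hQ ha
  have h' := congrArg (fun g => mv g z) h
  simp only [OrthTwo.mv_refl, add_right_inj, hz, one_smul] at h'
  rcases OrthTwo.zmod2 (pol q z b) with h1 | h1
  · rw [h1, zero_smul] at h'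
    rw [h', q_zero hQ] at ha
    exact absurd ha zero_ne_one
  · rw [h1, one_smul] at h'
    exact h'

/-- An isomorphism onto the orthogonal group with the class going to the transvections gives a model. -/
theorem exists_orthModel (hQ : Geo.IsNondegenerateQuadraticForm q)
    (e : G ≃* ↥(Cfsg.isometryGroup (ZMod 2) q))
    (he : e '' D = {g : ↥(Cfsg.isometryGroup (ZMod 2) q) |
      (((g : GL ι (ZMod 2)) : Matrix ι ι (ZMod 2)) - 1).rank = 1}) :
    ∃ φ : G → ι → ZMod 2, OrthModel D q φ := by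
  classical
  have hc : ∀ d ∈ D, ∃ a, q a = 1 ∧ (e d : GL ι (ZMod 2)) = OrthTwo.refl hQ a := fun d hd =>
    (OrthTwo.rank_refl hQ (e d).2).1 (he.le ⟨d, hd, rfl⟩)
  obtain ⟨φ, hφ⟩ : ∃ φ : G → ι → ZMod 2, ∀ d ∈ D, q (φ d) = 1 ∧
      (e d : GL ι (ZMod 2)) = OrthTwo.refl hQ (φ d) :=
    ⟨fun d => if h : d ∈ D then (hc d h).choose else 0, fun d hd => by
      simp only [dif_pos hd]; exact (hc d hd).choose_spec⟩
  refine ⟨φ, hQ, fun d hd => (hφ d hd).1, fun v hv => ?_, fun d hd d' hd' h => ?_,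
    fun d hd d' hd' => ?_⟩
  · obtain ⟨d, hd, hde⟩ := he.ge (show (⟨OrthTwo.refl hQ v, OrthTwo.refl_mem hQ hv⟩ :
        ↥(Cfsg.isometryGroup (ZMod 2) q)) ∈ _ from
      (OrthTwo.rank_refl hQ (OrthTwo.refl_mem hQ hv)).2 ⟨v, hv, rfl⟩)
    refine ⟨d, hd, refl_inj hQ (hφ d hd).1 ?_⟩
    rw [← (hφ d hd).2, hde]
  · exact e.injective (Subtype.ext (by rw [(hφ d hd).2, (hφ d' hd').2, h]))
  · have hiff : Commute d d' ↔
        Commute (OrthTwo.refl hQ (φ d)) (OrthTwo.refl hQ (φ d')) := by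
      rw [← (hφ d hd).2, ← (hφ d' hd').2]
      refine ⟨fun h => (h.map e.toMonoidHom).map (Cfsg.isometryGroup (ZMod 2) q).subtype, fun h => ?_⟩
      refine e.injective ?_
      rw [map_mul, map_mul]
      exact Subtype.ext h.eq
    have key : OrthTwo.refl hQ (φ d) * OrthTwo.refl hQ (φ d') * (OrthTwo.refl hQ (φ d))⁻¹ =
        OrthTwo.refl hQ (φ d' + pol q (φ d') (φ d) • φ d) := by
      rw [OrthTwo.refl_conj hQ (OrthTwo.refl_mem hQ (hφ d hd).1), OrthTwo.mv_refl]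
    rcases OrthTwo.zmod2 (pol q (φ d') (φ d)) with h | h
    · rw [pol_comm (Q := q), h, nc_of_commute (hiff.2 ?_)]
      rw [h, zero_smul, add_zero] at key
      exact mul_inv_eq_iff_eq_mul.1 key
    · rw [pol_comm (Q := q), h, nc_of_not fun hcm => ?_]
      have hq1 := (hφ d hd).1
      rw [h, one_smul, (hiff.1 hcm).eq, mul_inv_cancel_right] at key
      have := refl_inj hQ (hφ d' hd').1 key
      rw [left_eq_add.1 this, q_zero hQ] at hq1
      exact zero_ne_one hq1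

theorem minus_form : ∀ z₁ z₂ : ZMod 2, z₁ ^ 2 + 1 * z₁ * z₂ + 1 * z₂ ^ 2 = 0 → z₁ = 0 ∧ z₂ = 0 := by
  decide

/-- The orthogonal groups over two elements have models. -/
theorem IsOTwo.exists_model (h : IsOTwo D) :
    (∃ m : ℕ, 3 ≤ m ∧ ∃ φ, OrthModel D (Cfsg.quadFormPlus m (ZMod 2)) φ) ∨
      ∃ m : ℕ, 2 ≤ m ∧ ∃ φ, OrthModel D (Cfsg.quadFormMinus m (ZMod 2) 1 1) φ := by
  rcases h with ⟨m, hm, e, he⟩ | ⟨m, hm, e, he⟩
  · exact Or.inl ⟨m, hm, exists_orthModel (AutPOmega.geo_plus m) e he⟩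
  · exact Or.inr ⟨m, hm, exists_orthModel (AutPOmega.geo_minus minus_form m) e he⟩

/-- Models move along isomorphisms. -/
theorem OrthModel.of_equiv {X : Type*} [Group X] {S : Set X} {φ : X → ι → ZMod 2}
    (h : OrthModel S q φ) (e : G ≃* X) (he : e '' D = S) : OrthModel D q (fun d => φ (e d)) := by
  have hm : ∀ d ∈ D, e d ∈ S := fun d hd => he.le ⟨d, hd, rfl⟩
  refine ⟨h.form, fun d hd => h.q_one _ (hm d hd), fun v hv => ?_,
    fun d hd d' hd' hh => e.injective (h.inj _ (hm d hd) _ (hm d' hd') hh), fun d hd d' hd' => ?_⟩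
  · obtain ⟨x, hx, hxv⟩ := h.surj v hv
    obtain ⟨d, hd, rfl⟩ := he.ge hx
    exact ⟨d, hd, hxv⟩
  · rw [h.pol_eq _ (hm d hd) _ (hm d' hd')]
    by_cases hc : Commute d d'
    · rw [nc_of_commute hc, nc_of_commute (show Commute (e d) (e d') from hc.map e.toMonoidHom)]
    · rw [nc_of_not hc, nc_of_not fun h' => hc (e.injective (by rw [map_mul, map_mul]; exact h'.eq))]

/-- A model of the image gives one on the neighbours. -/
theorem OrthModel.lift (hT : IsThreeTranspositionGroup D) (htr : Trans D) [Finite G]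
    (hfree : TwinFree D) {t : G} (ht : t ∈ D) {φ : Q D t → ι → ZMod 2}
    (h : OrthModel (img D t) q φ) : ∃ ψ : G → ι → ZMod 2, OrthModel (Nb D t) q ψ := by
  classical
  obtain ⟨ψ, hψ⟩ : ∃ ψ : G → ι → ZMod 2, ∀ y (hy : y ∈ Nb D t),
      ψ y = φ (QuotientGroup.mk ⟨y, nb_subset hy⟩) :=
    ⟨fun y => if hy : y ∈ Nb D t then φ (QuotientGroup.mk ⟨y, nb_subset hy⟩) else 0,
      fun y hy => by simp only [dif_pos hy]⟩
  refine ⟨ψ, h.form, fun y hy => hψ y hy ▸ h.q_one _ ⟨_, hy, rfl⟩, fun v hv => ?_,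
    fun y hy z hz e => ?_, fun y hy z hz => ?_⟩
  · obtain ⟨_, ⟨x, hx, rfl⟩, hxv⟩ := h.surj v hv
    exact ⟨x, hx, (hψ _ hx).trans hxv⟩
  · rw [hψ y hy, hψ z hz] at e
    exact congrArg Subtype.val (img_inj hT htr hfree ht (x := ⟨y, nb_subset hy⟩)
      (y := ⟨z, nb_subset hz⟩) hy hz (h.inj _ ⟨_, hy, rfl⟩ _ ⟨_, hz, rfl⟩ e))
  · rw [hψ y hy, hψ z hz, h.pol_eq _ ⟨_, hy, rfl⟩ _ ⟨_, hz, rfl⟩]
    have hiff := mk_commute_iff hT.1 (d := t) (x := ⟨y, nb_subset hy⟩) (y := ⟨z, nb_subset hz⟩) hy.1 hz.1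
    by_cases hc : Commute y z
    · rw [nc_of_commute hc, nc_of_commute (hiff.2 hc)]
    · rw [nc_of_not hc, nc_of_not fun h' => hc (hiff.1 h')]

/-- The same form serves at every member. -/
theorem Loc.exists_nb_model [Finite G] (hL : Loc D) {d : G} (hd : d ∈ D) {φ : Q D d → ι → ZMod 2}
    (h : OrthModel (img D d) q φ) {t : G} (ht : t ∈ D) :
    ∃ ψ : G → ι → ZMod 2, OrthModel (Nb D t) q ψ := by
  obtain ⟨e, he⟩ := exists_img_equiv hL.tg hL.trans ht hd
  exact (h.of_equiv e he).lift hL.tg hL.trans hL.twinFree ht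

end Cfsg.Agent.FischerClass
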