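import Cfsg.Agent.Lib.FischerClass.Kinds
import Cfsg.Agent.Lib.FischerClass.Charts
import Cfsg.Agent.Lib.FischerO3.Bases
import Cfsg.Agent.Lib.FischerTwins.Two

/-!
Fischer's theorem: labellings of the neighbourhoods by isotropic points when the neighbour quotient is
unitary, and the lines through two members.
-/

set_option autoImplicit false

namespace Cfsg.Agent.FischerClassEx

open Cfsg Cfsg.Agent Cfsg.Agent.Fischer Cfsg.Agent.Fischer.Factor Cfsg.Agent.FischerClass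
open Cfsg.Agent.FischerUnique24 (IsChart Hd)
open Cfsg.Agent.RigidGraph.He
open Cfsg.Agent.FischerTwins (hf ptr Par)
open Cfsg.Agent.FischerSolvable.Model (tv tr mv mv_ext mv_mul mv_one mv_tr tr_conj)

universe u

variable {n : ℕ}

/-- An isotropic vector with a given product pattern: zero on `S`, non-zero at `c`. -/
theorem sep {S : Set (Fin n → K4)} {c : Fin n → K4} (hS : ∀ s ∈ S, hf n c s = 0) (hc : hf n c c = 0)
    (hspan : c ∉ Submodule.span K4 S) :
    ∃ z : Fin n → K4, hf n z z = 0 ∧ (∀ s ∈ S, hf n z s = 0) ∧ hf n z c ≠ 0 := by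
  classical
  obtain ⟨g, hgc, hgS⟩ := Submodule.exists_le_ker_of_notMem hspan
  set z : Fin n → K4 := fun i => g (Pi.single i 1) ^ 2 with hz
  have hgz : ∀ x, hf n x z = g x := fun x => by
    conv_rhs => rw [pi_eq_sum_univ' x, map_sum]
    simp only [FischerTwins.hf_def, hz, FischerTwins.K4.sq_sq, map_smul, smul_eq_mul]
  have hzS : ∀ s ∈ S, hf n z s = 0 := fun s hs => by
    rw [FischerTwins.hf_zero_iff, hgz]
    exact LinearMap.mem_ker.1 (hgS (Submodule.subset_span hs))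
  have hzc : hf n z c ≠ 0 := fun e => hgc (by rw [← hgz]; exact (FischerTwins.hf_zero_iff _ _).1 e)
  by_cases h0 : hf n z z = 0
  · exact ⟨z, h0, hzS, hzc⟩
  -- correct the norm along c
  obtain ⟨t, ht⟩ : ∃ t : K4, hf n z z + t ^ 2 * hf n z c + t * hf n z c ^ 2 = 0 := by
    have h1 : hf n z z = 1 :=
      (by decide : ∀ a : K4, a ≠ 0 → a = a ^ 2 → a = 1) _ h0 (FischerTwins.hf_symm z z)
    rw [h1]
    exact (by decide : ∀ h : K4, h ≠ 0 → ∃ t : K4, 1 + t ^ 2 * h + t * h ^ 2 = 0) _ hzc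
  refine ⟨z + t • c, ?_, fun s hs => ?_, ?_⟩
  · rw [FischerTwins.hf_add_left, FischerTwins.hf_add_right, FischerTwins.hf_add_right,
      FischerTwins.hf_smul_right, FischerTwins.hf_smul_left, FischerTwins.hf_smul_left,
      FischerTwins.hf_smul_right, hc, mul_zero, mul_zero, add_zero, FischerTwins.hf_symm c z]
    exact ht
  · rw [FischerTwins.hf_add_left, FischerTwins.hf_smul_left, hzS s hs, hS s hs, mul_zero, add_zero]
  · rwa [FischerTwins.hf_add_left, FischerTwins.hf_smul_left, hc, mul_zero, add_zero]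

/-- Transvections agreeing modulo the centre have proportional vectors. -/
theorem par_of_ptr (hn : 0 < n) {v w : Fin n → K4} (hv : hf n v v = 0) (hw : hf n w w = 0) (hv0 : v ≠ 0)
    (hw0 : w ≠ 0) (h : ptr v = ptr w) : Par v w := by
  have hwv : hf n w v = 0 := FischerTwins.orth_of_commute hn hw hv hw0 (by rw [h])
  have hmem : w ∈ Submodule.span K4 ({v} : Set (Fin n → K4)) := by
    by_contra hns
    obtain ⟨z, hz, hzv, hzw⟩ := sep (fun s hs => by rw [Set.mem_singleton_iff.1 hs]; exact hwv) hw hns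
    have hz0 : z ≠ 0 := fun e => hzw (by rw [e, FischerTwins.hf_zero_left])
    have hc : Commute (ptr z) (ptr v) := (FischerTwins.tr_commute hn hz hv (hzv v rfl)).map _
    rw [h] at hc
    exact hzw (FischerTwins.orth_of_commute hn hz hw hz0 hc)
  obtain ⟨c, hc⟩ := Submodule.mem_span_singleton.1 hmem
  exact ⟨c, fun e => hw0 (by rw [← hc, e, zero_smul]), hc.symm⟩

theorem ptr_par (hn : 0 < n) {v w : Fin n → K4} (hv : hf n v v = 0) (h : Par v w) : ptr v = ptr w := by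
  obtain ⟨c, hc, rfl⟩ := h
  rw [ptr, ptr, FischerTwins.tr_scalar hn hc hv]

theorem mv_add (A : Cfsg.SU n K4 2) (x y : Fin n → K4) : mv A (x + y) = mv A x + mv A y :=
  Matrix.mulVec_add _ _ _

theorem mv_smul (A : Cfsg.SU n K4 2) (c : K4) (x : Fin n → K4) : mv A (c • x) = c • mv A x :=
  Matrix.mulVec_smul _ _ _

theorem mv_iso (A : Cfsg.SU n K4 2) (x y : Fin n → K4) : hf n (mv A x) (mv A y) = hf n x y := A.2 x y

theorem mv_inv (A : Cfsg.SU n K4 2) (x : Fin n → K4) : mv A (mv A⁻¹ x) = x := by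
  rw [← mv_mul, mul_inv_cancel, mv_one]

theorem mv_tv (A : Cfsg.SU n K4 2) (v x : Fin n → K4) : mv A (tv v x) = tv (mv A v) (mv A x) := by
  rw [FischerTwins.tv_eq, FischerTwins.tv_eq, mv_add, mv_smul, mv_iso]

theorem mv_ne (A : Cfsg.SU n K4 2) {x : Fin n → K4} (hx : x ≠ 0) : mv A x ≠ 0 := fun e => hx <| by
  have := congrArg (mv A⁻¹) e
  rwa [← mv_mul, inv_mul_cancel, mv_one, show mv A⁻¹ (0 : Fin n → K4) = 0 from Matrix.mulVec_zero _] at this

theorem mv_par (A : Cfsg.SU n K4 2) {x y : Fin n → K4} (h : Par x y) : Par (mv A x) (mv A y) := by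
  obtain ⟨c, hc, rfl⟩ := h
  exact ⟨c, hc, mv_smul A c x⟩

theorem conj_tr (hn : 0 < n) (A : Cfsg.SU n K4 2) {v : Fin n → K4} (hv : hf n v v = 0) :
    A * tr v * A⁻¹ = tr (mv A v) := by
  refine mv_ext fun x => ?_
  rw [mv_mul, mv_mul, mv_tr hn hv, mv_tr hn ((mv_iso A v v).trans hv), mv_tv, mv_inv]

variable {G : Type u} [Group G] {D : Set G}

/-- A labelling of the neighbours of `t` by isotropic points. -/
structure ULab (D : Set G) (t : G) (φ : G → Fin n → K4) : Prop where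
  ne : ∀ y ∈ Nb D t, φ y ≠ 0
  iso : ∀ y ∈ Nb D t, hf n (φ y) (φ y) = 0
  inj : ∀ y ∈ Nb D t, ∀ y' ∈ Nb D t, Par (φ y) (φ y') → y = y'
  surj : ∀ v : Fin n → K4, v ≠ 0 → hf n v v = 0 → ∃ y ∈ Nb D t, Par v (φ y)
  comm : ∀ y ∈ Nb D t, ∀ y' ∈ Nb D t, Commute y y' ↔ hf n (φ y) (φ y') = 0
  conj : ∀ y ∈ Nb D t, ∀ z ∈ Nb D t, Par (tv (φ y) (φ z)) (φ (y * z * y⁻¹))

namespace ULab

variable {t : G} {φ : G → Fin n → K4} (L : ULab D t φ)
include L

/-- Change of coordinates. -/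
theorem relabel (A : Cfsg.SU n K4 2) : ULab D t fun y => mv A (φ y) where
  ne y hy := mv_ne A (L.ne y hy)
  iso y hy := (mv_iso A _ _).trans (L.iso y hy)
  inj y hy y' hy' h := L.inj y hy y' hy' <| by
    have := mv_par A⁻¹ h
    simpa only [← mv_mul, inv_mul_cancel, mv_one] using this
  surj v hv0 hv := by
    obtain ⟨y, hy, h⟩ := L.surj (mv A⁻¹ v) (mv_ne _ hv0) ((mv_iso _ _ _).trans hv)
    refine ⟨y, hy, ?_⟩
    have := mv_par A h
    rwa [mv_inv] at this
  comm y hy y' hy' := by rw [mv_iso]; exact L.comm y hy y' hy'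
  conj y hy z hz := by
    have := mv_par A (L.conj y hy z hz)
    rwa [mv_tv] at this

/-- Change of coordinates along a word of transvections. -/
theorem relabel_word (hn : 0 < n) (W : List (Fin n → K4)) (hW : ∀ v ∈ W, hf n v v = 0) :
    ULab D t fun y => W.foldr tv (φ y) := by
  have := L.relabel (W.map tr).prod
  simpa only [FischerTwins.mv_prod hn W hW] using this

/-- Membership in the span of two commuting members, by commuting. -/
theorem span_iff {p q c : G} (hp : p ∈ Nb D t) (hq : q ∈ Nb D t) (hc : c ∈ Nb D t)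
    (hcp : Commute c p) (hcq : Commute c q) :
    φ c ∈ Submodule.span K4 {φ p, φ q} ↔ ∀ z ∈ Nb D t ∩ Nb D p ∩ Nb D q, Commute z c := by
  constructor
  · intro h z ⟨⟨hz, hzp⟩, hzq⟩
    obtain ⟨r, s, hrs⟩ := Submodule.mem_span_pair.1 h
    rw [L.comm z hz c hc, ← hrs, FischerTwins.hf_add_right, FischerTwins.hf_smul_right,
      FischerTwins.hf_smul_right, (L.comm z hz p hp).1 hzp.2.2.symm, (L.comm z hz q hq).1 hzq.2.2.symm,
      mul_zero, mul_zero, add_zero]
  · intro h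
    by_contra hns
    obtain ⟨v, hv, hvS, hvc⟩ := sep (S := {φ p, φ q}) (fun s hs => by
      rcases hs with rfl | rfl
      exacts [(L.comm c hc p hp).1 hcp, (L.comm c hc q hq).1 hcq]) (L.iso c hc) hns
    have hv0 : v ≠ 0 := fun e => hvc (by rw [e, FischerTwins.hf_zero_left])
    obtain ⟨z, hz, hzv⟩ := L.surj v hv0 hv
    have hp' : Commute z p := (L.comm z hz p hp).2 ((hzv.hf_left _).2 (hvS _ (Set.mem_insert _ _)))
    have hq' : Commute z q :=
      (L.comm z hz q hq).2 ((hzv.hf_left _).2 (hvS _ (Set.mem_insert_of_mem _ rfl)))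
    have hnc : ¬ Commute z c := fun e => hvc ((hzv.hf_left _).1 ((L.comm z hz c hc).1 e))
    exact hnc (h z ⟨⟨hz, hz.1, fun e => hnc (e ▸ hcp.symm), hp'.symm⟩, hz.1, fun e => hnc (e ▸ hcq.symm),
      hq'.symm⟩)

end ULab

variable [Finite G]

/-- Labellings exist at every member, with any given member at any given point. -/
theorem exists_lab (hS : Std D) (hI : ∀ d ∈ D, Std (img D d)) {d : G} (hd : d ∈ D)
    (hn : 0 < n) (hU : IsUn (img D d) n) {t a : G} (ht : t ∈ D) (ha : a ∈ Nb D t) {v₀ : Fin n → K4}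
    (hv₀ : hf n v₀ v₀ = 0) (hv0 : v₀ ≠ 0) : ∃ φ : G → Fin n → K4, ULab D t φ ∧ Par v₀ (φ a) := by
  classical
  obtain ⟨f, hf'⟩ := hS.exists_chart hd ht
  obtain ⟨e, he⟩ := hU
  have hex : ∀ y ∈ Nb D t, ∃ v : Fin n → K4, v ≠ 0 ∧ hf n v v = 0 ∧ e (f y) = ptr v := by
    intro y hy
    obtain ⟨g, hg, hge⟩ := he.le ⟨f y, hf'.mem y hy, rfl⟩
    obtain ⟨v, hv0, hv, rfl⟩ := FischerO3.exists_tr hn g hg
    exact ⟨v, hv0, hv, hge.symm⟩
  obtain ⟨φ, hφ⟩ : ∃ φ : G → Fin n → K4, ∀ y ∈ Nb D t, φ y ≠ 0 ∧ hf n (φ y) (φ y) = 0 ∧ e (f y) = ptr (φ y) :=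
    ⟨fun y => if h : y ∈ Nb D t then (hex y h).choose else 0, fun y hy => by
      simp only [dif_pos hy]; exact (hex y hy).choose_spec⟩
  have hsurj : ∀ v : Fin n → K4, v ≠ 0 → hf n v v = 0 → ∃ y ∈ Nb D t, Par v (φ y) := by
    intro v hv0 hv
    obtain ⟨z, hz, hze⟩ := he.ge ⟨tr v, FischerO3.rank_tr_one hn hv hv0, rfl⟩
    obtain ⟨y, hy, rfl⟩ := hf'.lift z hz
    obtain ⟨h1, h2, h3⟩ := hφ y hy
    exact ⟨y, hy, par_of_ptr hn hv h2 hv0 h1 (hze.symm.trans h3)⟩
  have L : ULab D t φ := by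
    refine ⟨fun y hy => (hφ y hy).1, fun y hy => (hφ y hy).2.1, fun y hy y' hy' h => ?_, hsurj,
      fun y hy y' hy' => ?_, fun y hy z hz => ?_⟩
    · refine hf'.inj y hy y' hy' (e.injective ?_)
      rw [(hφ y hy).2.2, (hφ y' hy').2.2, ptr_par hn (hφ y hy).2.1 h]
    · rw [← hf'.comm y hy y' hy']
      constructor
      · intro h
        refine FischerTwins.orth_of_commute hn (hφ y hy).2.1 (hφ y' hy').2.1 (hφ y hy).1 ?_
        rw [← (hφ y hy).2.2, ← (hφ y' hy').2.2]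
        exact h.map e
      · intro h
        have h1 : Commute (e (f y)) (e (f y')) := by
          rw [(hφ y hy).2.2, (hφ y' hy').2.2]
          exact (FischerTwins.tr_commute hn (hφ y hy).2.1 (hφ y' hy').2.1 h).map _
        simpa using h1.map e.symm
    · have hyz : y * z * y⁻¹ ∈ Nb D t := by
        have := nb_conj hS.tg y hz
        rwa [conj_eq_self_of_commute hy.2.2.symm] at this
      have hy' : y ∈ Hd D t := Subgroup.subset_closure hy
      have hz' : z ∈ Hd D t := Subgroup.subset_closure hz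
      obtain ⟨h1, h2⟩ := tr_conj hn (hφ z hz).2.1 (hφ y hy).2.1
      refine par_of_ptr hn h1 (hφ _ hyz).2.1 (fun e0 => (hφ z hz).1 ?_) (hφ _ hyz).1 ?_
      · rw [← FischerTwins.tv_tv (hφ y hy).2.1 (φ z), e0, FischerTwins.tv_zero]
      · rw [← (hφ _ hyz).2.2, TSet.inv hS.tset hy.1, hf'.map_mul _ (mul_mem hy' hz') _ hy',
          hf'.map_mul _ hy' _ hz', map_mul, map_mul, (hφ y hy).2.2, (hφ z hz).2.2]
        simp only [ptr, ← map_mul, h2]
  obtain ⟨y₀, hy₀, hp⟩ := hsurj v₀ hv0 hv₀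
  obtain ⟨g, hg⟩ := (hI d hd).trans _ (hf'.mem a ha) _ (hf'.mem y₀ hy₀)
  obtain ⟨A, hA⟩ := QuotientGroup.mk_surjective (e g)
  refine ⟨fun y => mv A (φ y), L.relabel A, ?_⟩
  obtain ⟨ha0, haiso, hae⟩ := hφ a ha
  have hAv : hf n (mv A (φ a)) (mv A (φ a)) = 0 := (mv_iso A _ _).trans haiso
  refine hp.trans (par_of_ptr hn (hφ y₀ hy₀).2.1 hAv (hφ y₀ hy₀).1 (mv_ne A ha0) ?_)
  have h1 := congrArg e hg
  rw [map_mul, map_mul, map_inv, hae, (hφ y₀ hy₀).2.2, ← hA] at h1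
  rw [← h1, ptr, ptr, ← conj_tr hn A haiso, map_mul, map_mul, map_inv]
  rfl

omit [Finite G] in
/-- On a line through `x` and a common neighbour `b` of a far pair, exactly one further member is a common
neighbour. -/
theorem line_unique {x u b y : G} {φ χ : G → Fin n → K4} (L : ULab D x φ) (M : ULab D b χ)
    (hx : x ∈ D) (hb : b ∈ D) (hu : u ∈ D) (hxu : ¬ Commute x u) (hbx : b ∈ Nb D x) (hbu : b ∈ Nb D u)
    (hy : y ∈ Nb D x ∩ Nb D b) :
    ∃ c, (c ∈ Nb D x ∩ Nb D b ∧ φ c ∈ Submodule.span K4 {φ b, φ y} ∧ c ∈ Nb D u) ∧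
      ∀ c', c' ∈ Nb D x ∩ Nb D b → φ c' ∈ Submodule.span K4 {φ b, φ y} → c' ∈ Nb D u → c' = c := by
  obtain ⟨hyx, hyb⟩ := hy
  have hxb : x ∈ Nb D b := ⟨hx, hbx.2.1.symm, hbx.2.2.symm⟩
  have hub : u ∈ Nb D b := ⟨hu, hbu.2.1.symm, hbu.2.2.symm⟩
  have key : ∀ c, c ∈ Nb D x ∩ Nb D b →
      (φ c ∈ Submodule.span K4 {φ b, φ y} ↔ Commute c y ∧ χ c ∈ Submodule.span K4 {χ x, χ y}) := by
    rintro c ⟨hcx, hcb⟩
    constructor
    · intro h
      have hcy : Commute c y := by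
        rw [L.comm c hcx y hyx]
        obtain ⟨r, s, hrs⟩ := Submodule.mem_span_pair.1 h
        rw [← hrs, FischerTwins.hf_add_left, FischerTwins.hf_smul_left, FischerTwins.hf_smul_left,
          (L.comm b hbx y hyx).1 hyb.2.2, L.iso y hyx, mul_zero, mul_zero, add_zero]
      refine ⟨hcy, (M.span_iff hxb hyb hcb hcx.2.2.symm hcy).2 fun z hz => ?_⟩
      exact (L.span_iff hbx hyx hcx hcb.2.2.symm hcy).1 h z ⟨⟨hz.1.2, hz.1.1⟩, hz.2⟩
    · rintro ⟨hcy, h⟩
      refine (L.span_iff hbx hyx hcx hcb.2.2.symm hcy).2 fun z hz => ?_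
      exact (M.span_iff hxb hyb hcb hcx.2.2.symm hcy).1 h z ⟨⟨hz.1.2, hz.1.1⟩, hz.2⟩
  set X := χ x with hX
  set Y := χ y with hY
  set U := χ u with hU'
  have hXU : hf n X U ≠ 0 := fun e => hxu ((M.comm x hxb u hub).2 e)
  have hXY : hf n X Y = 0 := (M.comm x hxb y hyb).1 hyx.2.2
  have hind : ∀ r s : K4, r • X + s • Y = 0 → s = 0 := by
    intro r s h
    by_contra hs
    have hY0 : Y = (s⁻¹ * r) • X := by
      have e1 : s • Y = r • X := by
        have := congrArg (r • X + ·) h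
        simp only [← add_assoc, FischerTwins.add_self_vec, zero_add, add_zero] at this
        exact this
      rw [mul_smul, ← e1, smul_smul, inv_mul_cancel₀ hs, one_smul]
    have hr : s⁻¹ * r ≠ 0 := fun e => M.ne y hyb (by rw [← hY, hY0, e, zero_smul])
    exact hyx.2.1 (M.inj x hxb y hyb ⟨_, hr, hY0⟩).symm
  set v := hf n Y U • X + hf n X U • Y with hv
  have hv0 : v ≠ 0 := fun e => hXU (hind _ _ e)
  have hviso : hf n v v = 0 := by
    simp only [hv, FischerTwins.hf_add_left, FischerTwins.hf_add_right, FischerTwins.hf_smul_left,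
      FischerTwins.hf_smul_right, show hf n X X = 0 from M.iso x hxb, show hf n Y Y = 0 from M.iso y hyb,
      hXY, (FischerTwins.hf_zero_iff X Y).1 hXY, mul_zero, add_zero]
  obtain ⟨c, hcb, hcv⟩ := M.surj v hv0 hviso
  have hcX : hf n (χ c) X = 0 := (hcv.hf_left _).2 (by
    rw [hv, FischerTwins.hf_add_left, FischerTwins.hf_smul_left, FischerTwins.hf_smul_left,
      show hf n X X = 0 from M.iso x hxb, (FischerTwins.hf_zero_iff X Y).1 hXY, mul_zero, mul_zero, add_zero])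
  have hcY : hf n (χ c) Y = 0 := (hcv.hf_left _).2 (by
    rw [hv, FischerTwins.hf_add_left, FischerTwins.hf_smul_left, FischerTwins.hf_smul_left,
      show hf n Y Y = 0 from M.iso y hyb, hXY, mul_zero, mul_zero, add_zero])
  have hcU : hf n (χ c) U = 0 := (hcv.hf_left _).2 (by
    rw [hv, FischerTwins.hf_add_left, FischerTwins.hf_smul_left, FischerTwins.hf_smul_left, mul_comm,
      K4.add_self])
  have hcu : Commute c u := (M.comm c hcb u hub).2 hcU
  have hcx : c ∈ Nb D x := ⟨hcb.1, fun e => hxu (e ▸ hcu), ((M.comm c hcb x hxb).2 hcX).symm⟩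
  have hcy : Commute c y := (M.comm c hcb y hyb).2 hcY
  have hspan : χ c ∈ Submodule.span K4 {X, Y} := by
    obtain ⟨k, -, hk⟩ := hcv
    rw [hk, hv]
    exact Submodule.smul_mem _ _ (Submodule.mem_span_pair.2 ⟨_, _, rfl⟩)
  have hcxu : c ≠ u := fun e => hxu (e ▸ hcx.2.2)
  refine ⟨c, ⟨⟨hcx, hcb⟩, (key c ⟨hcx, hcb⟩).2 ⟨hcy, hspan⟩, hcb.1, hcxu, hcu.symm⟩, ?_⟩
  intro c' hc' hsp hc'u
  obtain ⟨r, s, hrs⟩ := Submodule.mem_span_pair.1 ((key c' hc').1 hsp).2
  have h0 : hf n (χ c') U = 0 := (M.comm c' hc'.2 u hub).1 hc'u.2.2.symm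
  rw [← hrs, FischerTwins.hf_add_left, FischerTwins.hf_smul_left, FischerTwins.hf_smul_left] at h0
  have hrs' : r * hf n X U = s * hf n Y U := (by decide : ∀ p q : K4, p + q = 0 → p = q) _ _ h0
  have hs0 : s ≠ 0 := fun e => by
    rw [e, zero_mul] at hrs'
    have hr0 : r = 0 := (mul_eq_zero.1 hrs').resolve_right hXU
    exact M.ne c' hc'.2 (by rw [← hrs, hr0, e, zero_smul, zero_smul, add_zero])
  have hpar : Par v (χ c') := by
    refine ⟨s * (hf n X U)⁻¹, mul_ne_zero hs0 (inv_ne_zero hXU), ?_⟩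
    rw [hv, smul_add, smul_smul, smul_smul, ← hrs]
    congr 1
    · congr 1
      rw [mul_right_comm, ← hrs', mul_assoc, mul_inv_cancel₀ hXU, mul_one]
    · congr 1
      rw [mul_assoc, inv_mul_cancel₀ hXU, mul_one]
  exact M.inj c' hc'.2 c hcb (hpar.symm.trans hcv)

end Cfsg.Agent.FischerClassEx
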