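import Cfsg.Agent.Lib.FischerClass.Defs

/-!
Fischer's theorem: moving the neighbour quotient, and groups determined by the action on their class.
-/

set_option autoImplicit false

namespace Cfsg.Agent.FischerClass

open Cfsg Cfsg.Agent Cfsg.Agent.Fischer Cfsg.Agent.Fischer.Factor

universe u v

variable {G : Type u} [Group G] {D : Set G}

theorem map_center_equiv {X : Type u} {Y : Type v} [Group X] [Group Y] (e : X ≃* Y) :
    (Subgroup.center X).map e.toMonoidHom = Subgroup.center Y := by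
  ext y
  constructor
  · rintro ⟨x, hx, rfl⟩
    refine Subgroup.mem_center_iff.2 fun z => ?_
    obtain ⟨w, rfl⟩ := e.surjective z
    show e w * e x = e x * e w
    rw [← map_mul, ← map_mul, Subgroup.mem_center_iff.1 hx w]
  · intro hy
    refine ⟨e.symm y, Subgroup.mem_center_iff.2 fun w => e.injective ?_, e.apply_symm_apply y⟩
    rw [map_mul, map_mul, e.apply_symm_apply, Subgroup.mem_center_iff.1 hy]

/-- The neighbour quotients at conjugate members are isomorphic, images going to images. -/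
theorem exists_img_equiv (hT : IsThreeTranspositionGroup D) (htr : Trans D) {d t : G} (hd : d ∈ D)
    (ht : t ∈ D) : ∃ e : Q D d ≃* Q D t, e '' img D d = img D t := by
  obtain ⟨g, hg⟩ := htr d hd t ht
  have hnb : ∀ {x}, x ∈ Nb D d → g * x * g⁻¹ ∈ Nb D t := fun {x} hx => hg ▸ nb_conj hT g hx
  have hnb' : ∀ {x}, x ∈ Nb D t → g⁻¹ * x * g ∈ Nb D d := fun {x} hx => by
    have := nb_conj hT g⁻¹ hx
    rwa [inv_inv, show g⁻¹ * t * g = d by rw [← hg]; group] at this
  have hmap : (Subgroup.closure (Nb D d)).map (MulAut.conj g).toMonoidHom =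
      Subgroup.closure (Nb D t) := by
    rw [MonoidHom.map_closure]
    congr 1
    ext y
    constructor
    · rintro ⟨z, hz, rfl⟩
      exact hnb hz
    · intro hy
      exact ⟨g⁻¹ * y * g, hnb' hy, by simp [mul_assoc]⟩
  let e₀ : ↥(Subgroup.closure (Nb D d)) ≃* ↥(Subgroup.closure (Nb D t)) :=
    (MulEquiv.subgroupMap (MulAut.conj g) (Subgroup.closure (Nb D d))).trans
      (MulEquiv.subgroupCongr hmap)
  have he₀ : ∀ x : ↥(Subgroup.closure (Nb D d)), ((e₀ x : ↥(Subgroup.closure (Nb D t))) : G) =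
      g * (x : G) * g⁻¹ := fun x => rfl
  refine ⟨QuotientGroup.congr _ _ e₀ (map_center_equiv e₀), ?_⟩
  ext z
  constructor
  · rintro ⟨_, ⟨x, hx, rfl⟩, rfl⟩
    refine ⟨e₀ x, ?_, rfl⟩
    show ((e₀ x : ↥(Subgroup.closure (Nb D t))) : G) ∈ Nb D t
    rw [he₀]
    exact hnb hx
  · rintro ⟨y, hy, rfl⟩
    refine ⟨QuotientGroup.mk (e₀.symm y), ⟨e₀.symm y, ?_, rfl⟩, ?_⟩
    · have h : (y : G) = g * (e₀.symm y : G) * g⁻¹ := by rw [← he₀, e₀.apply_symm_apply]
      have := hnb' hy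
      rwa [h, show g⁻¹ * (g * (e₀.symm y : G) * g⁻¹) * g = (e₀.symm y : G) by group] at this
    · show QuotientGroup.mk (e₀ (e₀.symm y)) = _
      rw [e₀.apply_symm_apply]

/-- Two centreless groups generated by sets with the same conjugation action are isomorphic. -/
theorem equiv_of_conj {Y : Type v} [Group Y] {D' : Set Y}
    (hcG : ∀ g : G, ∀ d ∈ D, g * d * g⁻¹ ∈ D) (hG : Subgroup.closure D = ⊤)
    (hzG : Subgroup.center G = ⊥) (hcY : ∀ g : Y, ∀ d ∈ D', g * d * g⁻¹ ∈ D')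
    (hY : Subgroup.closure D' = ⊤) (hzY : Subgroup.center Y = ⊥) (φ : D ≃ D')
    (h : ∀ d b : D, (φ ⟨d * b * (d : G)⁻¹, hcG d b b.2⟩ : Y) = φ d * φ b * (φ d : Y)⁻¹) :
    ∃ e : G ≃* Y, e '' D = D' ∧ ∀ d : D, e d = φ d := by
  let iG : MulAction G D :=
    { smul := fun g d => ⟨g * d * g⁻¹, hcG g d d.2⟩
      one_smul := fun d => Subtype.ext (show 1 * (d : G) * 1⁻¹ = d by simp)
      mul_smul := fun g g' d => Subtype.ext
        (show g * g' * d * (g * g')⁻¹ = g * (g' * d * g'⁻¹) * g⁻¹ by group) }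
  let iY : MulAction Y D :=
    { smul := fun g d => φ.symm ⟨g * φ d * g⁻¹, hcY g _ (φ d).2⟩
      one_smul := fun d => φ.injective (by
        show φ (φ.symm ⟨1 * (φ d : Y) * 1⁻¹, _⟩) = φ d
        rw [Equiv.apply_symm_apply]
        exact Subtype.ext (by simp))
      mul_smul := fun g g' d => φ.injective (by
        show φ (φ.symm ⟨g * g' * (φ d : Y) * (g * g')⁻¹, _⟩) =
          φ (φ.symm ⟨g * (φ (φ.symm ⟨g' * (φ d : Y) * g'⁻¹, _⟩) : Y) * g⁻¹, _⟩)
        refine Subtype.ext ?_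
        simp only [Equiv.apply_symm_apply]
        group) }
  let c : G →* Equiv.Perm D := @MulAction.toPermHom G D _ iG
  let c' : Y →* Equiv.Perm D := @MulAction.toPermHom Y D _ iY
  have hc : Function.Injective c := by
    rw [injective_iff_map_eq_one]
    intro g hg
    rw [← Subgroup.mem_bot, ← hzG]
    refine Fischer.mem_center_of_commute_gen hG fun d hd => ?_
    have e : g * d * g⁻¹ = d := congrArg (fun π : Equiv.Perm D => (π ⟨d, hd⟩ : G)) hg
    exact mul_inv_eq_iff_eq_mul.1 e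
  have hc' : Function.Injective c' := by
    rw [injective_iff_map_eq_one]
    intro g hg
    rw [← Subgroup.mem_bot, ← hzY]
    refine Fischer.mem_center_of_commute_gen hY fun d hd => ?_
    have e : φ.symm ⟨g * φ (φ.symm ⟨d, hd⟩) * g⁻¹, hcY g _ (φ (φ.symm ⟨d, hd⟩)).2⟩ = φ.symm ⟨d, hd⟩ :=
      congrArg (fun π : Equiv.Perm D => π (φ.symm ⟨d, hd⟩)) hg
    have e' := congrArg Subtype.val (φ.symm.injective e)
    simp only [Equiv.apply_symm_apply] at e'
    exact mul_inv_eq_iff_eq_mul.1 e'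
  have key : ∀ d : D, c d = c' (φ d) := fun d => Equiv.ext fun b => φ.injective (by
    show φ ⟨(d : G) * b * (d : G)⁻¹, hcG d b b.2⟩ =
      φ (φ.symm ⟨(φ d : Y) * φ b * (φ d : Y)⁻¹, _⟩)
    rw [Equiv.apply_symm_apply]
    exact Subtype.ext (h d b))
  have hrange : c.range = c'.range := by
    refine le_antisymm ?_ ?_
    · rw [MonoidHom.range_eq_map, ← hG, MonoidHom.map_closure, Subgroup.closure_le]
      rintro _ ⟨d, hd, rfl⟩
      exact ⟨φ ⟨d, hd⟩, (key ⟨d, hd⟩).symm⟩
    · rw [MonoidHom.range_eq_map, ← hY, MonoidHom.map_closure, Subgroup.closure_le]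
      rintro _ ⟨d, hd, rfl⟩
      refine ⟨(φ.symm ⟨d, hd⟩ : D), (key _).trans ?_⟩
      rw [Equiv.apply_symm_apply]
  let e : G ≃* Y := ((MonoidHom.ofInjective hc).trans (MulEquiv.subgroupCongr hrange)).trans
    (MonoidHom.ofInjective hc').symm
  have he : ∀ d : D, e d = φ d := fun d => hc' (by
    rw [← key]
    exact congrArg Subtype.val ((MonoidHom.ofInjective hc').apply_symm_apply
      (MulEquiv.subgroupCongr hrange (MonoidHom.ofInjective hc (d : G)))))
  refine ⟨e, Set.ext fun y => ⟨?_, fun hy => ?_⟩, he⟩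
  · rintro ⟨d, hd, rfl⟩
    rw [he ⟨d, hd⟩]
    exact (φ ⟨d, hd⟩).2
  · exact ⟨φ.symm ⟨y, hy⟩, (φ.symm ⟨y, hy⟩).2, by rw [he, Equiv.apply_symm_apply]⟩

end Cfsg.Agent.FischerClass
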