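import Cfsg.Agent.Lib.FischerClass.Model

/-!
Fischer's theorem: an orthogonal group over two elements in dimension at least seven is not a
neighbour quotient.
-/

set_option autoImplicit false

namespace Cfsg.Agent.FischerClass

open Cfsg Cfsg.Agent Cfsg.Agent.Fischer Cfsg.Agent.Fischer.Factor
open Cfsg.Agent.Transvec Cfsg.Agent.Transvec.Orth

universe u

variable {G : Type u} [Group G] {D : Set G}
variable {ι : Type} [Fintype ι] [DecidableEq ι] {q : (ι → ZMod 2) → ZMod 2}

theorem vec2 (v : ι → ZMod 2) : v + v = 0 := funext fun _ => CharTwo.add_self_eq_zero _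

/-- Orthogonal to everything orthogonal to `p`, so a multiple of `p`. -/
theorem eq_smul_of_orth (hQ : Geo.IsNondegenerateQuadraticForm q) {p w : ι → ZMod 2} (hp : q p = 1)
    (h : ∀ z, q z = 1 → pol q z p = 0 → pol q z w = 0) : w = 0 ∨ w = p := by
  have hall : ∀ z, pol q z p = 0 → pol q z w = 0 := by
    intro z hz
    rcases OrthTwo.zmod2 (q z) with h0 | h1
    · have hp0 : pol q p p = 0 := OrthTwo.pol_self_two hQ p
      have h1 : q (z + p) = 1 := by rw [q_add hQ, h0, hp, hz]; decide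
      have h2 := h (z + p) h1 (by rw [pol_add_left hQ, hz, hp0, add_zero])
      have hpw : pol q p w = 0 := h p hp hp0
      rwa [pol_add_left hQ, hpw, add_zero] at h2
    · exact h z h1 hz
  obtain ⟨z₀, hz₀⟩ := OrthTwo.exists_pol_one hQ hp
  set c := pol q z₀ w with hc
  have key : ∀ z, pol q z (w + c • p) = 0 := by
    intro z
    have h2 := hall (z + pol q z p • z₀) (by
      rw [pol_add_left hQ, pol_smul_left hQ, hz₀, mul_one, CharTwo.add_self_eq_zero])
    rw [pol_add_left hQ, pol_smul_left hQ] at h2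
    rw [pol_add_right hQ, pol_smul_right hQ, mul_comm, hc]
    exact h2
  have hw : w + c • p = 0 := nondeg_top hQ _ trivial fun z _ => key z
  have he : w = c • p := by
    calc w = w + c • p + c • p := by rw [add_assoc, vec2, add_zero]
      _ = c • p := by rw [hw, zero_add]
  rcases OrthTwo.zmod2 c with hc' | hc' <;> rw [hc'] at he
  · exact Or.inl (by rw [he, zero_smul])
  · exact Or.inr (by rw [he, one_smul])

/-- A vector of value one orthogonal to given vectors and outside their span. -/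
theorem exists_outside (hQ : Geo.IsNondegenerateQuadraticForm q) {k : ℕ} (f : Fin k → ι → ZMod 2)
    (hk : 2 * k < Fintype.card ι) {p : ι → ZMod 2} (hp : p ∈ Set.range f) (hp1 : q p = 1)
    (hf : ∀ i j, pol q (f i) (f j) = 0) :
    ∃ z, q z = 1 ∧ z ∉ Submodule.span (ZMod 2) (Set.range f) ∧ ∀ i, pol q z (f i) = 0 := by
  set T := Submodule.span (ZMod 2) (Set.range f) with hT
  let Φ : (ι → ZMod 2) →ₗ[ZMod 2] (Fin k → ZMod 2) := LinearMap.pi fun i => formQ hQ (f i)
  have hΦ : ∀ z, z ∈ LinearMap.ker Φ ↔ ∀ i, pol q z (f i) = 0 := fun z => by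
    rw [LinearMap.mem_ker]
    exact ⟨fun h i => congrFun h i, fun h => funext h⟩
  have h1 : Module.finrank (ZMod 2) T ≤ k := (finrank_range_le_card f).trans (by simp)
  have h2 := Φ.finrank_range_add_finrank_ker
  have h3 : Module.finrank (ZMod 2) (LinearMap.range Φ) ≤ k :=
    ((LinearMap.range Φ).finrank_le).trans (by simp)
  rw [Module.finrank_pi] at h2
  obtain ⟨z, hz, hzT⟩ : ∃ z ∈ LinearMap.ker Φ, z ∉ T := by
    by_contra h
    push Not at h
    have := Submodule.finrank_mono (s := LinearMap.ker Φ) (t := T) h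
    omega
  rcases OrthTwo.zmod2 (q z) with h0 | h1'
  · obtain ⟨i, hi⟩ := hp
    have hzp : pol q z p = 0 := hi ▸ (hΦ z).1 hz i
    refine ⟨z + p, by rw [q_add hQ, h0, hp1, hzp]; decide, fun h => hzT ?_, fun j => ?_⟩
    · have hpT : p ∈ T := Submodule.subset_span ⟨i, hi⟩
      have := T.add_mem h hpT
      rwa [add_assoc, vec2, add_zero] at this
    · rw [pol_add_left hQ, (hΦ z).1 hz j, ← hi, hf i j, add_zero]
  · exact ⟨z, h1', hzT, (hΦ z).1 hz⟩

/-- No orthogonal group over two elements in dimension at least seven at the neighbourhood. -/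
theorem no_orth_nb [Finite G] (hL : Loc D) (hcard : 7 ≤ Fintype.card ι)
    (hm : ∀ t ∈ D, ∃ ψ : G → ι → ZMod 2, OrthModel (Nb D t) q ψ) : False := by
  classical
  obtain ⟨x, hx, u, hu, a, ha, b, hb, hxu, hab, cab, cax, cau, cbx, cbu⟩ := hL.exists_edge
  have neq : ∀ {e : G}, Commute e x → Commute e u → e ≠ x ∧ e ≠ u := fun {e} h1 h2 =>
    ⟨fun h => hxu (h ▸ h2), fun h => hxu (h ▸ h1).symm⟩
  obtain ⟨nax, nau⟩ := neq cax cau
  obtain ⟨nbx, nbu⟩ := neq cbx cbu
  have haX : a ∈ Nb D x := ⟨ha, nax, cax.symm⟩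
  have hbX : b ∈ Nb D x := ⟨hb, nbx, cbx.symm⟩
  obtain ⟨ψ, P⟩ := hm x hx
  obtain ⟨α, A⟩ := hm a ha
  obtain ⟨β, B⟩ := hm b hb
  have hQ := P.form
  have p0 : ∀ v : ι → ZMod 2, pol q v v = 0 := OrthTwo.pol_self_two hQ
  have qa := P.q_one a haX
  have qb := P.q_one b hbX
  have pab : pol q (ψ a) (ψ b) = 0 := by rw [P.pol_eq a haX b hbX, nc_of_commute cab]
  have pba : pol q (ψ b) (ψ a) = 0 := by rw [pol_comm (Q := q)]; exact pab
  obtain ⟨r, hr1, hrT, hr⟩ := exists_outside hQ ![ψ a, ψ b] (by omega) ⟨0, rfl⟩ qa (by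
    intro i j; fin_cases i <;> fin_cases j <;> simp [p0, pab, pba])
  have pra : pol q r (ψ a) = 0 := hr 0
  have prb : pol q r (ψ b) = 0 := hr 1
  have par : pol q (ψ a) r = 0 := by rw [pol_comm (Q := q)]; exact pra
  have pbr : pol q (ψ b) r = 0 := by rw [pol_comm (Q := q)]; exact prb
  obtain ⟨s, hs1, hsT, hs⟩ := exists_outside hQ ![ψ a, ψ b, r] (by omega) ⟨0, rfl⟩ qa (by
    intro i j; fin_cases i <;> fin_cases j <;> simp [p0, pab, pba, pra, prb, par, pbr])
  have psa : pol q s (ψ a) = 0 := hs 0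
  have psb : pol q s (ψ b) = 0 := hs 1
  have psr : pol q s r = 0 := hs 2
  have prs : pol q r s = 0 := by rw [pol_comm (Q := q)]; exact psr
  set w := ψ a + r + s with hw
  have hw1 : q w = 1 := by
    rw [hw, q_add hQ, q_add hQ, qa, hr1, hs1, par, pol_add_left hQ, pol_comm (Q := q) (ψ a) s, psa, prs]
    decide
  have pwr : pol q r w = 0 := by rw [hw, pol_add_right hQ, pol_add_right hQ, pra, p0, prs]; decide
  have pws : pol q s w = 0 := by rw [hw, pol_add_right hQ, pol_add_right hQ, psa, psr, p0]; decide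
  have pwa : pol q w (ψ a) = 0 := by rw [hw, pol_add_left hQ, pol_add_left hQ, p0, pra, psa]; decide
  have pwb : pol q w (ψ b) = 0 := by rw [hw, pol_add_left hQ, pol_add_left hQ, pab, prb, psb]; decide
  -- the lifts
  obtain ⟨R, hR, rfl⟩ := P.surj r hr1
  obtain ⟨S, hS, rfl⟩ := P.surj s hs1
  obtain ⟨T, hT, hTw⟩ := P.surj w hw1
  have cm : ∀ {y z : G}, y ∈ Nb D x → z ∈ Nb D x → pol q (ψ y) (ψ z) = 0 → Commute y z :=
    fun hy hz h => nc_eq_zero_iff.1 ((P.pol_eq _ hy _ hz).symm.trans h)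
  have span_mem : ∀ {k : ℕ} (f : Fin k → ι → ZMod 2) (i : Fin k), f i ∈ Submodule.span (ZMod 2) (Set.range f) :=
    fun f i => Submodule.subset_span ⟨i, rfl⟩
  have nRa : R ≠ a := fun h => hrT (h ▸ span_mem ![ψ a, ψ b] 0)
  have nRb : R ≠ b := fun h => hrT (h ▸ span_mem ![ψ a, ψ b] 1)
  have nSa : S ≠ a := fun h => hsT (h ▸ span_mem ![ψ a, ψ b, ψ R] 0)
  have nSb : S ≠ b := fun h => hsT (h ▸ span_mem ![ψ a, ψ b, ψ R] 1)
  have nSR : S ≠ R := fun h => hsT (h ▸ span_mem ![ψ a, ψ b, ψ R] 2)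
  have nTa : T ≠ a := fun h => nSR (P.inj S hS R hR (by
    have h1 : ψ a + ψ R + ψ S = ψ a := by rw [← hw, ← hTw, h]
    rw [add_assoc, add_eq_left] at h1
    calc ψ S = ψ R + ψ R + ψ S := by rw [vec2, zero_add]
      _ = ψ R := by rw [add_assoc, h1, add_zero]))
  have nTb : T ≠ b := fun h => hsT (by
    have h1 : ψ a + ψ R + ψ S = ψ b := by rw [← hw, ← hTw, h]
    have h2 : ψ S = ψ b + ψ a + ψ R := by
      rw [← h1, add_comm (ψ a + ψ R + ψ S) (ψ a), ← add_assoc, ← add_assoc, vec2, zero_add,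
        add_comm (ψ R) (ψ S), add_assoc, vec2, add_zero]
    rw [h2]
    exact Submodule.add_mem _ (Submodule.add_mem _ (span_mem ![ψ a, ψ b, ψ R] 1)
      (span_mem ![ψ a, ψ b, ψ R] 0)) (span_mem ![ψ a, ψ b, ψ R] 2))
  have cRa := cm hR haX pra
  have cRb := cm hR hbX prb
  have cSa := cm hS haX psa
  have cSb := cm hS hbX psb
  have cTa := cm hT haX (hTw.symm ▸ pwa)
  have cTb := cm hT hbX (hTw.symm ▸ pwb)
  have cRS := cm hR hS prs
  have cRT := cm hR hT (hTw.symm ▸ pwr)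
  have cST := cm hS hT (hTw.symm ▸ pws)
  have hxA : x ∈ Nb D a := ⟨hx, nax.symm, cax⟩
  have huA : u ∈ Nb D a := ⟨hu, nau.symm, cau⟩
  have hxB : x ∈ Nb D b := ⟨hx, nbx.symm, cbx⟩
  have huB : u ∈ Nb D b := ⟨hu, nbu.symm, cbu⟩
  have hRA : R ∈ Nb D a := ⟨hR.1, nRa, cRa.symm⟩
  have hSA : S ∈ Nb D a := ⟨hS.1, nSa, cSa.symm⟩
  have hTA : T ∈ Nb D a := ⟨hT.1, nTa, cTa.symm⟩
  have hRB : R ∈ Nb D b := ⟨hR.1, nRb, cRb.symm⟩
  have hSB : S ∈ Nb D b := ⟨hS.1, nSb, cSb.symm⟩
  have hTB : T ∈ Nb D b := ⟨hT.1, nTb, cTb.symm⟩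
  have haB : a ∈ Nb D b := ⟨ha, hab, cab.symm⟩
  have hrel : ψ a + ψ R + ψ S + ψ T = 0 := by rw [hTw, hw, vec2]
  -- the relation seen from `x`
  have hx_rel : ∀ h ∈ Nb D x, nc h a + nc h R + nc h S + nc h T = 0 := fun h hh => by
    rw [← P.pol_eq h hh a haX, ← P.pol_eq h hh R hR, ← P.pol_eq h hh S hS, ← P.pol_eq h hh T hT,
      ← pol_add_right hQ, ← pol_add_right hQ, ← pol_add_right hQ, hrel, pol_zero_right hQ]
  -- at `a`
  have eA : α R + α S + α T = α x := by
    have q1 : q (α R + α S + α T) = 1 := by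
      rw [q_add hQ, q_add hQ, pol_add_left hQ, A.q_one R hRA, A.q_one S hSA, A.q_one T hTA,
        A.pol_eq R hRA S hSA, A.pol_eq R hRA T hTA, A.pol_eq S hSA T hTA, nc_of_commute cRS,
        nc_of_commute cRT, nc_of_commute cST]
      decide
    refine (eq_smul_of_orth hQ (A.q_one x hxA) fun z hz hzp => ?_).resolve_left fun h0 => ?_
    · obtain ⟨h, hh, rfl⟩ := A.surj z hz
      rw [pol_add_right hQ, pol_add_right hQ, A.pol_eq h hh R hRA, A.pol_eq h hh S hSA, A.pol_eq h hh T hTA]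
      rw [A.pol_eq h hh x hxA, nc_eq_zero_iff] at hzp
      by_cases he : h = x
      · subst he
        rw [nc_of_commute hR.2.2, nc_of_commute hS.2.2, nc_of_commute hT.2.2]
        decide
      · have := hx_rel h ⟨hh.1, he, hzp.symm⟩
        rwa [nc_of_commute hh.2.2.symm, zero_add] at this
    · rw [h0, q_zero hQ] at q1
      exact zero_ne_one q1
  -- at `b`
  have eB : β a + β R + β S + β T = 0 := by
    have q0 : q (β a + β R + β S + β T) = 0 := by
      rw [q_add hQ, q_add hQ, q_add hQ, pol_add_left hQ, pol_add_left hQ, pol_add_left hQ,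
        B.q_one a haB, B.q_one R hRB, B.q_one S hSB, B.q_one T hTB, B.pol_eq a haB R hRB,
        B.pol_eq a haB S hSB, B.pol_eq a haB T hTB, B.pol_eq R hRB S hSB, B.pol_eq R hRB T hTB,
        B.pol_eq S hSB T hTB, nc_of_commute cRa.symm, nc_of_commute cSa.symm, nc_of_commute cTa.symm,
        nc_of_commute cRS, nc_of_commute cRT, nc_of_commute cST]
      decide
    refine (eq_smul_of_orth hQ (B.q_one x hxB) fun z hz hzp => ?_).resolve_right fun h1 => ?_
    · obtain ⟨h, hh, rfl⟩ := B.surj z hz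
      rw [pol_add_right hQ, pol_add_right hQ, pol_add_right hQ, B.pol_eq h hh a haB,
        B.pol_eq h hh R hRB, B.pol_eq h hh S hSB, B.pol_eq h hh T hTB]
      rw [B.pol_eq h hh x hxB, nc_eq_zero_iff] at hzp
      by_cases he : h = x
      · subst he
        rw [nc_of_commute cax.symm, nc_of_commute hR.2.2, nc_of_commute hS.2.2, nc_of_commute hT.2.2]
        decide
      · exact hx_rel h ⟨hh.1, he, hzp.symm⟩
    · rw [h1, B.q_one x hxB] at q0
      exact one_ne_zero q0
  -- compare at `u`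
  have h1 : nc u R + nc u S + nc u T = 1 := by
    rw [← A.pol_eq u huA R hRA, ← A.pol_eq u huA S hSA, ← A.pol_eq u huA T hTA, ← pol_add_right hQ,
      ← pol_add_right hQ, eA, A.pol_eq u huA x hxA, nc_of_not fun h => hxu h.symm]
  have h0 : nc u a + nc u R + nc u S + nc u T = 0 := by
    rw [← B.pol_eq u huB a haB, ← B.pol_eq u huB R hRB, ← B.pol_eq u huB S hSB, ← B.pol_eq u huB T hTB,
      ← pol_add_right hQ, ← pol_add_right hQ, ← pol_add_right hQ, eB, pol_zero_right hQ]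
  rw [nc_of_commute cau.symm, zero_add, h1] at h0
  exact one_ne_zero h0

end Cfsg.Agent.FischerClass
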