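import Cfsg.Agent.Lib.FischerClass.SpStep

/-!
Fischer's theorem: the step for symplectic neighbourhoods.
-/

set_option autoImplicit false

namespace Cfsg.Agent.FischerClass

open Cfsg Cfsg.Agent Cfsg.Agent.Fischer Cfsg.Agent.Fischer.Factor
open Cfsg.Agent.Transvec Cfsg.Agent.Transvec.Orth

universe u

variable {G : Type u} [Group G] {D : Set G} {n : ℕ}

theorem shear_zero {m : ℕ} (s : Fin m ⊕ Fin m → ZMod 2) : shear s 0 = 0 := by
  simp [shear, pol_zero_left (sP_form m)]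

/-- Coordinates in the elliptic space. -/
def eMinus (n : ℕ) (v : Fin (n + 1) ⊕ Fin (n + 1) → ZMod 2) (s t : ZMod 2) :
    (Fin (n + 1) ⊕ Fin (n + 1)) ⊕ Fin 2 → ZMod 2 := Sum.elim v ![s, t]

theorem q_eMinus (v : Fin (n + 1) ⊕ Fin (n + 1) → ZMod 2) (s t : ZMod 2) :
    Cfsg.quadFormMinus (n + 1) (ZMod 2) 1 1 (eMinus n v s t) = sP (n + 1) v + (s ^ 2 + s * t + t ^ 2) := by
  simp [Cfsg.quadFormMinus, eMinus, Cfsg.quadFormPlus]

theorem eMinus_add (v v' : Fin (n + 1) ⊕ Fin (n + 1) → ZMod 2) (s t s' t' : ZMod 2) :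
    eMinus n (v + v') (s + s') (t + t') = eMinus n v s t + eMinus n v' s' t' := by
  funext i
  rcases i with i | i
  · simp [eMinus]
  · fin_cases i <;> simp [eMinus]

/-- Coordinates in the hyperbolic space. -/
def ePlus (n : ℕ) (v : Fin (n + 1) ⊕ Fin (n + 1) → ZMod 2) (s t : ZMod 2) :
    Fin (n + 2) ⊕ Fin (n + 2) → ZMod 2 :=
  Sum.elim
    (Fin.lastCases (v (.inl 0) + v (.inr 0) + s + t) fun i => v (.inl i) + (if i = 0 then t else 0))
    (Fin.lastCases (v (.inl 0) + v (.inr 0) + s) fun i => v (.inr i) + (if i = 0 then t else 0))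

theorem q_ePlus (v : Fin (n + 1) ⊕ Fin (n + 1) → ZMod 2) (s t : ZMod 2) :
    sP (n + 2) (ePlus n v s t) =
      sP (n + 1) v + (v (.inl 0) + v (.inr 0)) + (s ^ 2 + s * t + t ^ 2) := by
  simp only [sP, Cfsg.quadFormPlus, ePlus, Sum.elim_inl, Sum.elim_inr]
  rw [Fin.sum_univ_castSucc]
  simp only [Fin.lastCases_castSucc, Fin.lastCases_last]
  rw [Fin.sum_univ_succ (n := n), Fin.sum_univ_succ (n := n)]
  simp only [Fin.succ_ne_zero, if_false, add_zero, if_true]
  generalize (∑ i : Fin n, v (.inl i.succ) * v (.inr i.succ)) = r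
  generalize v (.inl 0) = a
  generalize v (.inr 0) = b
  revert r a b s t
  decide

theorem ePlus_add (v v' : Fin (n + 1) ⊕ Fin (n + 1) → ZMod 2) (s t s' t' : ZMod 2) :
    ePlus n (v + v') (s + s') (t + t') = ePlus n v s t + ePlus n v' s' t' := by
  funext i
  rcases i with i | i <;> refine Fin.lastCases ?_ (fun j => ?_) i <;>
    simp only [ePlus, Sum.elim_inl, Sum.elim_inr, Fin.lastCases_castSucc, Fin.lastCases_last, Pi.add_apply] <;>
    first
      | (by_cases h : j = 0 <;> simp [h] <;> ring1)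
      | ring1

theorem ePlus_surj (z : Fin (n + 2) ⊕ Fin (n + 2) → ZMod 2) : ∃ v s t, z = ePlus n v s t := by
  set t := z (.inl (Fin.last _)) + z (.inr (Fin.last _)) with ht
  refine ⟨Sum.elim (fun i => z (.inl i.castSucc) + (if i = 0 then t else 0))
      (fun i => z (.inr i.castSucc) + (if i = 0 then t else 0)),
    z (.inr (Fin.last _)) + (z (.inl (0 : Fin (n + 1)).castSucc) + t) + (z (.inr (0 : Fin (n + 1)).castSucc) + t),
    t, ?_⟩
  funext i
  rcases i with i | i <;> refine Fin.lastCases ?_ (fun j => ?_) i <;>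
    simp only [ePlus, Sum.elim_inl, Sum.elim_inr, Fin.lastCases_castSucc, Fin.lastCases_last, if_true]
  · rw [ht]
    generalize z (.inl (Fin.last (n + 1))) = a
    generalize z (.inr (Fin.last (n + 1))) = b
    generalize z (.inl (0 : Fin (n + 1)).castSucc) = c
    generalize z (.inr (0 : Fin (n + 1)).castSucc) = d
    revert a b c d
    decide
  · rw [add_assoc, CharTwo.add_self_eq_zero, add_zero]
  · generalize z (.inl (0 : Fin (n + 1)).castSucc) = c
    generalize z (.inr (0 : Fin (n + 1)).castSucc) = d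
    generalize z (.inr (Fin.last (n + 1))) = b
    generalize t = t'
    revert b c d t'
    decide
  · rw [add_assoc, CharTwo.add_self_eq_zero, add_zero]

section

variable {ι : Type} {q : (ι → ZMod 2) → ZMod 2} {F : (Fin (n + 1) ⊕ Fin (n + 1) → ZMod 2) → ZMod 2 → ZMod 2 → ι → ZMod 2}

/-- What a coordinate map gives. -/
theorem coords_facts {h : (Fin (n + 1) ⊕ Fin (n + 1) → ZMod 2) → ZMod 2} (h0 : h 0 = 0)
    (hF : ∀ v v' s t s' t', F (v + v') (s + s') (t + t') = F v s t + F v' s' t')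
    (hq : ∀ v s t, q (F v s t) = h v + (s ^ 2 + s * t + t ^ 2))
    (hsurj : ∀ z, ∃ v s t, z = F v s t) :
    (∀ v w, F (v + w) 0 0 = F v 0 0 + F w 0 0) ∧ (∀ v, q (F v 0 0) = h v) ∧ q (F 0 1 0) = 1 ∧
      q (F 0 0 1) = 1 ∧ (∀ v, pol q (F v 0 0) (F 0 1 0) = 0) ∧ (∀ v, pol q (F v 0 0) (F 0 0 1) = 0) ∧
      pol q (F 0 1 0) (F 0 0 1) = 1 ∧
      ∀ z, ∃ v, ∃ s t : ZMod 2, z = F v 0 0 + s • F 0 1 0 + t • F 0 0 1 := by
  have smulF : ∀ (c : ZMod 2) v s t, c • F v s t = F (c • v) (c * s) (c * t) := by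
    intro c v s t
    have h00 : F 0 0 0 = 0 := by
      have := hF 0 0 0 0 0 0
      rw [add_zero, add_zero] at this
      exact left_eq_add.1 this
    rcases OrthTwo.zmod2 c with rfl | rfl
    · rw [zero_smul, zero_smul, zero_mul, zero_mul, h00]
    · rw [one_smul, one_smul, one_mul, one_mul]
  refine ⟨fun v w => ?_, fun v => ?_, ?_, ?_, fun v => ?_, fun v => ?_, ?_, fun z => ?_⟩
  · rw [← hF, add_zero]
  · rw [hq]; simp
  · rw [hq, h0]; decide
  · rw [hq, h0]; decide
  · rw [pol, QuadraticMap.polar, ← hF, hq, hq, hq]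
    simp [h0]
  · rw [pol, QuadraticMap.polar, ← hF, hq, hq, hq]
    simp [h0]
  · rw [pol, QuadraticMap.polar, ← hF, hq, hq, hq]
    simp [h0]
  · obtain ⟨v, s, t, rfl⟩ := hsurj z
    refine ⟨v, s, t, ?_⟩
    rw [smulF, smulF, ← hF, ← hF]
    simp

end

variable [Finite G]

/-- The step for symplectic neighbourhoods. -/
theorem step_sp (hL : Loc D) {m : ℕ} (hm : 2 ≤ m)
    (hP : ∀ t ∈ D, ∃ ψ : G → Fin m ⊕ Fin m → ZMod 2, SpModel (Nb D t) ψ) : IsOTwo D := by
  obtain ⟨n, rfl⟩ : ∃ n, m = n + 1 := ⟨m - 1, by omega⟩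
  have hsy := sp_syOn hL hm hP
  obtain ⟨x, hx, u, hu, -, -, -, -, hxu, -⟩ := hL.exists_edge
  obtain ⟨ψ, P⟩ := hP x hx
  obtain ⟨g, hg, hgn, -⟩ := sp_shape hL hm hP hx hu hxu P
  obtain ⟨s, hs | hs⟩ := exists_normal hg
  · refine Or.inr ⟨n + 1, hm, ?_⟩
    obtain ⟨hE, hqE, hqx, hqu, hEx, hEu, hxy, hspan⟩ := coords_facts (F := eMinus n) (h := sP (n + 1))
      (q_zero (sP_form (n + 1))) eMinus_add q_eMinus (fun z => ⟨fun i => z (.inl i), z (.inr 0), z (.inr 1),
        funext fun i => by rcases i with i | i; · rfl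
                           fin_cases i <;> rfl⟩)
    exact sp_recog hL hsy (AutPOmega.geo_minus minus_form (n + 1)) (by simp; omega) hx hu hxu P hg hgn
      (E := fun v => eMinus n (shear s v) 0 0) (fun v w => by simp only [shear_add, hE])
      (fun v => by rw [hqE, ← hs]) hqx hqu (fun v => hEx _) (fun v => hEu _) hxy (fun z => by
        obtain ⟨v, a, b, rfl⟩ := hspan z
        exact ⟨shear s v, a, b, by rw [shear_shear]⟩)
  · refine Or.inl ⟨n + 2, by omega, ?_⟩
    obtain ⟨hE, hqE, hqx, hqu, hEx, hEu, hxy, hspan⟩ := coords_facts (F := ePlus n)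
      (q := Cfsg.quadFormPlus (n + 2) (ZMod 2))
      (h := fun v => sP (n + 1) v + (v (.inl 0) + v (.inr 0)))
      (by simp [q_zero (sP_form (n + 1))]) ePlus_add (fun v a b => q_ePlus v a b) ePlus_surj
    exact sp_recog hL hsy (AutPOmega.geo_plus (n + 2)) (by simp; omega) hx hu hxu P hg hgn
      (E := fun v => ePlus n (shear s v) 0 0) (fun v w => by simp only [shear_add, hE])
      (fun v => by rw [hqE, ← hs]) hqx hqu (fun v => hEx _) (fun v => hEu _) hxy (fun z => by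
        obtain ⟨v, a, b, rfl⟩ := hspan z
        exact ⟨shear s v, a, b, by rw [shear_shear]⟩)

end Cfsg.Agent.FischerClass
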