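import Cfsg.Agent.Lib.FischerClass.SymPoint
import Cfsg.Agent.Lib.FischerClass.Count

/-!
Fischer's theorem: the symmetric group of degree five at the neighbourhood.
-/

set_option autoImplicit false

namespace Cfsg.Agent.FischerClass

open Cfsg Cfsg.Agent Cfsg.Agent.Fischer Cfsg.Agent.Fischer.Factor

universe u

variable {G : Type u} [Group G] {D : Set G}

/-- The pairs of five letters. -/
def fivePairs : Finset (Finset (Fin 5)) := (Finset.univ : Finset (Fin 5)).powersetCard 2

theorem five_disjoint : ∀ p ∈ fivePairs, (fivePairs.filter fun q => Disjoint p q).card = 3 := by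
  decide +kernel

theorem five_through : ∀ i : Fin 5, (fivePairs.filter fun p => i ∈ p).card = 4 := by
  decide +kernel

theorem five_card : fivePairs.card = 10 := by decide +kernel

/-- Sets of pairs each disjoint from exactly one other: an even number, and six only around a point. -/
theorem five_sets (S : Finset (Finset (Fin 5))) (hsub : S ⊆ fivePairs)
    (hone : ∀ p ∈ S, (S.filter fun q => Disjoint p q).card = 1) :
    Even S.card ∧ S.card ≠ 10 ∧ (S.card = 6 → ∃ i, S = fivePairs.filter fun p => i ∉ p) := by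
  classical
  have two : ∀ p ∈ S, p.card = 2 := fun p hp => (Finset.mem_powersetCard.1 (hsub hp)).2
  refine ⟨?_, fun h10 => ?_, fun h6 => ?_⟩
  · have hex : ∀ p, ∃ q, p ∈ S → S.filter (fun q => Disjoint p q) = {q} := fun p => by
      by_cases hp : p ∈ S
      · obtain ⟨q, hq⟩ := Finset.card_eq_one.1 (hone p hp)
        exact ⟨q, fun _ => hq⟩
      · exact ⟨p, fun h => absurd h hp⟩
    choose f hf using hex
    refine even_card_of_involution _ S f rfl fun p hp => ?_
    have hm : f p ∈ S.filter fun q => Disjoint p q := (hf p hp).symm ▸ Finset.mem_singleton_self _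
    obtain ⟨hfS, hd⟩ := Finset.mem_filter.1 hm
    refine ⟨hfS, fun e => ?_, ?_⟩
    · rw [e, disjoint_self] at hd
      exact absurd (two p hp) (by rw [hd]; simp)
    · have : p ∈ S.filter fun q => Disjoint (f p) q := Finset.mem_filter.2 ⟨hp, hd.symm⟩
      rw [hf (f p) hfS, Finset.mem_singleton] at this
      exact this.symm
  · have hSe : S = fivePairs := Finset.eq_of_subset_of_card_le hsub (by rw [five_card, h10])
    obtain ⟨p, hp⟩ : S.Nonempty := Finset.card_pos.1 (by omega)
    have h1 := hone p hp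
    rw [hSe, five_disjoint p (hsub hp)] at h1
    exact absurd h1 (by decide)
  · set Y := fivePairs \ S with hY
    have hYc : Y.card = 4 := by rw [hY, Finset.card_sdiff_of_subset hsub, five_card, h6]
    have hle : ∀ q ∈ Y, (S.filter fun p => Disjoint p q).card ≤ 3 := fun q hq => by
      refine (Finset.card_le_card ?_).trans (five_disjoint q (Finset.mem_sdiff.1 hq).1).le
      intro p hp
      rw [Finset.mem_filter] at hp ⊢
      exact ⟨hsub hp.1, hp.2.symm⟩
    have hdc := Finset.sum_card_bipartiteAbove_eq_sum_card_bipartiteBelow (s := S) (t := Y)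
      (fun p q => Disjoint p q)
    simp only [Finset.bipartiteAbove, Finset.bipartiteBelow] at hdc
    have h2 : ∀ p ∈ S, (Y.filter fun q => Disjoint p q).card = 2 := fun p hp => by
      have e : Y.filter (fun q => Disjoint p q) =
          fivePairs.filter (fun q => Disjoint p q) \ S.filter (fun q => Disjoint p q) := by
        ext q; simp only [hY, Finset.mem_filter, Finset.mem_sdiff]; tauto
      rw [e, Finset.card_sdiff_of_subset (Finset.filter_subset_filter _ hsub),
        five_disjoint p (hsub hp), hone p hp]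
    rw [Finset.sum_congr rfl h2, Finset.sum_const, h6] at hdc
    have hall : ∀ q ∈ Y, (S.filter fun p => Disjoint p q).card = 3 :=
      (Finset.sum_eq_sum_iff_of_le hle).1 (by rw [← hdc, Finset.sum_const, hYc]; rfl)
    obtain ⟨i, hi⟩ := star (F := Y) (fun p hp => (Finset.mem_powersetCard.1 (Finset.mem_sdiff.1 hp).1).2)
      (fun p hp q hq hd => by
        have hsub' : S.filter (fun r => Disjoint r q) ⊆ fivePairs.filter (fun r => Disjoint q r) :=
          fun r hr => by
            rw [Finset.mem_filter] at hr ⊢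
            exact ⟨hsub hr.1, hr.2.symm⟩
        have e := Finset.eq_of_subset_of_card_le hsub'
          (by rw [hall q hq, five_disjoint q (Finset.mem_sdiff.1 hq).1])
        have hp' : p ∈ fivePairs.filter fun r => Disjoint q r :=
          Finset.mem_filter.2 ⟨(Finset.mem_sdiff.1 hp).1, hd.symm⟩
        rw [← e] at hp'
        exact (Finset.mem_sdiff.1 hp).2 (Finset.mem_filter.1 hp').1)
      (by omega)
    have hYe : Y = fivePairs.filter fun p => i ∈ p := Finset.eq_of_subset_of_card_le
      (fun p hp => Finset.mem_filter.2 ⟨(Finset.mem_sdiff.1 hp).1, hi p hp⟩)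
      (by rw [five_through, hYc])
    refine ⟨i, ?_⟩
    rw [← Finset.sdiff_sdiff_eq_self hsub, ← hY, hYe]
    ext p
    simp only [Finset.mem_sdiff, Finset.mem_filter]
    tauto

theorem five_one : ∀ p ∈ fivePairs, ∀ q ∈ fivePairs, (p ∩ q).card = 1 →
    (fivePairs.filter fun r => Disjoint r p ∧ Disjoint r q).card = 1 := by
  decide +kernel

theorem mem_fivePairs {p : Finset (Fin 5)} : p ∈ fivePairs ↔ p.card = 2 := by
  simp [fivePairs, Finset.mem_powersetCard]

theorem not_disjoint_self_pair {n : ℕ} {p : Finset (Fin n)} (h : p.card = 2) : ¬ Disjoint p p := by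
  rw [disjoint_self]
  rintro rfl
  exact absurd h (by simp)

variable [Finite G]

theorem five_counts {t : G} {ψ : G → Finset (Fin 5)} (P : PairModel (Nb D t) ψ) :
    (Nb D t).ncard = 10 ∧ ∀ a ∈ Nb D t, (Nb D t ∩ Nb D a).ncard = 3 := by
  classical
  have key : ∀ (S : Set G) (F : Finset (Finset (Fin 5))), S ⊆ Nb D t → F ⊆ fivePairs →
      (∀ c ∈ Nb D t, c ∈ S ↔ ψ c ∈ F) → S.ncard = F.card := by
    intro S F hS hF h
    rw [← Set.ncard_coe_finset F, show (F : Set (Finset (Fin 5))) = ψ '' S from Set.ext fun p => ?_,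
      Set.InjOn.ncard_image fun a ha b hb => P.inj a (hS ha) b (hS hb)]
    constructor
    · intro hp
      obtain ⟨c, hc, rfl⟩ := P.surj p (mem_fivePairs.1 (hF hp))
      exact ⟨c, (h c hc).2 hp, rfl⟩
    · rintro ⟨c, hc, rfl⟩
      exact (h c (hS hc)).1 hc
  refine ⟨?_, fun a ha => ?_⟩
  · rw [key (Nb D t) fivePairs subset_rfl subset_rfl fun c hc =>
      iff_of_true hc (mem_fivePairs.2 (P.card c hc))]
    rfl
  · rw [key (Nb D t ∩ Nb D a) (fivePairs.filter fun q => Disjoint (ψ a) q) Set.inter_subset_left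
      (Finset.filter_subset _ _) fun c hc => ?_]
    · exact five_disjoint _ (mem_fivePairs.2 (P.card a ha))
    simp only [Set.mem_inter_iff, Finset.mem_filter, mem_fivePairs, P.card c hc, true_and]
    constructor
    · rintro ⟨-, h⟩
      exact ((P.commute_iff ha hc).1 h.2.2).resolve_left fun e => h.2.1 e.symm
    · intro h
      exact ⟨hc, hc.1, fun e => not_disjoint_self_pair (P.card a ha) (e ▸ h),
        (P.commute_iff ha hc).2 (Or.inr h)⟩

/-- The common neighbours of two far members: two or six, six only around a point. -/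
theorem five_common (hL : Loc D) (hP : ∀ t ∈ D, ∃ ψ : G → Finset (Fin 5), PairModel (Nb D t) ψ)
    {x u : G} (hx : x ∈ D) (hu : u ∈ D) (hxu : ¬ Commute x u) {ψ : G → Finset (Fin 5)}
    (P : PairModel (Nb D x) ψ) :
    ((Nb D x ∩ Nb D u).ncard = 2 ∨ (Nb D x ∩ Nb D u).ncard = 6) ∧
      ((Nb D x ∩ Nb D u).ncard = 6 → ∃ i, Avoid D x u ψ i) := by
  classical
  have hXS : ∀ c ∈ Nb D x, c ∈ Nb D u ↔ Commute c u := fun c hc =>
    ⟨fun h => h.2.2.symm, fun h => ⟨hc.1, fun e => hxu (e ▸ hc.2.2), h.symm⟩⟩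
  set S := ((Set.toFinite (Nb D x ∩ Nb D u)).toFinset).image ψ with hS
  have hmem : ∀ c ∈ Nb D x, ψ c ∈ S ↔ Commute c u := by
    intro c hc
    simp only [hS, Finset.mem_image, Set.Finite.mem_toFinset]
    constructor
    · rintro ⟨d, hd, e⟩
      exact P.inj d hd.1 c hc e ▸ hd.2.2.2.symm
    · exact fun h => ⟨c, ⟨hc, (hXS c hc).2 h⟩, rfl⟩
  have hcardS : S.card = (Nb D x ∩ Nb D u).ncard := by
    rw [hS, Finset.card_image_of_injOn fun a ha b hb => P.inj a
      ((Set.Finite.mem_toFinset _).1 ha).1 b ((Set.Finite.mem_toFinset _).1 hb).1,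
      Set.ncard_eq_toFinset_card _ (Set.toFinite _)]
  have hSsub : S ⊆ fivePairs := by
    intro p hp
    obtain ⟨c, hc, rfl⟩ := Finset.mem_image.1 hp
    exact mem_fivePairs.2 (P.card c ((Set.Finite.mem_toFinset _).1 hc).1)
  have hone : ∀ p ∈ S, (S.filter fun q => Disjoint p q).card = 1 := by
    intro p hp
    obtain ⟨a, ha, rfl⟩ := Finset.mem_image.1 hp
    have ha' := (Set.Finite.mem_toFinset _).1 ha
    obtain ⟨α, A⟩ := hP a ha'.1.1
    have hxA : x ∈ Nb D a := ⟨hx, ha'.1.2.1.symm, ha'.1.2.2.symm⟩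
    have huA : u ∈ Nb D a := ⟨hu, ha'.2.2.1.symm, ha'.2.2.2.symm⟩
    have h1 : (α x ∩ α u).card = 1 := by
      rcases card_inter_cases (A.card x hxA) (A.card u huA) with ⟨h, -⟩ | ⟨h, -⟩ | h
      · exact absurd (A.inj x hxA u huA h ▸ Commute.refl x) hxu
      · exact absurd ((A.commute_iff hxA huA).2 (Or.inr h)) hxu
      · exact h
    obtain ⟨r, hr⟩ := Finset.card_eq_one.1 (five_one _ (mem_fivePairs.2 (A.card x hxA)) _
      (mem_fivePairs.2 (A.card u huA)) h1)
    have hrm : r ∈ fivePairs ∧ Disjoint r (α x) ∧ Disjoint r (α u) := by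
      have := hr.symm ▸ Finset.mem_singleton_self r
      simpa [Finset.mem_filter] using this
    obtain ⟨b, hb, rfl⟩ := A.surj r (mem_fivePairs.1 hrm.1)
    have hbx : b ≠ x := fun e => not_disjoint_self_pair (A.card x hxA) (e ▸ hrm.2.1)
    have hbX : b ∈ Nb D x := ⟨hb.1, hbx, ((A.commute_iff hb hxA).2 (Or.inr hrm.2.1)).symm⟩
    refine Finset.card_eq_one.2 ⟨ψ b, Finset.ext fun q => ?_⟩
    rw [Finset.mem_filter, Finset.mem_singleton]
    constructor
    · rintro ⟨hq, hd⟩
      obtain ⟨c, hc, rfl⟩ := Finset.mem_image.1 hq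
      have hc' := (Set.Finite.mem_toFinset _).1 hc
      have hca : c ∈ Nb D a := ⟨hc'.1.1, fun e => not_disjoint_self_pair (P.card a ha'.1) (e ▸ hd),
        (P.commute_iff ha'.1 hc'.1).2 (Or.inr hd)⟩
      have e : α c ∈ ({α b} : Finset (Finset (Fin 5))) := hr ▸ Finset.mem_filter.2
        ⟨mem_fivePairs.2 (A.card c hca),
          ((A.commute_iff hca hxA).1 hc'.1.2.2.symm).resolve_left hc'.1.2.1,
          ((A.commute_iff hca huA).1 hc'.2.2.2.symm).resolve_left hc'.2.2.1⟩
      rw [A.inj c hca b hb (Finset.mem_singleton.1 e)]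
    · rintro rfl
      exact ⟨(hmem b hbX).2 ((A.commute_iff hb huA).2 (Or.inr hrm.2.2)),
        ((P.commute_iff ha'.1 hbX).1 hb.2.2).resolve_left fun e => hb.2.1 e.symm⟩
  obtain ⟨hev, hne10, hsix⟩ := five_sets S hSsub hone
  rw [hcardS] at hev hne10
  refine ⟨?_, fun h6 => ?_⟩
  · have hμ : ∀ v ∈ far D x, (Nb D x ∩ Nb D v).ncard = (Nb D x ∩ Nb D u).ncard := by
      rintro v ⟨hv, hxv⟩
      obtain ⟨k, hk1, hk2⟩ := hL.far_move hx hu hxu hx hv hxv
      have := nb_inter_conj hL.toStd k x u
      rwa [hk1, hk2] at this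
    have hcount := far_mul hL.toStd hx (k := 10) (l := 3)
      (fun t ht => by obtain ⟨φ, Q'⟩ := hP t ht; exact (five_counts Q').1) (five_counts P).2 hμ
    obtain ⟨f, hf⟩ := even_far hL.toStd hx
    obtain ⟨h, hh⟩ := hev
    rw [hf, hh] at hcount
    rw [hh]
    have hle : (Nb D x ∩ Nb D u).ncard ≤ 10 := by
      rw [← (five_counts P).1]
      exact Set.ncard_le_ncard Set.inter_subset_left (Set.toFinite _)
    have hh4 : h ≤ 4 := by omega
    rcases Nat.eq_zero_or_pos h with rfl | hpos
    · simp at hcount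
    interval_cases h <;> omega
  · obtain ⟨i, hi⟩ := hsix (hcardS.trans h6)
    refine ⟨i, fun c hc => ?_⟩
    rw [← hmem c hc, hi, Finset.mem_filter, mem_fivePairs]
    exact ⟨fun h => h.2, fun h => ⟨P.card c hc, h⟩⟩

/-- The step for the symmetric group of degree five, given that two common neighbours are impossible. -/
theorem step_five_of (hL : Loc D) (hP : ∀ t ∈ D, ∃ ψ : G → Finset (Fin 5), PairModel (Nb D t) ψ)
    (h2 : ∀ x ∈ D, ∀ u ∈ D, ¬ Commute x u → (Nb D x ∩ Nb D u).ncard ≠ 2) : IsSym D 7 :=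
  isSym_of_avoid hL le_rfl hP fun x hx u hu hxu _ P => by
    obtain ⟨h, h6⟩ := five_common hL hP hx hu hxu P
    exact h6 (h.resolve_left (h2 x hx u hu hxu))

end Cfsg.Agent.FischerClass
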