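import Cfsg.Agent.Lib.FischerClass.SymPoint

/-!
Fischer's theorem: a symmetric group of degree at least seven at the neighbourhood gives a symmetric group.
-/

set_option autoImplicit false

namespace Cfsg.Agent.FischerClass

open Cfsg Cfsg.Agent Cfsg.Agent.Fischer Cfsg.Agent.Fischer.Factor

universe u

variable {G : Type u} [Group G] {D : Set G} {n : ℕ}

/-- At a common neighbour the far member commutes with the pairs missing a point. -/
theorem star_at (hn : 7 ≤ n) {x u a : G} (hx : x ∈ D) (hu : u ∈ D) (hxu : ¬ Commute x u)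
    (haX : a ∈ Nb D x) (hau : Commute a u) {ψ : G → Finset (Fin n)} (P : PairModel (Nb D x) ψ)
    {α : G → Finset (Fin n)} (A : PairModel (Nb D a) α) :
    ∃ i, i ∉ ψ a ∧ ∀ c ∈ Nb D x, Disjoint (ψ c) (ψ a) → (Commute c u ↔ i ∉ ψ c) := by
  classical
  have hua : u ≠ a := fun h => hxu (h ▸ haX.2.2)
  have hxA : x ∈ Nb D a := ⟨hx, haX.2.1.symm, haX.2.2.symm⟩
  have huA : u ∈ Nb D a := ⟨hu, hua, hau⟩
  set p := α x with hp
  set q := α u with hq
  have hpq : ¬ Disjoint p q := fun h => hxu ((A.commute_iff hxA huA).2 (Or.inr h))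
  have hne : p ≠ q := fun h => hxu (A.inj x hxA u huA h ▸ Commute.refl x)
  obtain ⟨k, hkq, hkp⟩ : ∃ k ∈ q, k ∉ p := by
    by_contra h
    push Not at h
    exact hne (Finset.eq_of_subset_of_card_le h (by rw [A.card x hxA, A.card u huA])).symm
  have hR : n - 3 ≤ (Finset.univ \ (p ∪ q)).card := by
    rw [Finset.card_sdiff_of_subset (Finset.subset_univ _), Finset.card_univ, Fintype.card_fin]
    have h1 := Finset.card_union_add_card_inter p q
    rw [A.card x hxA, A.card u huA] at h1
    have h2 : 1 ≤ (p ∩ q).card :=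
      Finset.card_pos.2 (Finset.not_disjoint_iff_nonempty_inter.1 hpq)
    omega
  set R := Finset.univ \ (p ∪ q) with hRdef
  have hRk : ∀ j ∈ R, j ∉ p ∧ j ∉ q ∧ k ≠ j := fun j hj => by
    simp only [hRdef, Finset.mem_sdiff, Finset.mem_union, not_or] at hj
    exact ⟨hj.2.1, hj.2.2, fun e => hj.2.2 (e ▸ hkq)⟩
  have hdata : ∀ j, ∃ c, j ∈ R → (c ∈ Nb D a ∧ α c = {k, j}) := by
    intro j
    by_cases hj : j ∈ R
    · obtain ⟨c, hc, hce⟩ := A.surj _ (Finset.card_pair (hRk j hj).2.2)
      exact ⟨c, fun _ => ⟨hc, hce⟩⟩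
    · exact ⟨1, fun h => absurd h hj⟩
  choose g hg using hdata
  have gN : ∀ j ∈ R, g j ∈ Nb D x ∧ Disjoint (ψ (g j)) (ψ a) ∧ ¬ Commute (g j) u := by
    intro j hj
    obtain ⟨hm, he⟩ := hg j hj
    obtain ⟨hjp, hjq, hkj⟩ := hRk j hj
    have hdx : Disjoint (α (g j)) p := by rw [he]; simp [hkp, hjp]
    have hcx : Commute (g j) x := (A.commute_iff hm hxA).2 (Or.inr hdx)
    have hgx : g j ≠ x := fun h => by
      rw [h] at he
      exact hkp (by rw [hp, he]; simp)
    have hgN : g j ∈ Nb D x := ⟨hm.1, hgx, hcx.symm⟩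
    refine ⟨hgN, ((P.commute_iff hgN haX).1 hm.2.2.symm).resolve_left hm.2.1, fun h => ?_⟩
    rcases (A.commute_iff hm huA).1 h with h' | h'
    · rw [← h'] at hq
      rw [hq, he] at hjq
      simp at hjq
    · exact Finset.disjoint_left.1 h' (by rw [he]; simp) hkq
  set T := R.image (fun j => ψ (g j)) with hT
  have hginj : Set.InjOn (fun j => ψ (g j)) (R : Set (Fin n)) := by
    intro j hj j' hj' e
    have h := P.inj _ (gN j hj).1 _ (gN j' hj').1 e
    have h' : ({k, j} : Finset (Fin n)) = {k, j'} := by rw [← (hg j hj).2, ← (hg j' hj').2, h]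
    have hmem : j ∈ ({k, j'} : Finset (Fin n)) := h' ▸ by simp
    simp only [Finset.mem_insert, Finset.mem_singleton] at hmem
    exact hmem.resolve_left (Ne.symm (hRk j hj).2.2)
  have hTcard : n - 3 ≤ T.card := by rw [hT, Finset.card_image_of_injOn hginj]; exact hR
  obtain ⟨i, hi⟩ : ∃ i, ∀ P' ∈ T, i ∈ P' := by
    refine star ?_ ?_ (by omega)
    · intro r hr
      obtain ⟨j, hj, rfl⟩ := Finset.mem_image.1 hr
      exact P.card _ (gN j hj).1
    · intro r hr r' hr'
      obtain ⟨j, hj, rfl⟩ := Finset.mem_image.1 hr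
      obtain ⟨j', hj', rfl⟩ := Finset.mem_image.1 hr'
      intro hd
      rcases (A.commute_iff (hg j hj).1 (hg j' hj').1).1
        ((P.commute_iff (gN j hj).1 (gN j' hj').1).2 (Or.inr hd)) with h | h
      · have hself : Disjoint (ψ (g j)) (ψ (g j)) := h ▸ hd
        rw [disjoint_self] at hself
        have := P.card _ (gN j hj).1
        rw [hself] at this
        exact absurd this (by simp)
      · rw [(hg j hj).2, (hg j' hj').2] at h
        simp at h
  have hia : i ∉ ψ a := by
    obtain ⟨j, hj⟩ : R.Nonempty := Finset.card_pos.1 (by omega)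
    exact fun h => Finset.disjoint_left.1 (gN j hj).2.1 (hi _ (Finset.mem_image_of_mem _ hj)) h
  refine ⟨i, hia, fun c hc hd => ?_⟩
  have hca : Commute c a := (P.commute_iff hc haX).2 (Or.inr hd)
  have hne' : c ≠ a := fun h => by
    subst h
    rw [disjoint_self] at hd
    have := P.card c hc
    rw [hd] at this
    exact absurd this (by simp)
  have hcA : c ∈ Nb D a := ⟨hc.1, hne', hca.symm⟩
  constructor
  · intro hcu hic
    -- every pair through the point missing `a` is one of the star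
    set U := (Finset.univ \ insert i (ψ a)).image (fun l => ({i, l} : Finset (Fin n))) with hU
    have hTU : T ⊆ U := by
      intro r hr
      obtain ⟨j, hj, rfl⟩ := Finset.mem_image.1 hr
      obtain ⟨a', b', hab, he⟩ := Finset.card_eq_two.1 (P.card _ (gN j hj).1)
      have hi' : i ∈ ψ (g j) := hi _ hr
      have hl : ∃ l, l ≠ i ∧ ψ (g j) = {i, l} := by
        rw [he] at hi'
        simp only [Finset.mem_insert, Finset.mem_singleton] at hi'
        rcases hi' with rfl | rfl
        · exact ⟨b', hab.symm, he⟩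
        · exact ⟨a', hab, by rw [he, Finset.pair_comm]⟩
      obtain ⟨l, hli, hle⟩ := hl
      refine Finset.mem_image.2 ⟨l, Finset.mem_sdiff.2 ⟨Finset.mem_univ l, ?_⟩, hle.symm⟩
      simp only [Finset.mem_insert, not_or]
      exact ⟨hli, fun h => Finset.disjoint_left.1 (gN j hj).2.1 (by rw [hle]; simp) h⟩
    have hUcard : U.card ≤ n - 3 := by
      refine Finset.card_image_le.trans ?_
      rw [Finset.card_sdiff_of_subset (Finset.subset_univ _), Finset.card_univ, Fintype.card_fin,
        Finset.card_insert_of_notMem hia, P.card a haX]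
    have hcU : ψ c ∈ U := by
      obtain ⟨a', b', hab, he⟩ := Finset.card_eq_two.1 (P.card c hc)
      have hl : ∃ l, l ≠ i ∧ ψ c = {i, l} := by
        rw [he] at hic
        simp only [Finset.mem_insert, Finset.mem_singleton] at hic
        rcases hic with rfl | rfl
        · exact ⟨b', hab.symm, he⟩
        · exact ⟨a', hab, by rw [he, Finset.pair_comm]⟩
      obtain ⟨l, hli, hle⟩ := hl
      refine Finset.mem_image.2 ⟨l, Finset.mem_sdiff.2 ⟨Finset.mem_univ l, ?_⟩, hle.symm⟩
      simp only [Finset.mem_insert, not_or]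
      exact ⟨hli, fun h => Finset.disjoint_left.1 hd (by rw [hle]; simp) h⟩
    rw [← Finset.eq_of_subset_of_card_le hTU (by omega)] at hcU
    obtain ⟨j, hj, hje⟩ := Finset.mem_image.1 hcU
    exact (gN j hj).2.2 (P.inj _ (gN j hj).1 c hc hje ▸ hcu)
  · intro hic
    by_contra hcu
    have hcx : Disjoint (α c) p := ((A.commute_iff hcA hxA).1 hc.2.2.symm).resolve_left hc.2.1
    have hcq : ¬ Disjoint (α c) q := fun h => hcu ((A.commute_iff hcA huA).2 (Or.inr h))
    obtain ⟨z, hz1, hz2⟩ := Finset.not_disjoint_iff.1 hcq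
    -- the point of `q` outside `p` is unique
    have hzk : z = k := by
      have h1 : z ∉ p := fun h => Finset.disjoint_left.1 hcx hz1 h
      by_contra hne2
      obtain ⟨w, hwp, hwq⟩ := Finset.not_disjoint_iff.1 hpq
      have hwz : w ≠ z := fun e => h1 (e ▸ hwp)
      have hwk : w ≠ k := fun e => hkp (e ▸ hwp)
      have := Finset.card_le_card (show ({w, z, k} : Finset (Fin n)) ⊆ q by
        simp [Finset.insert_subset_iff, hwq, hz2, hkq])
      rw [A.card u huA, Finset.card_insert_of_notMem (by simp [hwz, hwk]), Finset.card_pair hne2] at this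
      omega
    obtain ⟨a', b', hab, he⟩ := Finset.card_eq_two.1 (A.card c hcA)
    obtain ⟨j, hjk, hje⟩ : ∃ j, j ≠ k ∧ α c = {k, j} := by
      rw [he] at hz1
      simp only [Finset.mem_insert, Finset.mem_singleton] at hz1
      rcases hz1 with h | h <;> rw [← hzk, h]
      · exact ⟨b', hab.symm, he⟩
      · exact ⟨a', hab, by rw [he, Finset.pair_comm]⟩
    have hjR : j ∈ R := by
      have hjp : j ∉ p := fun h => Finset.disjoint_left.1 hcx (by rw [hje]; simp) h
      simp only [hRdef, Finset.mem_sdiff, Finset.mem_univ, Finset.mem_union, not_or, true_and]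
      refine ⟨hjp, fun hjq => hjp ?_⟩
      have hqe : ({k, j} : Finset (Fin n)) = q := Finset.eq_of_subset_of_card_le
        (by simp [Finset.insert_subset_iff, hkq, hjq]) (by rw [A.card u huA, Finset.card_pair hjk.symm])
      obtain ⟨w, hwp, hwq⟩ := Finset.not_disjoint_iff.1 hpq
      rw [← hqe] at hwq
      simp only [Finset.mem_insert, Finset.mem_singleton] at hwq
      rcases hwq with rfl | rfl
      · exact absurd hwp hkp
      · exact hwp
    have := A.inj _ (hg j hjR).1 c hcA ((hg j hjR).2.trans hje.symm)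
    exact hic (this ▸ hi _ (Finset.mem_image_of_mem _ hjR))

/-- The common neighbours are the pairs missing one point. -/
theorem exists_avoid [Finite G] (hL : Loc D) (hn : 7 ≤ n)
    (hP : ∀ t ∈ D, ∃ ψ : G → Finset (Fin n), PairModel (Nb D t) ψ) {x u : G} (hx : x ∈ D) (hu : u ∈ D)
    (hxu : ¬ Commute x u) {ψ : G → Finset (Fin n)} (P : PairModel (Nb D x) ψ) :
    ∃ i, Avoid D x u ψ i := by
  classical
  obtain ⟨a, ha, -, -, -, -, hax, hau, -, -⟩ := hL.edge_of_far hx hu hxu
  have at' : ∀ {b : G}, b ∈ Nb D x → Commute b u →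
      ∃ i, i ∉ ψ b ∧ ∀ c ∈ Nb D x, Disjoint (ψ c) (ψ b) → (Commute c u ↔ i ∉ ψ c) := by
    intro b hb hbu
    obtain ⟨β, B⟩ := hP b hb.1
    exact star_at hn hx hu hxu hb hbu P B
  obtain ⟨i, hia, hi⟩ := at' hax hau.2.2.symm
  -- the point is the same at every common neighbour disjoint from `a`
  have step : ∀ {b b' : G} {i : Fin n}, b ∈ Nb D x → b' ∈ Nb D x → Disjoint (ψ b') (ψ b) →
      (∀ c ∈ Nb D x, Disjoint (ψ c) (ψ b) → (Commute c u ↔ i ∉ ψ c)) → i ∉ ψ b → i ∉ ψ b' →
      Commute b' u ∧ ∀ c ∈ Nb D x, Disjoint (ψ c) (ψ b') → (Commute c u ↔ i ∉ ψ c) := by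
    intro b b' i hb hb' hd hi hib hib'
    have hcu : Commute b' u := (hi b' hb' hd).2 hib'
    obtain ⟨i', hi'b, hi'⟩ := at' hb' hcu
    suffices e : i' = i from ⟨hcu, e ▸ hi'⟩
    by_contra hne
    obtain ⟨l, hl, hlc⟩ := exists_pair_with (insert i (insert i' (ψ b ∪ ψ b')))
      (le_trans (Nat.add_le_add_right ((Finset.card_insert_le _ _).trans (Nat.add_le_add_right
        ((Finset.card_insert_le _ _).trans (Nat.add_le_add_right (Finset.card_union_le _ _) 1)) 1)) 1)
        (by rw [P.card b hb, P.card b' hb']; omega)) (i := i) (by simp)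
    obtain ⟨c, hc, hce⟩ := P.surj _ hlc
    simp only [Finset.mem_insert, Finset.mem_union, not_or] at hl
    obtain ⟨hli, hli', hlb, hlb'⟩ := hl
    have h1 : Disjoint (ψ c) (ψ b) := by rw [hce]; simp [hib, hlb]
    have h2 : Disjoint (ψ c) (ψ b') := by rw [hce]; simp [hib', hlb']
    refine ((hi c hc h1).1 ((hi' c hc h2).2 ?_)) (by rw [hce]; simp)
    rw [hce]; simp [hne, Ne.symm hli']
  have all : ∀ b ∈ Nb D x, i ∉ ψ b →
      Commute b u ∧ ∀ c ∈ Nb D x, Disjoint (ψ c) (ψ b) → (Commute c u ↔ i ∉ ψ c) := by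
    intro b hb hib
    obtain ⟨p, hp, hpd⟩ := exists_pair_avoid (insert i (ψ a ∪ ψ b))
      (le_trans (Nat.add_le_add_right ((Finset.card_insert_le _ _).trans
        (Nat.add_le_add_right (Finset.card_union_le _ _) 1)) 2)
        (by rw [P.card a hax, P.card b hb]; omega))
    obtain ⟨d, hd, rfl⟩ := P.surj p hp
    simp only [Finset.disjoint_insert_right, Finset.disjoint_union_right] at hpd
    obtain ⟨hid, hda, hdb⟩ := hpd
    obtain ⟨-, hi2⟩ := step hax hd hda hi hia hid
    exact step hd hb hdb.symm hi2 hid hib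
  refine ⟨i, fun c hc => ⟨fun hcu hic => ?_, fun hic => (all c hc hic).1⟩⟩
  obtain ⟨p, hp, hpd⟩ := exists_pair_avoid (insert i (ψ c))
    (le_trans (Nat.add_le_add_right (Finset.card_insert_le _ _) 2) (by rw [P.card c hc]; omega))
  obtain ⟨b, hb, rfl⟩ := P.surj p hp
  simp only [Finset.disjoint_insert_right] at hpd
  exact ((all b hb hpd.1).2 c hc hpd.2.symm).1 hcu hic

/-- The step for symmetric groups. -/
theorem step_sym [Finite G] (hL : Loc D) (hn : 7 ≤ n)
    (hP : ∀ t ∈ D, ∃ ψ : G → Finset (Fin n), PairModel (Nb D t) ψ) : IsSym D (n + 2) :=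
  isSym_of_avoid hL (by omega) hP fun _ hx _ hu hxu _ P => exists_avoid hL hn hP hx hu hxu P

end Cfsg.Agent.FischerClass
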