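import Cfsg.Agent.Lib.FischerClass.Kind
import Cfsg.Agent.Lib.FischerClass.Charts
import Cfsg.Agent.Lib.FischerClass.KillOrth
import Cfsg.Agent.Lib.FischerClass.SymStar
import Cfsg.Agent.Lib.FischerClass.SymFive
import Cfsg.Agent.Lib.FischerClass.SpCoords
import Cfsg.Agent.Lib.FischerO3.Steps

/-!
Fischer's theorem: the induction on the order of the group, given the recognition steps.
-/

set_option autoImplicit false

namespace Cfsg.Agent.FischerClass

open Cfsg Cfsg.Agent Cfsg.Agent.Fischer Cfsg.Agent.Fischer.Factor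

universe u

/-- The facts proved in the other files, used by the induction. -/
structure Facts : Prop where
  twins : ∀ {G : Type u} [Group G] [Finite G] {D : Set G}, Std D → ∀ x ∈ D,
    ¬ Cfsg.pCore 2 ↥(Subgroup.closure (Nb D x)) ≤ Subgroup.center _ →
      (∃ m, 2 ≤ m ∧ IsSp D m) ∨ (∃ n, 4 ≤ n ∧ IsUn D n)
  oddcore : ∀ {G : Type u} [Group G] [Finite G] {D : Set G}, Std D → ∀ x ∈ D,
    ¬ Cfsg.pCore 3 ↥(Subgroup.closure (Nb D x)) ≤ Subgroup.center _ → IsSym D 5
  eight : ∀ {G : Type u} [Group G] [Finite G] {D : Set G},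
    (∃ e : G ≃* ↥(Cfsg.isometryGroup (ZMod 2) (Cfsg.quadFormPlus 3 (ZMod 2))), e '' D = {g : ↥(Cfsg.isometryGroup (ZMod 2) (Cfsg.quadFormPlus 3 (ZMod 2))) | (((g : GL (Fin 3 ⊕ Fin 3) (ZMod 2)) : Matrix (Fin 3 ⊕ Fin 3) (Fin 3 ⊕ Fin 3) (ZMod 2)) - 1).rank = 1}) → IsSym D 8
  two_common : ∀ {G : Type u} [Group G] [Finite G] {D : Set G}, Loc D →
    (∀ t ∈ D, ∃ ψ : G → Finset (Fin 5), PairModel (Nb D t) ψ) →
      ∀ x ∈ D, ∀ v ∈ D, ¬ Commute x v → (Nb D x ∩ Nb D v).ncard ≠ 2
  u_five : ∀ {G : Type u} [Group G] [Finite G] {D : Set G}, Loc D → ∀ d ∈ D,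
    IsUn (img D d) 5 → False
  u_six : ∀ {G : Type u} [Group G] [Finite G] {D : Set G}, Loc D → ∀ d ∈ D,
    IsUn (img D d) 6 → IsOfTypeM22 G D
  u_large : ∀ {G : Type u} [Group G] [Finite G] {D : Set G}, Loc D → ∀ d ∈ D, ∀ n : ℕ,
    7 ≤ n → IsUn (img D d) n → False
  m22 : ∀ {G : Type u} [Group G] [Finite G] {D : Set G}, Loc D → ∀ d ∈ D,
    IsOfTypeM22 (Q D d) (img D d) → IsOfTypeM23 G D
  m23 : ∀ {G : Type u} [Group G] [Finite G] {D : Set G}, Loc D → ∀ d ∈ D,
    IsOfTypeM23 (Q D d) (img D d) → IsOfTypeM24 G D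
  m24 : ∀ {G : Type u} [Group G] [Finite G] {D : Set G}, Loc D → ∀ d ∈ D,
    IsOfTypeM24 (Q D d) (img D d) → False

variable {G : Type u} [Group G] [Finite G] {D : Set G}

theorem out_of_img (F : Facts.{u}) (hL : Loc D) {d : G} (hd : d ∈ D) (h : Kind (img D d)) : Out D := by
  rcases h with ⟨m, hm, h⟩ | ⟨n, hn, h⟩ | h | h
  · obtain ⟨φ, P⟩ := h.exists_model
    exact Or.inr (Or.inl (step_sp hL hm fun t ht => hL.exists_nb_sp hd P ht))
  · rcases (show n = 4 ∨ n = 5 ∨ n = 6 ∨ 7 ≤ n by omega) with rfl | rfl | rfl | h7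
    · exact Or.inr (Or.inr (Or.inl ⟨6, by omega, FischerO3.step_u_four hL hd h⟩))
    · exact (F.u_five hL d hd h).elim
    · exact Or.inr (Or.inr (Or.inr (Or.inl (F.u_six hL d hd h))))
    · exact (F.u_large hL d hd n h7 h).elim
  · obtain ⟨φ, P⟩ := h.exists_model
    have hP := fun t ht => hL.exists_nb_pairs hd P (t := t) ht
    exact Or.inl ⟨7, le_rfl, step_five_of hL hP (F.two_common hL hP)⟩
  · rcases h with ⟨n, hn, h⟩ | h | ⟨n, hn, h⟩ | h | h | h
    · obtain ⟨φ, P⟩ := h.exists_model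
      exact Or.inl ⟨n + 2, by omega, step_sym hL hn fun t ht => hL.exists_nb_pairs hd P ht⟩
    · rcases h with ⟨m, hm, e, he⟩ | ⟨m, hm, e, he⟩
      · obtain rfl | h4 := (show m = 3 ∨ 4 ≤ m by omega)
        · obtain ⟨φ, P⟩ := (F.eight ⟨e, he⟩).exists_model
          exact Or.inl ⟨10, by omega, step_sym hL (by omega) fun t ht => hL.exists_nb_pairs hd P ht⟩
        · obtain ⟨φ, P⟩ := exists_orthModel (AutPOmega.geo_plus m) e he
          exact (no_orth_nb hL (by simp; omega) fun t ht => hL.exists_nb_model hd P ht).elim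
      · obtain ⟨φ, P⟩ := exists_orthModel (AutPOmega.geo_minus minus_form m) e he
        obtain rfl | h3 := (show m = 2 ∨ 3 ≤ m by omega)
        · exact Or.inr (Or.inr (Or.inl ⟨6, by omega, FischerO3.step_minus_six hL hd P⟩))
        · exact (no_orth_nb hL (by simp; omega) fun t ht => hL.exists_nb_model hd P ht).elim
    · exact Or.inr (Or.inr (Or.inl ⟨n + 1, by omega, FischerO3.step hL hd hn h⟩))
    · exact Or.inr (Or.inr (Or.inr (Or.inr (Or.inl (F.m22 hL d hd h)))))
    · exact Or.inr (Or.inr (Or.inr (Or.inr (Or.inr (F.m23 hL d hd h)))))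
    · exact (F.m24 hL d hd h).elim

theorem card_q_lt (hS : Std D) {d : G} (hd : d ∈ D) : Nat.card (Q D d) < Nat.card G := by
  refine lt_of_le_of_lt (Nat.card_le_card_of_surjective QuotientGroup.mk QuotientGroup.mk_surjective) ?_
  refine lt_of_le_of_ne (Subgroup.card_le_card_group _) fun h => ?_
  have htop := Subgroup.eq_top_of_card_eq _ h
  have hc : d ∈ Subgroup.center G := Subgroup.mem_center_iff.2 fun z =>
    (commute_of_mem_closure_nb (htop ▸ Subgroup.mem_top z : z ∈ Subgroup.closure (Nb D d))).eq.symm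
  rw [hS.cz, Subgroup.mem_bot] at hc
  exact TSet.ne_one hS.tset hd hc

/-- Every primitive group of width at least two is in the list. -/
theorem kind_of_facts (F : Facts.{u}) : ∀ (N : ℕ) {G : Type u} [Group G] [Finite G] {D : Set G},
    Nat.card G = N → Std D → Kind D := by
  intro N
  induction N using Nat.strong_induction_on with
  | _ N ih =>
    intro G _ _ D hN hS
    obtain ⟨d, hd⟩ := hS.nonempty
    by_cases h2 : Cfsg.pCore 2 ↥(Subgroup.closure (Nb D d)) ≤ Subgroup.center _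
    · by_cases h3 : Cfsg.pCore 3 ↥(Subgroup.closure (Nb D d)) ≤ Subgroup.center _
      · have hL := Loc.of_one hS hd h2 h3
        exact Or.inr (Or.inr (Or.inr (out_of_img F hL hd
          (ih _ (hN ▸ card_q_lt hS hd) rfl (hL.std_img hd)))))
      · exact Or.inr (Or.inr (Or.inl (F.oddcore hS d hd h3)))
    · rcases F.twins hS d hd h2 with h | h
      · exact Or.inl h
      · exact Or.inr (Or.inl h)

end Cfsg.Agent.FischerClass
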