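import Cfsg.Agent.Lib.FischerClass.Kinds

/-!
Fischer's theorem: the conclusion for every primitive group of width at least two.
-/

set_option autoImplicit false

namespace Cfsg.Agent.FischerClass

universe u

/-- The possible classes of a primitive group of 3-transpositions of width at least two. -/
def Kind {G : Type u} [Group G] (D : Set G) : Prop :=
  (∃ m : ℕ, 2 ≤ m ∧ IsSp D m) ∨ (∃ n : ℕ, 4 ≤ n ∧ IsUn D n) ∨ IsSym D 5 ∨ Out D

end Cfsg.Agent.FischerClass
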