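import Cfsg.Agent.Lib.FischerClass.Model

/-!
Fischer's theorem: a class seen as the vectors of value one gives the orthogonal group.
-/

set_option autoImplicit false

namespace Cfsg.Agent.FischerClass

open Cfsg Cfsg.Agent Cfsg.Agent.Fischer Cfsg.Agent.Fischer.Factor
open Cfsg.Agent.Transvec Cfsg.Agent.Transvec.Orth

universe u

variable {G : Type u} [Group G] {D : Set G}
variable {ι : Type} [Fintype ι] [DecidableEq ι] {q : (ι → ZMod 2) → ZMod 2}

theorem center_isometry (hQ : Geo.IsNondegenerateQuadraticForm q) (hcard : 5 ≤ Fintype.card ι) :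
    Subgroup.center ↥(Cfsg.isometryGroup (ZMod 2) q) = ⊥ := by
  refine eq_bot_iff.2 fun g hg => Subgroup.mem_bot.2 (Subtype.ext ?_)
  have hfix : ∀ a, q a = 1 → mv (g : GL ι (ZMod 2)) a = a := by
    intro a ha
    have h : (g : GL ι (ZMod 2)) * OrthTwo.refl hQ a * (g : GL ι (ZMod 2))⁻¹ = OrthTwo.refl hQ a := by
      have h' := congrArg Subtype.val
        (Subgroup.mem_center_iff.1 hg ⟨OrthTwo.refl hQ a, OrthTwo.refl_mem hQ ha⟩)
      simp only [Subgroup.coe_mul] at h'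
      rw [← h', mul_inv_cancel_right]
    rw [OrthTwo.refl_conj hQ g.2] at h
    exact refl_inj hQ (by rw [mem_isometry.1 g.2, ha]) h
  refine ext_mv fun z => ?_
  show mv (g : GL ι (ZMod 2)) z = mv (1 : GL ι (ZMod 2)) z
  rw [mv_one]
  rcases OrthTwo.zmod2 (q z) with h | h
  swap
  · exact hfix z h
  obtain ⟨a, ha, haz, -⟩ := OrthTwo.exists_orth_one hQ z z hcard
  have h1 : q (z + a) = 1 := by rw [q_add hQ, h, ha, pol_comm (Q := q), haz]; decide
  have := hfix (z + a) h1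
  rwa [mv_add, hfix a ha, add_left_inj] at this

/-- A model in which the third point of a line is the sum gives the orthogonal group. -/
theorem exists_iso_of_model [Finite G] (hS : Std D) (hcard : 5 ≤ Fintype.card ι) {φ : G → ι → ZMod 2}
    (h : OrthModel D q φ) (h3 : ∀ d ∈ D, ∀ b ∈ D, ¬ Commute d b → φ (d * b * d) = φ d + φ b) :
    ∃ e : G ≃* ↥(Cfsg.isometryGroup (ZMod 2) q), e '' D = {g : ↥(Cfsg.isometryGroup (ZMod 2) q) |
      (((g : GL ι (ZMod 2)) : Matrix ι ι (ZMod 2)) - 1).rank = 1} := by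
  classical
  have hQ := h.form
  set D' := {g : ↥(Cfsg.isometryGroup (ZMod 2) q) |
      (((g : GL ι (ZMod 2)) : Matrix ι ι (ZMod 2)) - 1).rank = 1}
  have hD' : ∀ g : ↥(Cfsg.isometryGroup (ZMod 2) q), g ∈ D' ↔ ∃ a, q a = 1 ∧ (g : GL ι (ZMod 2)) = OrthTwo.refl hQ a :=
    fun g => OrthTwo.rank_refl hQ g.2
  let f : D → D' := fun d => ⟨⟨OrthTwo.refl hQ (φ d), OrthTwo.refl_mem hQ (h.q_one d d.2)⟩,
    (hD' _).2 ⟨φ d, h.q_one d d.2, rfl⟩⟩
  have hval : ∀ d : D, (((f d : D') : ↥(Cfsg.isometryGroup (ZMod 2) q)) : GL ι (ZMod 2)) = OrthTwo.refl hQ (φ d) :=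
    fun d => rfl
  have hf : Function.Bijective f := by
    refine ⟨fun d b e => Subtype.ext (h.inj d d.2 b b.2 (refl_inj hQ (h.q_one d d.2) ?_)), fun g => ?_⟩
    · rw [← hval, ← hval, e]
    · obtain ⟨a, ha, hga⟩ := (hD' g).1 g.2
      obtain ⟨d, hd, rfl⟩ := h.surj a ha
      exact ⟨⟨d, hd⟩, Subtype.ext (Subtype.ext hga.symm)⟩
  have hconj : ∀ g : ↥(Cfsg.isometryGroup (ZMod 2) q), ∀ b ∈ D', g * b * g⁻¹ ∈ D' := by
    intro g b hb
    obtain ⟨a, ha, hba⟩ := (hD' b).1 hb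
    refine (hD' _).2 ⟨mv (g : GL ι (ZMod 2)) a, by rw [mem_isometry.1 g.2, ha], ?_⟩
    rw [← OrthTwo.refl_conj hQ g.2, ← hba]
    rfl
  obtain ⟨e, he, -⟩ := equiv_of_conj hS.tg.2.1 hS.tg.2.2 hS.cz hconj
    (OrthTwo.three_transpositions hQ hcard).2.2 (center_isometry hQ hcard) (Equiv.ofBijective f hf)
    (fun d b => by
      refine Subtype.ext ?_
      show OrthTwo.refl hQ (φ ((d : G) * b * (d : G)⁻¹)) =
        OrthTwo.refl hQ (φ d) * OrthTwo.refl hQ (φ b) * (OrthTwo.refl hQ (φ d))⁻¹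
      rw [OrthTwo.refl_conj hQ (OrthTwo.refl_mem hQ (h.q_one d d.2)), OrthTwo.mv_refl,
        h.pol_eq b b.2 d d.2]
      congr 1
      by_cases hc : Commute (d : G) (b : G)
      · rw [conj_eq_self_of_commute hc, nc_of_commute hc.symm, zero_smul, add_zero]
      · rw [nc_of_not fun h' => hc h'.symm, one_smul, TSet.inv hS.tset d.2, h3 d d.2 b b.2 hc,
          add_comm])
  exact ⟨e, he⟩

end Cfsg.Agent.FischerClass
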