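import Cfsg.Agent.Lib.FischerClass.Model
import Mathlib.GroupTheory.Perm.Sign

/-!
Fischer's theorem: classes seen as the two-element subsets of a finite set, and spaces without affine planes.
-/

set_option autoImplicit false

namespace Cfsg.Agent.FischerClass

open Cfsg Cfsg.Agent Cfsg.Agent.Fischer Cfsg.Agent.Fischer.Factor
open scoped symmDiff

universe u

variable {G : Type u} [Group G] {D : Set G} {n : ℕ}

/-- Every member commutes with one or three members of each line. -/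
def SyOn (S : Set G) : Prop :=
  ∀ a ∈ S, ∀ b ∈ S, ¬ Commute a b → ∀ z ∈ S, nc z a + nc z b + nc z (a * b * a) = 0

/-- The set `S` seen as the two-element subsets of `n` letters. -/
structure PairModel (S : Set G) (ψ : G → Finset (Fin n)) : Prop where
  card : ∀ d ∈ S, (ψ d).card = 2
  surj : ∀ p : Finset (Fin n), p.card = 2 → ∃ d ∈ S, ψ d = p
  inj : ∀ d ∈ S, ∀ e ∈ S, ψ d = ψ e → d = e
  nc_eq : ∀ d ∈ S, ∀ e ∈ S, nc d e = ((ψ d ∩ ψ e).card : ZMod 2)
  mem : ∀ d ∈ S, ∀ e ∈ S, ¬ Commute d e → d * e * d ∈ S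
  third : ∀ d ∈ S, ∀ e ∈ S, ¬ Commute d e → ψ (d * e * d) = ψ d ∆ ψ e

theorem card_inter_symmDiff {α : Type*} [DecidableEq α] (z a b : Finset α) :
    ((z ∩ a).card : ZMod 2) + ((z ∩ b).card : ZMod 2) + ((z ∩ (a ∆ b)).card : ZMod 2) = 0 := by
  simp only [← Finset.filter_mem_eq_inter, Finset.card_filter, Nat.cast_sum,
    ← Finset.sum_add_distrib, Finset.mem_symmDiff]
  refine Finset.sum_eq_zero fun i _ => ?_
  by_cases ha : i ∈ a <;> by_cases hb : i ∈ b <;> simp [ha, hb] <;> decide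

theorem PairModel.syOn {S : Set G} {ψ : G → Finset (Fin n)} (P : PairModel S ψ) : SyOn S := by
  intro a ha b hb hab z hz
  rw [P.nc_eq z hz a ha, P.nc_eq z hz b hb, P.nc_eq z hz _ (P.mem a ha b hb hab),
    P.third a ha b hb hab]
  exact card_inter_symmDiff _ _ _

theorem card_inter_cases {α : Type*} [DecidableEq α] {a b : Finset α} (ha : a.card = 2)
    (hb : b.card = 2) : (a = b ∧ (a ∩ b).card = 2) ∨ (Disjoint a b ∧ (a ∩ b).card = 0) ∨
      ((a ∩ b).card = 1) := by
  have hle : (a ∩ b).card ≤ 2 := ha ▸ Finset.card_le_card Finset.inter_subset_left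
  rcases (show (a ∩ b).card = 0 ∨ (a ∩ b).card = 1 ∨ (a ∩ b).card = 2 by omega) with h | h | h
  · exact Or.inr (Or.inl ⟨Finset.disjoint_iff_inter_eq_empty.2 (Finset.card_eq_zero.1 h), h⟩)
  · exact Or.inr (Or.inr h)
  · refine Or.inl ⟨?_, h⟩
    have e1 : a ∩ b = a := Finset.eq_of_subset_of_card_le Finset.inter_subset_left (by omega)
    have e2 : a ∩ b = b := Finset.eq_of_subset_of_card_le Finset.inter_subset_right (by omega)
    exact e1.symm.trans e2

theorem PairModel.commute_iff {S : Set G} {ψ : G → Finset (Fin n)} (P : PairModel S ψ) {d e : G}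
    (hd : d ∈ S) (he : e ∈ S) : Commute d e ↔ d = e ∨ Disjoint (ψ d) (ψ e) := by
  rw [← nc_eq_zero_iff, P.nc_eq d hd e he]
  rcases card_inter_cases (P.card d hd) (P.card e he) with ⟨h, h2⟩ | ⟨h, h2⟩ | h
  · rw [h2]
    exact iff_of_true rfl (Or.inl (P.inj d hd e he h))
  · rw [h2]
    exact iff_of_true rfl (Or.inr h)
  · rw [h]
    refine iff_of_false (by decide) ?_
    rintro (rfl | h')
    · rw [Finset.inter_self, P.card d hd] at h
      exact absurd h (by decide)
    · rw [Finset.disjoint_iff_inter_eq_empty.1 h', Finset.card_empty] at h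
      exact absurd h (by decide)

/-- Four pairwise meeting two-element sets have a common point. -/
theorem star {α : Type*} [DecidableEq α] {F : Finset (Finset α)} (hF : ∀ p ∈ F, p.card = 2)
    (hm : ∀ p ∈ F, ∀ q ∈ F, ¬ Disjoint p q) (h4 : 4 ≤ F.card) : ∃ i, ∀ p ∈ F, i ∈ p := by
  obtain ⟨p, hp⟩ : F.Nonempty := Finset.card_pos.1 (by omega)
  obtain ⟨i, j, hij, rfl⟩ := Finset.card_eq_two.1 (hF p hp)
  by_cases hi : ∀ p ∈ F, i ∈ p
  · exact ⟨i, hi⟩
  by_cases hj : ∀ p ∈ F, j ∈ p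
  · exact ⟨j, hj⟩
  push Not at hi hj
  obtain ⟨p₁, hp₁, hi⟩ := hi
  obtain ⟨p₂, hp₂, hj⟩ := hj
  have two' : ∀ a b : α, ∀ q : Finset α, ¬ Disjoint ({a, b} : Finset α) q → a ∈ q ∨ b ∈ q := by
    intro a b q h
    obtain ⟨x, hx1, hx2⟩ := Finset.not_disjoint_iff.1 h
    simp only [Finset.mem_insert, Finset.mem_singleton] at hx1
    rcases hx1 with rfl | rfl
    exacts [Or.inl hx2, Or.inr hx2]
  have meet : ∀ q ∈ F, i ∈ q ∨ j ∈ q := fun q hq => two' i j q (hm _ hp q hq)
  have hj₁ : j ∈ p₁ := (meet p₁ hp₁).resolve_left hi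
  have hi₂ : i ∈ p₂ := (meet p₂ hp₂).resolve_right hj
  obtain ⟨k, hk1, hk2⟩ := Finset.not_disjoint_iff.1 (hm p₁ hp₁ p₂ hp₂)
  have hki : k ≠ i := fun e => hi (e ▸ hk1)
  have hkj : k ≠ j := fun e => hj (e ▸ hk2)
  have e₁ : p₁ = {j, k} := (Finset.eq_of_subset_of_card_le (by
    intro x hx; simp at hx; rcases hx with rfl | rfl <;> assumption) (by
    rw [hF p₁ hp₁, Finset.card_pair (Ne.symm hkj)])).symm
  have e₂ : p₂ = {i, k} := (Finset.eq_of_subset_of_card_le (by
    intro x hx; simp at hx; rcases hx with rfl | rfl <;> assumption) (by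
    rw [hF p₂ hp₂, Finset.card_pair (Ne.symm hki)])).symm
  have hall : F ⊆ ({{i, j}, {j, k}, {i, k}} : Finset (Finset α)) := by
    intro q hq
    have two : ∀ a b : α, a ≠ b → a ∈ q → b ∈ q → q = {a, b} := fun a b hab ha hb =>
      (Finset.eq_of_subset_of_card_le (by
        intro x hx; simp at hx; rcases hx with rfl | rfl <;> assumption) (by
        rw [hF q hq, Finset.card_pair hab])).symm
    have m₁ : j ∈ q ∨ k ∈ q := two' j k q (e₁ ▸ hm p₁ hp₁ q hq)
    have m₂ : i ∈ q ∨ k ∈ q := two' i k q (e₂ ▸ hm p₂ hp₂ q hq)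
    simp only [Finset.mem_insert, Finset.mem_singleton]
    rcases m₁ with h | h
    · rcases m₂ with h' | h'
      · exact Or.inl (two i j hij h' h)
      · exact Or.inr (Or.inl (two j k (Ne.symm hkj) h h'))
    · rcases meet q hq with h' | h'
      · exact Or.inr (Or.inr (two i k (Ne.symm hki) h' h))
      · exact Or.inr (Or.inl (two j k (Ne.symm hkj) h' h))
  have h3 : ({{i, j}, {j, k}, {i, k}} : Finset (Finset α)).card ≤ 3 := Finset.card_le_three
  have := Finset.card_le_card hall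
  omega

theorem isSwap_of_pair {p : Finset (Fin n)} (hp : p.card = 2) :
    ∃ σ : Equiv.Perm (Fin n), σ.IsSwap ∧ σ.support = p := by
  obtain ⟨i, j, hij, rfl⟩ := Finset.card_eq_two.1 hp
  exact ⟨Equiv.swap i j, ⟨i, j, hij, rfl⟩, Equiv.Perm.support_swap hij⟩

theorem swap_eq_of_support {σ τ : Equiv.Perm (Fin n)} (hσ : σ.IsSwap) (hτ : τ.IsSwap)
    (h : σ.support = τ.support) : σ = τ := by
  obtain ⟨a, b, hab, rfl⟩ := hσ
  obtain ⟨c, d, hcd, rfl⟩ := hτ
  rw [Equiv.Perm.support_swap hab, Equiv.Perm.support_swap hcd] at h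
  have ha : a ∈ ({c, d} : Finset (Fin n)) := h ▸ by simp
  have hb : b ∈ ({c, d} : Finset (Fin n)) := h ▸ by simp
  simp only [Finset.mem_insert, Finset.mem_singleton] at ha hb
  rcases ha with rfl | rfl <;> rcases hb with rfl | rfl
  · exact absurd rfl hab
  · rfl
  · exact Equiv.swap_comm _ _
  · exact absurd rfl hab

theorem support_third {σ τ : Equiv.Perm (Fin n)} (hσ : σ.IsSwap) (hτ : τ.IsSwap)
    (h : ((σ.support ∩ τ.support).card) = 1) : (σ * τ * σ⁻¹).support = σ.support ∆ τ.support := by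
  obtain ⟨a, b, hab, rfl⟩ := hσ
  rw [Equiv.Perm.support_conj]
  ext x
  rw [Finset.mem_map_equiv, Finset.mem_symmDiff, Equiv.symm_swap, Equiv.Perm.support_swap hab]
  rw [Equiv.Perm.support_swap hab] at h
  by_cases ha : a ∈ τ.support <;> by_cases hb : b ∈ τ.support
  · have : ({a, b} : Finset (Fin n)) ∩ τ.support = {a, b} := by
      ext y; simp only [Finset.mem_inter, Finset.mem_insert, Finset.mem_singleton]
      constructor
      · exact fun h => h.1
      · rintro (rfl | rfl) <;> simp [ha, hb]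
    rw [this, Finset.card_pair hab] at h
    exact absurd h (by decide)
  pick_goal 3
  · rw [Finset.disjoint_iff_inter_eq_empty.1 ?_] at h
    · simp at h
    · simp [Finset.disjoint_insert_left, ha, hb]
  all_goals
    rcases eq_or_ne x a with hxa | hxa
    · subst hxa
      rw [Equiv.swap_apply_left]
      simp [ha, hb]
    rcases eq_or_ne x b with hxb | hxb
    · subst hxb
      rw [Equiv.swap_apply_right]
      simp [ha, hb]
    rw [Equiv.swap_apply_of_ne_of_ne hxa hxb]
    simp [hxa, hxb]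
  

theorem nc_swaps {σ τ : Equiv.Perm (Fin n)} (hσ : σ.IsSwap) (hτ : τ.IsSwap) :
    nc σ τ = ((σ.support ∩ τ.support).card : ZMod 2) := by
  rcases card_inter_cases (Equiv.Perm.card_support_eq_two.2 hσ) (Equiv.Perm.card_support_eq_two.2 hτ)
    with ⟨h, h2⟩ | ⟨h, h2⟩ | h
  · rw [h2, swap_eq_of_support hσ hτ h, nc_of_commute (Commute.refl _)]
    rfl
  · rw [h2, nc_of_commute (Equiv.Perm.disjoint_iff_disjoint_support.2 h).commute]
    rfl
  · rw [h, nc_of_not fun hc => ?_]
    · rfl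
    have h3 := support_third hσ hτ h
    rw [hc.eq, mul_inv_cancel_right] at h3
    have h4 : ∀ {x}, x ∈ σ.support → x ∉ σ.support := fun {x} hx hx' => by
      by_cases hx2 : x ∈ τ.support
      · have := h3 ▸ hx2
        simp [Finset.mem_symmDiff, hx, hx2] at this
      · have : x ∈ σ.support ∆ τ.support := Finset.mem_symmDiff.2 (Or.inl ⟨hx, hx2⟩)
        exact hx2 (h3.symm ▸ this)
    obtain ⟨x, hx⟩ : σ.support.Nonempty :=
      Finset.card_pos.1 (by rw [Equiv.Perm.card_support_eq_two.2 hσ]; decide)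
    exact h4 hx hx

theorem center_perm (h3 : 3 ≤ n) : Subgroup.center (Equiv.Perm (Fin n)) = ⊥ := by
  refine eq_bot_iff.2 fun σ hσ => Subgroup.mem_bot.2 (Equiv.ext fun i => ?_)
  show σ i = i
  by_contra hne
  obtain ⟨k, hk⟩ : ∃ k, k ∉ ({i, σ i} : Finset (Fin n)) := by
    by_contra h
    push Not at h
    have := Finset.card_le_card (show (Finset.univ : Finset (Fin n)) ⊆ {i, σ i} from fun k _ => h k)
    rw [Finset.card_univ, Fintype.card_fin, Finset.card_pair (Ne.symm hne)] at this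
    omega
  simp only [Finset.mem_insert, Finset.mem_singleton, not_or] at hk
  have h1 := congrArg Equiv.Perm.support
    (show σ * Equiv.swap i k * σ⁻¹ = Equiv.swap i k by
      rw [← Subgroup.mem_center_iff.1 hσ, mul_inv_cancel_right])
  rw [Equiv.Perm.support_conj, Equiv.Perm.support_swap (Ne.symm hk.1)] at h1
  have : σ i ∈ ({i, k} : Finset (Fin n)) := h1 ▸ Finset.mem_map_of_mem _ (by simp)
  simp only [Finset.mem_insert, Finset.mem_singleton] at this
  rcases this with h | h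
  · exact hne h
  · exact hk.2 h.symm

/-- A symmetric group with its transpositions has a pair model. -/
theorem IsSym.exists_model (h : IsSym D n) : ∃ ψ : G → Finset (Fin n), PairModel D ψ := by
  obtain ⟨e, he⟩ := h
  have hm : ∀ d ∈ D, (e d).IsSwap := fun d hd => he.le ⟨d, hd, rfl⟩
  have hnc : ∀ d ∈ D, ∀ d' ∈ D, nc d d' = ((((e d).support) ∩ (e d').support).card : ZMod 2) := by
    intro d hd d' hd'
    rw [← nc_swaps (hm d hd) (hm d' hd')]
    by_cases hc : Commute d d'
    · rw [nc_of_commute hc, nc_of_commute (show Commute (e d) (e d') from hc.map e.toMonoidHom)]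
    · rw [nc_of_not hc, nc_of_not fun h' => hc (e.injective (by rw [map_mul, map_mul]; exact h'.eq))]
  have hinv : ∀ d ∈ D, (e d)⁻¹ = e d := fun d hd => by
    obtain ⟨a, b, -, h⟩ := hm d hd
    rw [h, Equiv.swap_inv]
  have hconj : ∀ d ∈ D, ∀ d' ∈ D, e (d * d' * d) = e d * e d' * (e d)⁻¹ := fun d hd d' _ => by
    rw [map_mul, map_mul, hinv d hd]
  refine ⟨fun d => (e d).support, fun d hd => Equiv.Perm.card_support_eq_two.2 (hm d hd),
    fun p hp => ?_, fun d hd d' hd' h => e.injective (swap_eq_of_support (hm d hd) (hm d' hd') h),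
    hnc, fun d hd d' hd' _ => ?_, fun d hd d' hd' hc => ?_⟩
  · obtain ⟨σ, hσ, rfl⟩ := isSwap_of_pair hp
    obtain ⟨d, hd, rfl⟩ := he.ge hσ
    exact ⟨d, hd, rfl⟩
  · have : (e (d * d' * d)).IsSwap := by
      rw [hconj d hd d' hd', ← Equiv.Perm.card_support_eq_two, Equiv.Perm.card_support_conj]
      exact Equiv.Perm.card_support_eq_two.2 (hm d' hd')
    obtain ⟨x, hx, hxe⟩ := he.ge this
    rwa [← e.injective hxe]
  · show (e (d * d' * d)).support = _
    rw [hconj d hd d' hd']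
    refine support_third (hm d hd) (hm d' hd') ?_
    rcases card_inter_cases (Equiv.Perm.card_support_eq_two.2 (hm d hd))
      (Equiv.Perm.card_support_eq_two.2 (hm d' hd')) with ⟨-, h2⟩ | ⟨-, h2⟩ | h1
    · refine absurd (hnc d hd d' hd') ?_
      rw [h2, nc_of_not hc]; decide
    · refine absurd (hnc d hd d' hd') ?_
      rw [h2, nc_of_not hc]; decide
    · exact h1

/-- Pair models move along isomorphisms. -/
theorem PairModel.of_equiv {X : Type*} [Group X] {S : Set X} {ψ : X → Finset (Fin n)}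
    (P : PairModel S ψ) (e : G ≃* X) (he : e '' D = S) : PairModel D (fun d => ψ (e d)) := by
  have hm : ∀ d ∈ D, e d ∈ S := fun d hd => he.le ⟨d, hd, rfl⟩
  have hiff : ∀ d d' : G, Commute (e d) (e d') → Commute d d' := fun d d' h =>
    e.injective (by rw [map_mul, map_mul]; exact h.eq)
  refine ⟨fun d hd => P.card _ (hm d hd), fun p hp => ?_,
    fun d hd d' hd' h => e.injective (P.inj _ (hm d hd) _ (hm d' hd') h), fun d hd d' hd' => ?_,
    fun d hd d' hd' hc => ?_, fun d hd d' hd' hc => ?_⟩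
  · obtain ⟨x, hx, rfl⟩ := P.surj p hp
    obtain ⟨d, hd, rfl⟩ := he.ge hx
    exact ⟨d, hd, rfl⟩
  · rw [← P.nc_eq _ (hm d hd) _ (hm d' hd')]
    by_cases hc : Commute d d'
    · rw [nc_of_commute hc, nc_of_commute (show Commute (e d) (e d') from hc.map e.toMonoidHom)]
    · rw [nc_of_not hc, nc_of_not fun h' => hc (hiff _ _ h')]
  · obtain ⟨x, hx, hxe⟩ := he.ge (P.mem _ (hm d hd) _ (hm d' hd') fun h' => hc (hiff _ _ h'))
    rw [← map_mul, ← map_mul] at hxe
    rwa [← e.injective hxe]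
  · show ψ (e (d * d' * d)) = _
    rw [map_mul, map_mul]
    exact P.third _ (hm d hd) _ (hm d' hd') fun h' => hc (hiff _ _ h')

theorem nb_third (hT : IsThreeTranspositionGroup D) {t a b : G} (ha : a ∈ Nb D t) (hb : b ∈ Nb D t) :
    a * b * a ∈ Nb D t := by
  have h := nb_conj hT a hb
  rwa [conj_eq_self_of_commute ha.2.2.symm, TSet.inv hT.1 ha.1] at h

/-- The same pair model serves at every member. -/
theorem Loc.exists_nb_pairs [Finite G] (hL : Loc D) {d : G} (hd : d ∈ D)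
    {φ : Q D d → Finset (Fin n)} (h : PairModel (img D d) φ) {t : G} (ht : t ∈ D) :
    ∃ ψ : G → Finset (Fin n), PairModel (Nb D t) ψ := by
  classical
  obtain ⟨e, he⟩ := exists_img_equiv hL.tg hL.trans ht hd
  have P := h.of_equiv e he
  set φ' := fun q => φ (e q)
  obtain ⟨ψ, hψ⟩ : ∃ ψ : G → Finset (Fin n), ∀ y (hy : y ∈ Nb D t),
      ψ y = φ' (QuotientGroup.mk ⟨y, nb_subset hy⟩) :=
    ⟨fun y => if hy : y ∈ Nb D t then φ' (QuotientGroup.mk ⟨y, nb_subset hy⟩) else ∅,
      fun y hy => by simp only [dif_pos hy]⟩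
  have hiff : ∀ {y z : G} (hy : y ∈ Nb D t) (hz : z ∈ Nb D t),
      Commute (QuotientGroup.mk ⟨y, nb_subset hy⟩ : Q D t) (QuotientGroup.mk ⟨z, nb_subset hz⟩) ↔
        Commute y z := fun hy hz => mk_commute_iff hL.tset (d := t) hy.1 hz.1
  refine ⟨ψ, fun y hy => hψ y hy ▸ P.card _ ⟨_, hy, rfl⟩, fun p hp => ?_, fun y hy z hz e => ?_,
    fun y hy z hz => ?_, fun y hy z hz _ => nb_third hL.tg hy hz, fun y hy z hz hc => ?_⟩
  · obtain ⟨_, ⟨x, hx, rfl⟩, hxp⟩ := P.surj p hp
    exact ⟨x, hx, (hψ _ hx).trans hxp⟩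
  · rw [hψ y hy, hψ z hz] at e
    exact congrArg Subtype.val (img_inj hL.tg hL.trans hL.twinFree ht (x := ⟨y, nb_subset hy⟩)
      (y := ⟨z, nb_subset hz⟩) hy hz (P.inj _ ⟨_, hy, rfl⟩ _ ⟨_, hz, rfl⟩ e))
  · rw [hψ y hy, hψ z hz, ← P.nc_eq _ ⟨_, hy, rfl⟩ _ ⟨_, hz, rfl⟩]
    by_cases hc : Commute y z
    · rw [nc_of_commute hc, nc_of_commute ((hiff hy hz).2 hc)]
    · rw [nc_of_not hc, nc_of_not fun h' => hc ((hiff hy hz).1 h')]
  · rw [hψ _ (nb_third hL.tg hy hz), hψ y hy, hψ z hz]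
    exact P.third _ ⟨_, hy, rfl⟩ _ ⟨_, hz, rfl⟩ fun h' => hc ((hiff hy hz).1 h')

/-- In a twin-free class without affine planes the third point of a line is fixed by its pattern. -/
theorem PairModel.isSym [Finite G] (hS : Std D) {ψ : G → Finset (Fin n)} (h3 : 3 ≤ n)
    (hsy : SyOn D) (hcard : ∀ d ∈ D, (ψ d).card = 2)
    (hsurj : ∀ p : Finset (Fin n), p.card = 2 → ∃ d ∈ D, ψ d = p)
    (hnc : ∀ d ∈ D, ∀ e ∈ D, nc d e = ((ψ d ∩ ψ e).card : ZMod 2)) : IsSym D n := by
  have hinj : ∀ d ∈ D, ∀ e ∈ D, ψ d = ψ e → d = e := fun d hd e he h =>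
    (hS.twinFree d e hd ⟨he, fun z hz => by
      rw [← nc_eq_zero_iff, ← nc_eq_zero_iff, hnc e he z hz, hnc d hd z hz, h]⟩).symm
  choose σ hσ hσs using fun d : D => isSwap_of_pair (hcard d d.2)
  have hφ : Function.Bijective fun d : D => (⟨σ d, hσ d⟩ : {τ : Equiv.Perm (Fin n) // τ.IsSwap}) := by
    refine ⟨fun d e h => ?_, fun τ => ?_⟩
    · have h' : σ d = σ e := congrArg Subtype.val h
      exact Subtype.ext (hinj d d.2 e e.2 (by rw [← hσs d, ← hσs e, h']))
    · obtain ⟨d, hd, hde⟩ := hsurj _ (Equiv.Perm.card_support_eq_two.2 τ.2)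
      exact ⟨⟨d, hd⟩, Subtype.ext (swap_eq_of_support (hσ _) τ.2 (by rw [hσs]; exact hde))⟩
  have hconjS : ∀ g : Equiv.Perm (Fin n), ∀ τ : Equiv.Perm (Fin n), τ.IsSwap → (g * τ * g⁻¹).IsSwap :=
    fun g τ h => by
      rw [← Equiv.Perm.card_support_eq_two, Equiv.Perm.card_support_conj]
      exact Equiv.Perm.card_support_eq_two.2 h
  have hrule : ∀ d b : D, σ ⟨(d : G) * b * (d : G)⁻¹, hS.tg.2.1 d b b.2⟩ = σ d * σ b * (σ d)⁻¹ := by
    intro d b
    refine swap_eq_of_support (hσ _) (hconjS _ _ (hσ b)) ?_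
    have hd := d.2
    have hb := b.2
    rw [hσs]
    show ψ ((d : G) * b * (d : G)⁻¹) = _
    by_cases hc : Commute (d : G) (b : G)
    · rw [conj_eq_self_of_commute hc]
      rcases card_inter_cases (hcard d hd) (hcard b hb) with ⟨h, -⟩ | ⟨h, -⟩ | h
      · have hdb : d = b := Subtype.ext (hinj _ hd _ hb h)
        rw [hdb, mul_inv_cancel_right, hσs]
      · have h' : Commute (σ d) (σ b) :=
          (Equiv.Perm.disjoint_iff_disjoint_support.2 (by rw [hσs, hσs]; exact h)).commute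
        rw [conj_eq_self_of_commute h', hσs]
      · refine absurd (hnc _ hd _ hb) ?_
        rw [h, nc_of_commute hc]; decide
    · rw [TSet.inv hS.tset hd]
      have hm : (d : G) * b * d ∈ D := by
        have := hS.tg.2.1 (d : G) (b : G) hb
        rwa [TSet.inv hS.tset hd] at this
      have h1 : ((ψ (d : G)) ∩ ψ (b : G)).card = 1 := by
        rcases card_inter_cases (hcard d hd) (hcard b hb) with ⟨-, h⟩ | ⟨-, h⟩ | h
        · refine absurd (hnc _ hd _ hb) ?_
          rw [h, nc_of_not hc]; decide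
        · refine absurd (hnc _ hd _ hb) ?_
          rw [h, nc_of_not hc]; decide
        · exact h
      rw [support_third (hσ d) (hσ b) (by rw [hσs, hσs]; exact h1), hσs, hσs]
      -- the pair of the third point is the symmetric difference
      obtain ⟨w, hw, hwe⟩ := hsurj (ψ (d : G) ∆ ψ (b : G)) (by
        have := support_third (hσ d) (hσ b) (by rw [hσs, hσs]; exact h1)
        rw [hσs, hσs] at this
        rw [← this]
        exact Equiv.Perm.card_support_eq_two.2 (hconjS _ _ (hσ b)))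
      have : (d : G) * b * d = w := by
        refine hS.twinFree w _ hw ⟨hm, fun z hz => ?_⟩
        rw [← nc_eq_zero_iff, ← nc_eq_zero_iff, nc_comm _ z, nc_comm w z]
        have e1 := hsy d hd b hb hc z hz
        have e2 := card_inter_symmDiff (ψ z) (ψ (d : G)) (ψ (b : G))
        rw [← hnc z hz d hd, ← hnc z hz b hb, ← hwe, ← hnc z hz w hw] at e2
        rw [add_left_cancel (e1.trans e2.symm)]
      rw [this, hwe]
  obtain ⟨e, he, -⟩ := equiv_of_conj (D' := {τ : Equiv.Perm (Fin n) | τ.IsSwap}) hS.tg.2.1 hS.tg.2.2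
    hS.cz hconjS Equiv.Perm.closure_isSwap (center_perm h3) (Equiv.ofBijective _ hφ) (fun d b => hrule d b)
  exact ⟨e, he⟩

end Cfsg.Agent.FischerClass
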