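import Cfsg.Agent.Lib.Transvec.Quad
import Cfsg.Agent.Lib.Transvec.OrthTwo
import Cfsg.Agent.Lib.AutPOmega.Forms

/-!
Fischer's theorem: quadratic functions over two elements with the polar form of the hyperbolic form.
-/

set_option autoImplicit false

namespace Cfsg.Agent.FischerClass

open Cfsg Cfsg.Agent Cfsg.Agent.Transvec Cfsg.Agent.Transvec.Orth

variable {m : ℕ}

/-- The hyperbolic form. -/
abbrev sP (m : ℕ) : (Fin m ⊕ Fin m → ZMod 2) → ZMod 2 := Cfsg.quadFormPlus m (ZMod 2)

theorem sP_form (m : ℕ) : Geo.IsNondegenerateQuadraticForm (sP m) := AutPOmega.geo_plus m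

theorem sP_self (v : Fin m ⊕ Fin m → ZMod 2) : pol (sP m) v v = 0 :=
  OrthTwo.pol_self_two (sP_form m) v

theorem sP_comm (v w : Fin m ⊕ Fin m → ZMod 2) : pol (sP m) v w = pol (sP m) w v := pol_comm (Q := sP m) v w

theorem exists_partner_one {v : Fin m ⊕ Fin m → ZMod 2} (hv : v ≠ 0) : ∃ w, pol (sP m) v w = 1 := by
  by_contra h
  push Not at h
  refine hv (nondeg_top (sP_form m) v trivial fun w _ => ?_)
  rw [sP_comm]
  exact (OrthTwo.zmod2 _).resolve_right (h w)

theorem additive_on (g : (Fin m ⊕ Fin m → ZMod 2) → ZMod 2)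
    (hadd : ∀ v w, g (v + w) = g v + g w) : ∃ r, ∀ v, g v = pol (sP m) v r := by
  let φ : Module.Dual (ZMod 2) (Fin m ⊕ Fin m → ZMod 2) :=
    { toFun := g
      map_add' := hadd
      map_smul' := fun c v => by
        rcases OrthTwo.zmod2 c with rfl | rfl
        · have h0 : g 0 = 0 := by
            have := hadd 0 0
            rwa [add_zero, left_eq_add] at this
          simp [h0]
        · simp }
  exact exists_eq_pol (sP_form m) φ

/-- Additive on orthogonal pairs and not on one pair: quadratic. -/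
theorem quad_of_perp {g : (Fin m ⊕ Fin m → ZMod 2) → ZMod 2}
    (hperp : ∀ v w, pol (sP m) v w = 0 → g (v + w) = g v + g w) {v₀ w₀ : Fin m ⊕ Fin m → ZMod 2}
    (h₀ : pol (sP m) v₀ w₀ = 1) (hk : g (v₀ + w₀) + g v₀ + g w₀ = 1) :
    ∀ v w, g (v + w) = g v + g w + pol (sP m) v w := by
  have hQ := sP_form m
  have vv : ∀ v : Fin m ⊕ Fin m → ZMod 2, v + v = 0 := OrthTwo.add_self_vec
  set κ : (Fin m ⊕ Fin m → ZMod 2) → (Fin m ⊕ Fin m → ZMod 2) → ZMod 2 :=
    fun p q => g (p + q) + g p + g q with hκ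
  have symm : ∀ p q, κ p q = κ q p := fun p q => by simp only [hκ]; rw [add_comm p q]; ring
  have move : ∀ p q r, pol (sP m) r p = 0 → pol (sP m) r q = 0 → κ p (q + r) = κ p q := by
    intro p q r h1 h2
    have e1 : g (p + q + r) = g (p + q) + g r := by
      refine hperp _ _ ?_
      rw [sP_comm, pol_add_right hQ, h1, h2, add_zero]
    have e2 : g (q + r) = g q + g r := hperp _ _ (by rw [sP_comm, h2])
    simp only [hκ]
    rw [← add_assoc, e1, e2]
    linear_combination CharTwo.add_self_eq_zero (g r)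
  have turn : ∀ p q, pol (sP m) p q = 1 → κ p (q + p) = κ p q := by
    intro p q _
    simp only [hκ]
    rw [show p + (q + p) = q by rw [add_comm q p, ← add_assoc, vv, zero_add], add_comm q p]
    ring
  have const : ∀ p q q', pol (sP m) p q = 1 → pol (sP m) p q' = 1 → κ p q' = κ p q := by
    intro p q q' h h'
    set r := q + q' with hr
    have hq' : q' = q + r := by rw [hr, ← add_assoc, vv, zero_add]
    have hrp : pol (sP m) r p = 0 := by
      rw [hr, pol_add_left hQ, sP_comm q, sP_comm q', h, h']; exact CharTwo.add_self_eq_zero 1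
    rcases OrthTwo.zmod2 (pol (sP m) r q) with hrq | hrq
    · rw [hq']
      exact move p q r hrp hrq
    · have e : q + r = (q + p) + (r + p) := by
        rw [add_add_add_comm, vv, add_zero]
      rw [hq', e, move p (q + p) (r + p) (by rw [pol_add_left hQ, hrp, sP_self, add_zero])
        (by rw [pol_add_left hQ, pol_add_right hQ, pol_add_right hQ, hrp, hrq, h, sP_self]; decide),
        turn p q h]
  have all : ∀ p q, pol (sP m) p q = 1 → κ p q = 1 := by
    intro p q h
    have hp : p ≠ 0 := fun e => by rw [e, pol_zero_left hQ] at h; exact zero_ne_one h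
    have hv : v₀ ≠ 0 := fun e => by rw [e, pol_zero_left hQ] at h₀; exact zero_ne_one h₀
    obtain ⟨z, hz⟩ := exists_partner_one hp
    obtain ⟨z', hz'⟩ := exists_partner_one hv
    obtain ⟨c, hc1, hc2⟩ : ∃ c, pol (sP m) p c = 1 ∧ pol (sP m) v₀ c = 1 := by
      rcases OrthTwo.zmod2 (pol (sP m) v₀ z) with e | e
      swap
      · exact ⟨z, hz, e⟩
      rcases OrthTwo.zmod2 (pol (sP m) p z') with e' | e'
      swap
      · exact ⟨z', e', hz'⟩
      exact ⟨z + z', by rw [pol_add_right hQ, hz, e', add_zero], by rw [pol_add_right hQ, e, hz', zero_add]⟩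
    calc κ p q = κ p c := const p c q hc1 h
      _ = κ c p := symm _ _
      _ = κ c v₀ := const c v₀ p (by rw [sP_comm, hc2]) (by rw [sP_comm, hc1])
      _ = κ v₀ c := symm _ _
      _ = κ v₀ w₀ := const v₀ w₀ c h₀ hc2
      _ = 1 := hk
  intro v w
  rcases OrthTwo.zmod2 (pol (sP m) v w) with h | h
  · rw [h, add_zero]; exact hperp v w h
  · have := all v w h
    simp only [hκ] at this
    rw [h, ← this]
    linear_combination (-1 : ZMod 2) * CharTwo.add_self_eq_zero (g v) - CharTwo.add_self_eq_zero (g w)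

/-- The transvection along `s`. -/
def shear (s v : Fin m ⊕ Fin m → ZMod 2) : Fin m ⊕ Fin m → ZMod 2 := v + pol (sP m) v s • s

theorem shear_add (s v w : Fin m ⊕ Fin m → ZMod 2) : shear s (v + w) = shear s v + shear s w := by
  simp only [shear, pol_add_left (sP_form m), add_smul]
  exact add_add_add_comm v w _ _

theorem shear_shear (s v : Fin m ⊕ Fin m → ZMod 2) : shear s (shear s v) = v := by
  simp only [shear, pol_add_left (sP_form m), pol_smul_left (sP_form m), sP_self, mul_zero, add_zero,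
    add_assoc, OrthTwo.add_self_vec]

theorem pol_shear (s v w : Fin m ⊕ Fin m → ZMod 2) :
    pol (sP m) (shear s v) (shear s w) = pol (sP m) v w := by
  simp only [shear, pol_add_left (sP_form m), pol_add_right (sP_form m), pol_smul_left (sP_form m),
    pol_smul_right (sP_form m), sP_self, mul_zero, add_zero]
  rw [sP_comm s w]
  linear_combination CharTwo.add_self_eq_zero (pol (sP m) v s * pol (sP m) w s)

/-- A vector of value one. -/
def r₁ (m : ℕ) : Fin (m + 1) ⊕ Fin (m + 1) → ZMod 2 :=
  fun i => if i = .inl 0 ∨ i = .inr 0 then 1 else 0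

theorem sP_r₁ : sP (m + 1) (r₁ m) = 1 := by
  show ∑ i : Fin (m + 1), _ = (1 : ZMod 2)
  rw [Fin.sum_univ_succ]
  simp [r₁, Fin.succ_ne_zero]

theorem pol_r₁ (v : Fin (m + 1) ⊕ Fin (m + 1) → ZMod 2) :
    pol (sP (m + 1)) v (r₁ m) = v (.inl 0) + v (.inr 0) := by
  have h : ∀ u w : Fin (m + 1) ⊕ Fin (m + 1) → ZMod 2, pol (sP (m + 1)) u w =
      ∑ i : Fin (m + 1), (u (.inl i) * w (.inr i) + u (.inr i) * w (.inl i)) := by
    intro u w
    simp only [pol, QuadraticMap.polar, sP, Cfsg.quadFormPlus, Pi.add_apply, ← Finset.sum_sub_distrib]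
    exact Finset.sum_congr rfl fun i _ => by ring
  rw [h, Fin.sum_univ_succ]
  simp [r₁, Fin.succ_ne_zero]

/-- Every such function becomes one of two standard ones after a change of coordinates. -/
theorem exists_normal {m : ℕ} {g : (Fin (m + 1) ⊕ Fin (m + 1) → ZMod 2) → ZMod 2}
    (hg : ∀ v w, g (v + w) = g v + g w + pol (sP (m + 1)) v w) :
    ∃ s, (∀ v, g v = sP (m + 1) (shear s v)) ∨
      ∀ v, g v = sP (m + 1) (shear s v) + (shear s v (.inl 0) + shear s v (.inr 0)) := by
  have hQ := sP_form (m + 1)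
  obtain ⟨r, hr⟩ := additive_on (fun v => g v + sP (m + 1) v) fun v w => by
    rw [hg, q_add hQ]
    linear_combination CharTwo.add_self_eq_zero (pol (sP (m + 1)) v w)
  have hgv : ∀ v, g v = sP (m + 1) v + pol (sP (m + 1)) v r := fun v => by
    rw [← hr v]
    linear_combination (-1 : ZMod 2) * CharTwo.add_self_eq_zero (sP (m + 1) v)
  have sq : ∀ c : ZMod 2, c * c = c := by decide
  rcases OrthTwo.zmod2 (sP (m + 1) r) with h | h
  · refine ⟨r, Or.inl fun v => ?_⟩
    rw [hgv, shear, q_add hQ, q_smul hQ, h, pol_smul_right hQ, sq, mul_zero, add_zero]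
  · refine ⟨r + r₁ m, Or.inr fun v => ?_⟩
    rw [← pol_r₁, hgv, shear, q_add hQ, q_smul hQ, pol_smul_right hQ, pol_add_left hQ, pol_smul_left hQ,
      pol_add_left hQ, sP_self, add_zero, q_add hQ, sP_r₁, h, sq, pow_two, sq, pol_add_right hQ]
    generalize pol (sP (m + 1)) v r = a
    generalize pol (sP (m + 1)) v (r₁ m) = b
    generalize pol (sP (m + 1)) r (r₁ m) = c
    generalize sP (m + 1) v = d
    revert a b c d
    decide

end Cfsg.Agent.FischerClass
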