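import Cfsg.Agent.Lib.FischerClass.Kinds
import Cfsg.Agent.Lib.FischerClass.Pairs
import Cfsg.Agent.Lib.FischerClass.SpQuad
import Cfsg.Agent.Lib.Classical.Symplectic

/-!
Fischer's theorem: symplectic transvections as non-zero vectors.
-/

set_option autoImplicit false

namespace Cfsg.Agent.FischerClass

open Cfsg Cfsg.Agent Cfsg.Agent.Fischer Cfsg.Agent.Fischer.Factor
open Cfsg.Agent.Transvec Cfsg.Agent.Transvec.Orth
open scoped Matrix
open Matrix

universe u

variable {G : Type u} [Group G] {D : Set G} {m : ℕ}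

/-- The set `S` seen as the non-zero vectors of a symplectic space. -/
structure SpModel (S : Set G) (φ : G → Fin m ⊕ Fin m → ZMod 2) : Prop where
  ne_zero : ∀ d ∈ S, φ d ≠ 0
  surj : ∀ v, v ≠ 0 → ∃ d ∈ S, φ d = v
  inj : ∀ d ∈ S, ∀ e ∈ S, φ d = φ e → d = e
  pol_eq : ∀ d ∈ S, ∀ e ∈ S, pol (sP m) (φ d) (φ e) = nc d e
  mem : ∀ d ∈ S, ∀ e ∈ S, ¬ Commute d e → d * e * d ∈ S
  third : ∀ d ∈ S, ∀ e ∈ S, ¬ Commute d e → φ (d * e * d) = φ d + φ e

theorem SpModel.syOn {S : Set G} {φ : G → Fin m ⊕ Fin m → ZMod 2} (P : SpModel S φ) : SyOn S := by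
  intro a ha b hb hab z hz
  rw [← P.pol_eq z hz a ha, ← P.pol_eq z hz b hb, ← P.pol_eq z hz _ (P.mem a ha b hb hab),
    P.third a ha b hb hab, pol_add_right (sP_form m)]
  exact CharTwo.add_self_eq_zero _

theorem sympForm_eq_pol (u v : Fin m ⊕ Fin m → ZMod 2) :
    Cfsg.sympForm m (ZMod 2) u v = pol (sP m) u v := by
  rw [Cfsg.sympForm, Matrix.J, dotProduct, Fintype.sum_sum_type]
  simp only [pol, QuadraticMap.polar, sP, Cfsg.quadFormPlus, Pi.add_apply, ← Finset.sum_sub_distrib,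
    ← Finset.sum_add_distrib]
  refine Finset.sum_congr rfl fun i _ => ?_
  simp [Matrix.mulVec, dotProduct, Fintype.sum_sum_type, Matrix.one_apply, CharTwo.neg_eq]
  ring

/-- The vector of a transvection is determined. -/
theorem transv_inj {a b : Fin m ⊕ Fin m → ZMod 2} (ha : a ≠ 0)
    (h : ∀ z, z + pol (sP m) z a • a = z + pol (sP m) z b • b) : a = b := by
  obtain ⟨w, hw⟩ := exists_partner_one ha
  have h' := add_left_cancel (h w)
  rw [sP_comm w a, hw, one_smul] at h'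
  rcases OrthTwo.zmod2 (pol (sP m) w b) with h1 | h1
  · rw [h1, zero_smul] at h'; exact absurd h' ha
  · rw [h1, one_smul] at h'; exact h'

/-- A symplectic matrix moving vectors along one line is a transvection. -/
theorem exists_transv {A : Matrix.symplecticGroup (Fin m) (ZMod 2)}
    (h : ((A : Matrix (Fin m ⊕ Fin m) (Fin m ⊕ Fin m) (ZMod 2)) - 1).rank = 1) :
    ∃ a, a ≠ 0 ∧ ∀ z, (A : Matrix (Fin m ⊕ Fin m) (Fin m ⊕ Fin m) (ZMod 2)) *ᵥ z = z + pol (sP m) z a • a := by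
  have hQ := sP_form m
  rw [Matrix.rank] at h
  obtain ⟨⟨a, ha⟩, ha0, hspan⟩ := finrank_eq_one_iff'.1 h
  have ha0' : a ≠ 0 := fun e => ha0 (Subtype.ext e)
  have hd : ∀ z, ((A : Matrix (Fin m ⊕ Fin m) (Fin m ⊕ Fin m) (ZMod 2)) - 1).mulVecLin z =
      (A : Matrix (Fin m ⊕ Fin m) (Fin m ⊕ Fin m) (ZMod 2)) *ᵥ z - z := fun z => by
    rw [Matrix.mulVecLin_apply, Matrix.sub_mulVec, Matrix.one_mulVec]
  have hex : ∀ z, ∃ c : ZMod 2, (A : Matrix (Fin m ⊕ Fin m) (Fin m ⊕ Fin m) (ZMod 2)) *ᵥ z = z + c • a := fun z => by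
    obtain ⟨c, hc⟩ := hspan ⟨_, LinearMap.mem_range_self _ z⟩
    refine ⟨c, ?_⟩
    rw [show c • a = (A : Matrix (Fin m ⊕ Fin m) (Fin m ⊕ Fin m) (ZMod 2)) *ᵥ z - z from (congrArg Subtype.val hc).trans (hd z)]
    abel
  choose c hc using hex
  obtain ⟨x₀, hx₀⟩ := ha
  have hc₀ : c x₀ = 1 := by
    rcases OrthTwo.zmod2 (c x₀) with e | e
    · have e2 := hc x₀
      rw [e, zero_smul, add_zero] at e2
      exact absurd (hx₀.symm.trans ((hd x₀).trans (by rw [e2, sub_self]))) ha0'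
    · exact e
  have key : ∀ x y, c y * pol (sP m) x a + c x * pol (sP m) a y = 0 := by
    intro x y
    have h1 := (ClassicalSp.mem_iff_preserves _).1 A.2 x y
    rw [sympForm_eq_pol, sympForm_eq_pol, hc, hc] at h1
    simp only [pol_add_left hQ, pol_add_right hQ, pol_smul_left hQ, pol_smul_right hQ, sP_self, mul_zero,
      add_zero] at h1
    linear_combination h1
  have hval : pol (sP m) a x₀ = 1 := by
    rcases OrthTwo.zmod2 (pol (sP m) a x₀) with e | e
    swap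
    · exact e
    exfalso
    refine ha0' (nondeg_top hQ a trivial fun w _ => ?_)
    have := key w x₀
    rwa [e, mul_zero, add_zero, hc₀, one_mul] at this
  refine ⟨a, ha0', fun z => ?_⟩
  rw [hc z]
  congr 2
  have := key z x₀
  rw [hc₀, one_mul, hval, mul_one, CharTwo.add_eq_zero] at this
  exact this.symm

/-- A symplectic group with its transvections has a model. -/
theorem IsSp.exists_model (h : IsSp D m) : ∃ φ : G → Fin m ⊕ Fin m → ZMod 2, SpModel D φ := by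
  classical
  obtain ⟨e, he⟩ := h
  have hQ := sP_form m
  obtain ⟨φ, hφ⟩ : ∃ φ : G → Fin m ⊕ Fin m → ZMod 2, ∀ d ∈ D, φ d ≠ 0 ∧
      ∀ z, (e d : Matrix (Fin m ⊕ Fin m) (Fin m ⊕ Fin m) (ZMod 2)) *ᵥ z = z + pol (sP m) z (φ d) • φ d := by
    have hc : ∀ d ∈ D, ∃ a, a ≠ 0 ∧ ∀ z, (e d : Matrix (Fin m ⊕ Fin m) (Fin m ⊕ Fin m) (ZMod 2)) *ᵥ z = z + pol (sP m) z a • a :=
      fun d hd => exists_transv (he.le ⟨d, hd, rfl⟩)
    exact ⟨fun d => if h : d ∈ D then (hc d h).choose else 0, fun d hd => by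
      simp only [dif_pos hd]; exact (hc d hd).choose_spec⟩
  have ext : ∀ {g g' : G}, (∀ z, (e g : Matrix (Fin m ⊕ Fin m) (Fin m ⊕ Fin m) (ZMod 2)) *ᵥ z = (e g' : Matrix (Fin m ⊕ Fin m) (Fin m ⊕ Fin m) (ZMod 2)) *ᵥ z) →
      g = g' := fun h => e.injective (Subtype.ext (Matrix.toLin'.injective (LinearMap.ext fun z => by
        rw [Matrix.toLin'_apply, Matrix.toLin'_apply]; exact h z)))
  have mv : ∀ (g g' : G) z, (e (g * g') : Matrix (Fin m ⊕ Fin m) (Fin m ⊕ Fin m) (ZMod 2)) *ᵥ z =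
      (e g : Matrix (Fin m ⊕ Fin m) (Fin m ⊕ Fin m) (ZMod 2)) *ᵥ ((e g' : Matrix (Fin m ⊕ Fin m) (Fin m ⊕ Fin m) (ZMod 2)) *ᵥ z) := fun g g' z => by
    rw [map_mul, Submonoid.coe_mul, Matrix.mulVec_mulVec]
  have vv : ∀ v : Fin m ⊕ Fin m → ZMod 2, v + v = 0 := OrthTwo.add_self_vec
  have vc : ∀ v w : Fin m ⊕ Fin m → ZMod 2, v + (v + w) = w := fun v w => by
    rw [← add_assoc, vv, zero_add]
  have hconj : ∀ d ∈ D, ∀ d' ∈ D, ∀ z, (e (d * d' * d) : Matrix (Fin m ⊕ Fin m) (Fin m ⊕ Fin m) (ZMod 2)) *ᵥ z =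
      z + pol (sP m) z (φ d' + pol (sP m) (φ d') (φ d) • φ d) • (φ d' + pol (sP m) (φ d') (φ d) • φ d) := by
    intro d hd d' hd' z
    rw [mv, mv, (hφ d hd).2 z, (hφ d' hd').2, (hφ d hd).2]
    simp only [pol_add_left hQ, pol_add_right hQ, pol_smul_left hQ, pol_smul_right hQ, sP_self, mul_zero,
      add_zero, smul_add, add_smul, mul_smul]
    rw [sP_comm (φ d) (φ d')]
    generalize pol (sP m) z (φ d) = a
    generalize pol (sP m) (φ d') (φ d) = b
    generalize pol (sP m) z (φ d') = c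
    rcases OrthTwo.zmod2 a with rfl | rfl <;> rcases OrthTwo.zmod2 b with rfl | rfl <;>
      rcases OrthTwo.zmod2 c with rfl | rfl <;> simp [add_assoc, vv, vc, add_comm, add_left_comm]
  have hinj : ∀ d ∈ D, ∀ d' ∈ D, φ d = φ d' → d = d' := fun d hd d' hd' h =>
    ext fun z => by rw [(hφ d hd).2, (hφ d' hd').2, h]
  have hsq : ∀ d ∈ D, d * d = 1 := fun d hd => ext fun z => by
    rw [mv, (hφ d hd).2 z, (hφ d hd).2, pol_add_left hQ, pol_smul_left hQ, sP_self, mul_zero, add_zero,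
      map_one, Submonoid.coe_one, Matrix.one_mulVec, add_assoc, vv, add_zero]
  have hsurj : ∀ v, v ≠ 0 → ∃ d ∈ D, φ d = v := by
    intro v hv
    have hA : Cfsg.sympTransvection m v (1 : ZMod 2) ∈ Matrix.symplecticGroup (Fin m) (ZMod 2) :=
      ClassicalSp.sympTransvection_mem v 1
    have hmv : ∀ z, Cfsg.sympTransvection m v (1 : ZMod 2) *ᵥ z = z + pol (sP m) z v • v := fun z => by
      rw [ClassicalSp.sympTransvection_mulVec, one_mul, sympForm_eq_pol]
    have hrank : (Cfsg.sympTransvection m v (1 : ZMod 2) - 1).rank = 1 := by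
      rw [Matrix.rank]
      have hr : LinearMap.range (Cfsg.sympTransvection m v (1 : ZMod 2) - 1).mulVecLin =
          Submodule.span (ZMod 2) {v} := by
        refine le_antisymm ?_ ((Submodule.span_singleton_le_iff_mem _ _).2 ?_)
        · rintro _ ⟨z, rfl⟩
          rw [Matrix.mulVecLin_apply, Matrix.sub_mulVec, Matrix.one_mulVec, hmv, add_sub_cancel_left]
          exact Submodule.smul_mem _ _ (Submodule.mem_span_singleton_self v)
        · obtain ⟨w, hw⟩ := exists_partner_one hv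
          exact ⟨w, by rw [Matrix.mulVecLin_apply, Matrix.sub_mulVec, Matrix.one_mulVec, hmv,
            add_sub_cancel_left, sP_comm, hw, one_smul]⟩
      rw [hr, finrank_span_singleton hv]
    obtain ⟨d, hd, hde⟩ := he.ge (show (⟨_, hA⟩ : Matrix.symplecticGroup (Fin m) (ZMod 2)) ∈ _ from hrank)
    refine ⟨d, hd, transv_inj (hφ d hd).1 fun z => ?_⟩
    rw [← (hφ d hd).2, ← hmv, hde]
  have hpol : ∀ d ∈ D, ∀ d' ∈ D, pol (sP m) (φ d) (φ d') = nc d d' := by
    intro d hd d' hd'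
    rw [sP_comm]
    rcases OrthTwo.zmod2 (pol (sP m) (φ d') (φ d)) with h | h
    · rw [h, nc_of_commute]
      have he' : d * d' * d = d' := ext fun z => by
        rw [hconj d hd d' hd', h, zero_smul, add_zero, ← (hφ d' hd').2]
      calc d * d' = d * d' * (d * d) := by rw [hsq d hd, mul_one]
        _ = d' * d := by rw [← mul_assoc, he']
    · rw [h, nc_of_not fun hc => ?_]
      have h1 : d * d' * d = d' := by rw [hc.eq, mul_assoc, hsq d hd, mul_one]
      have h2 := transv_inj (hφ d' hd').1 (b := φ d' + φ d) fun z => by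
        rw [← (hφ d' hd').2]
        conv_lhs => rw [← h1]
        rw [hconj d hd d' hd', h, one_smul]
      exact (hφ d hd).1 (left_eq_add.1 h2)
  have hthird : ∀ d ∈ D, ∀ d' ∈ D, ¬ Commute d d' → d * d' * d ∈ D ∧ φ (d * d' * d) = φ d + φ d' := by
    intro d hd d' hd' hc
    have h1 : pol (sP m) (φ d') (φ d) = 1 := by
      rw [hpol d' hd' d hd, nc_of_not fun h => hc h.symm]
    have hne : φ d + φ d' ≠ 0 := fun h => hc (hinj d hd d' hd' (by
      calc φ d = φ d + φ d' + φ d' := by rw [add_assoc, vv, add_zero]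
        _ = φ d' := by rw [h, zero_add]) ▸ Commute.refl d)
    obtain ⟨w, hw, hwv⟩ := hsurj _ hne
    have : d * d' * d = w := ext fun z => by
      rw [hconj d hd d' hd', h1, one_smul, (hφ w hw).2, hwv, add_comm (φ d')]
    exact this ▸ ⟨hw, hwv⟩
  exact ⟨φ, fun d hd => (hφ d hd).1, hsurj, hinj, hpol, fun d hd d' hd' h => (hthird d hd d' hd' h).1,
    fun d hd d' hd' h => (hthird d hd d' hd' h).2⟩

/-- Symplectic models move along isomorphisms. -/
theorem SpModel.of_equiv {X : Type*} [Group X] {S : Set X} {φ : X → Fin m ⊕ Fin m → ZMod 2}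
    (P : SpModel S φ) (e : G ≃* X) (he : e '' D = S) : SpModel D (fun d => φ (e d)) := by
  have hm : ∀ d ∈ D, e d ∈ S := fun d hd => he.le ⟨d, hd, rfl⟩
  have hiff : ∀ d d' : G, Commute (e d) (e d') → Commute d d' := fun d d' h =>
    e.injective (by rw [map_mul, map_mul]; exact h.eq)
  refine ⟨fun d hd => P.ne_zero _ (hm d hd), fun v hv => ?_,
    fun d hd d' hd' h => e.injective (P.inj _ (hm d hd) _ (hm d' hd') h), fun d hd d' hd' => ?_,
    fun d hd d' hd' hc => ?_, fun d hd d' hd' hc => ?_⟩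
  · obtain ⟨x, hx, rfl⟩ := P.surj v hv
    obtain ⟨d, hd, rfl⟩ := he.ge hx
    exact ⟨d, hd, rfl⟩
  · rw [P.pol_eq _ (hm d hd) _ (hm d' hd')]
    by_cases hc : Commute d d'
    · rw [nc_of_commute hc, nc_of_commute (show Commute (e d) (e d') from hc.map e.toMonoidHom)]
    · rw [nc_of_not hc, nc_of_not fun h' => hc (hiff _ _ h')]
  · obtain ⟨x, hx, hxe⟩ := he.ge (P.mem _ (hm d hd) _ (hm d' hd') fun h' => hc (hiff _ _ h'))
    rw [← map_mul, ← map_mul] at hxe
    rwa [← e.injective hxe]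
  · show φ (e (d * d' * d)) = _
    rw [map_mul, map_mul]
    exact P.third _ (hm d hd) _ (hm d' hd') fun h' => hc (hiff _ _ h')

/-- The same symplectic model serves at every member. -/
theorem Loc.exists_nb_sp [Finite G] (hL : Loc D) {d : G} (hd : d ∈ D)
    {φ : Q D d → Fin m ⊕ Fin m → ZMod 2} (h : SpModel (img D d) φ) {t : G} (ht : t ∈ D) :
    ∃ ψ : G → Fin m ⊕ Fin m → ZMod 2, SpModel (Nb D t) ψ := by
  classical
  obtain ⟨e, he⟩ := exists_img_equiv hL.tg hL.trans ht hd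
  have P := h.of_equiv e he
  set φ' := fun q => φ (e q)
  obtain ⟨ψ, hψ⟩ : ∃ ψ : G → Fin m ⊕ Fin m → ZMod 2, ∀ y (hy : y ∈ Nb D t),
      ψ y = φ' (QuotientGroup.mk ⟨y, nb_subset hy⟩) :=
    ⟨fun y => if hy : y ∈ Nb D t then φ' (QuotientGroup.mk ⟨y, nb_subset hy⟩) else 0,
      fun y hy => by simp only [dif_pos hy]⟩
  have hiff : ∀ {y z : G} (hy : y ∈ Nb D t) (hz : z ∈ Nb D t),
      Commute (QuotientGroup.mk ⟨y, nb_subset hy⟩ : Q D t) (QuotientGroup.mk ⟨z, nb_subset hz⟩) ↔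
        Commute y z := fun hy hz => mk_commute_iff hL.tset (d := t) hy.1 hz.1
  refine ⟨ψ, fun y hy => hψ y hy ▸ P.ne_zero _ ⟨_, hy, rfl⟩, fun v hv => ?_, fun y hy z hz e => ?_,
    fun y hy z hz => ?_, fun y hy z hz _ => nb_third hL.tg hy hz, fun y hy z hz hc => ?_⟩
  · obtain ⟨_, ⟨x, hx, rfl⟩, hxp⟩ := P.surj v hv
    exact ⟨x, hx, (hψ _ hx).trans hxp⟩
  · rw [hψ y hy, hψ z hz] at e
    exact congrArg Subtype.val (img_inj hL.tg hL.trans hL.twinFree ht (x := ⟨y, nb_subset hy⟩)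
      (y := ⟨z, nb_subset hz⟩) hy hz (P.inj _ ⟨_, hy, rfl⟩ _ ⟨_, hz, rfl⟩ e))
  · rw [hψ y hy, hψ z hz, P.pol_eq _ ⟨_, hy, rfl⟩ _ ⟨_, hz, rfl⟩]
    by_cases hc : Commute y z
    · rw [nc_of_commute hc, nc_of_commute ((hiff hy hz).2 hc)]
    · rw [nc_of_not hc, nc_of_not fun h' => hc ((hiff hy hz).1 h')]
  · rw [hψ _ (nb_third hL.tg hy hz), hψ y hy, hψ z hz]
    exact P.third _ ⟨_, hy, rfl⟩ _ ⟨_, hz, rfl⟩ fun h' => hc ((hiff hy hz).1 h')

end Cfsg.Agent.FischerClass
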