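import Cfsg.Agent.Lib.FischerClass.SpModel
import Cfsg.Agent.Lib.FischerClass.FarPairs

/-!
Fischer's theorem: the common neighbours of far members under a symplectic neighbourhood.
-/

set_option autoImplicit false

namespace Cfsg.Agent.FischerClass

open Cfsg Cfsg.Agent Cfsg.Agent.Fischer Cfsg.Agent.Fischer.Factor
open Cfsg.Agent.Transvec Cfsg.Agent.Transvec.Orth

universe u

variable {G : Type u} [Group G] {D : Set G} {m : ℕ}

/-- Orthogonal to everything orthogonal to `p`: a multiple of `p`. -/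
theorem sp_eq_smul {p W : Fin m ⊕ Fin m → ZMod 2} (hp : p ≠ 0)
    (h : ∀ z, pol (sP m) z p = 0 → pol (sP m) z W = 0) : W = 0 ∨ W = p := by
  have hQ := sP_form m
  obtain ⟨z₀, hz₀⟩ := exists_partner_one hp
  set c := pol (sP m) z₀ W with hc
  have key : ∀ z, pol (sP m) z (W + c • p) = 0 := by
    intro z
    have h2 := h (z + pol (sP m) z p • z₀) (by
      rw [pol_add_left hQ, pol_smul_left hQ, sP_comm z₀ p, hz₀, mul_one, CharTwo.add_self_eq_zero])
    rw [pol_add_left hQ, pol_smul_left hQ] at h2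
    rw [pol_add_right hQ, pol_smul_right hQ, mul_comm, hc]
    exact h2
  have hw : W + c • p = 0 := nondeg_top hQ _ trivial fun z _ => key z
  have he : W = c • p := by
    calc W = W + c • p + c • p := by rw [add_assoc, OrthTwo.add_self_vec, add_zero]
      _ = c • p := by rw [hw, zero_add]
  rcases OrthTwo.zmod2 c with hc' | hc' <;> rw [hc'] at he
  · exact Or.inl (by rw [he, zero_smul])
  · exact Or.inr (by rw [he, one_smul])

theorem exists_pair_perp (hm : 2 ≤ m) {p q : Fin m ⊕ Fin m → ZMod 2} (hpq : pol (sP m) p q = 1) :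
    ∃ v w, pol (sP m) v w = 1 ∧ pol (sP m) v p = 0 ∧ pol (sP m) v q = 0 ∧
      pol (sP m) w p = 0 ∧ pol (sP m) w q = 0 := by
  have hQ := sP_form m
  let Φ : (Fin m ⊕ Fin m → ZMod 2) →ₗ[ZMod 2] (Fin 2 → ZMod 2) :=
    LinearMap.pi fun i => formQ hQ (![p, q] i)
  have hk : LinearMap.ker Φ ≠ ⊥ := by
    intro h
    have := LinearMap.finrank_le_finrank_of_injective (LinearMap.ker_eq_bot.1 h)
    simp at this
    omega
  obtain ⟨v, hv, hv0⟩ := Submodule.exists_mem_ne_zero_of_ne_bot hk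
  have hvp : pol (sP m) v p = 0 := congrFun (LinearMap.mem_ker.1 hv) 0
  have hvq : pol (sP m) v q = 0 := congrFun (LinearMap.mem_ker.1 hv) 1
  obtain ⟨w₀, hw₀⟩ := exists_partner_one hv0
  refine ⟨v, w₀ + pol (sP m) w₀ q • p + pol (sP m) w₀ p • q, ?_, hvp, hvq, ?_, ?_⟩
  · simp only [pol_add_right hQ, pol_smul_right hQ, hvp, hvq, mul_zero, add_zero, hw₀]
  · simp only [pol_add_left hQ, pol_smul_left hQ, sP_self, mul_zero, add_zero]
    rw [sP_comm q p, hpq, mul_one, CharTwo.add_self_eq_zero]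
  · simp only [pol_add_left hQ, pol_smul_left hQ, sP_self, mul_zero, add_zero, hpq, mul_one,
      CharTwo.add_self_eq_zero]

/-- Of two partners on a line through a common neighbour exactly one commutes with the far member. -/
theorem sp_twin {x u a c c' : G} (hxu : ¬ Commute x u) (hu : u ∈ D)
    {ψ : G → Fin m ⊕ Fin m → ZMod 2} (P : SpModel (Nb D x) ψ)
    {α : G → Fin m ⊕ Fin m → ZMod 2} (A : SpModel (Nb D a) α)
    (haX : a ∈ Nb D x) (hau : Commute a u) (hc : c ∈ Nb D x) (hc' : c' ∈ Nb D x) (hne : c ≠ a)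
    (hca : Commute c a) (he : ψ c' = ψ c + ψ a) (hx : x ∈ D) :
    nc c u + nc c' u = 1 := by
  have hQ := sP_form m
  have hua : u ≠ a := fun h => hxu (h ▸ haX.2.2)
  have hxA : x ∈ Nb D a := ⟨hx, haX.2.1.symm, haX.2.2.symm⟩
  have huA : u ∈ Nb D a := ⟨hu, hua, hau⟩
  have hc'a : Commute c' a := nc_eq_zero_iff.1 (by
    rw [← P.pol_eq c' hc' a haX, he, pol_add_left hQ, P.pol_eq c hc a haX, nc_of_commute hca, sP_self,
      add_zero])
  have hne' : c' ≠ a := fun h => by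
    rw [h] at he
    exact P.ne_zero c hc (right_eq_add.1 he)
  have hcc : c' ≠ c := fun h => by
    rw [h] at he
    exact P.ne_zero a haX (left_eq_add.1 he)
  have hcA : c ∈ Nb D a := ⟨hc.1, hne, hca.symm⟩
  have hc'A : c' ∈ Nb D a := ⟨hc'.1, hne', hc'a.symm⟩
  have hW : α c + α c' = α x := by
    refine (sp_eq_smul (A.ne_zero x hxA) fun z hz => ?_).resolve_left fun h => ?_
    · by_cases hz0 : z = 0
      · rw [hz0, pol_zero_left hQ]
      obtain ⟨h, hh, rfl⟩ := A.surj z hz0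
      rw [A.pol_eq h hh x hxA, nc_eq_zero_iff] at hz
      rw [pol_add_right hQ, A.pol_eq h hh c hcA, A.pol_eq h hh c' hc'A]
      by_cases hhx : h = x
      · subst hhx
        rw [nc_of_commute hc.2.2, nc_of_commute hc'.2.2, add_zero]
      have hhX : h ∈ Nb D x := ⟨hh.1, hhx, hz.symm⟩
      rw [← P.pol_eq h hhX c hc, ← P.pol_eq h hhX c' hc', he, pol_add_right hQ, P.pol_eq h hhX a haX,
        nc_of_commute hh.2.2.symm, add_zero]
      exact CharTwo.add_self_eq_zero _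
    · exact hcc (A.inj c' hc'A c hcA (by
        calc α c' = α c + α c + α c' := by rw [OrthTwo.add_self_vec, zero_add]
          _ = α c := by rw [add_assoc, h, add_zero]))
  have h1 := A.pol_eq u huA x hxA
  rw [← hW, pol_add_right hQ, A.pol_eq u huA c hcA, A.pol_eq u huA c' hc'A,
    nc_of_not (fun h => hxu h.symm), nc_comm u c, nc_comm u c'] at h1
  exact h1

/-- The neighbours commuting with a far member are the vectors of value one of a quadratic function. -/
theorem sp_shape [Finite G] (hL : Loc D) (hm : 2 ≤ m)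
    (hP : ∀ t ∈ D, ∃ ψ : G → Fin m ⊕ Fin m → ZMod 2, SpModel (Nb D t) ψ) {x u : G} (hx : x ∈ D)
    (hu : u ∈ D) (hxu : ¬ Commute x u) {ψ : G → Fin m ⊕ Fin m → ZMod 2} (P : SpModel (Nb D x) ψ) :
    ∃ g : (Fin m ⊕ Fin m → ZMod 2) → ZMod 2,
      (∀ v w, g (v + w) = g v + g w + pol (sP m) v w) ∧ (∀ c ∈ Nb D x, nc c u = 1 + g (ψ c)) ∧
      ∃ v w, pol (sP m) v w = 1 ∧ g v = 1 ∧ g w = 1 := by
  classical
  have hQ := sP_form m
  obtain ⟨a, ha, -, -, -, -, hax, hau, -, -⟩ := hL.edge_of_far hx hu hxu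
  obtain ⟨g, hg0, hg⟩ : ∃ g : (Fin m ⊕ Fin m → ZMod 2) → ZMod 2, g 0 = 0 ∧
      ∀ c ∈ Nb D x, g (ψ c) = 1 + nc c u := by
    refine ⟨fun v => if h : ∃ c ∈ Nb D x, ψ c = v then 1 + nc h.choose u else 0, ?_, fun c hc => ?_⟩
    · exact dif_neg fun ⟨c, hc, h⟩ => P.ne_zero c hc h
    · have h : ∃ c' ∈ Nb D x, ψ c' = ψ c := ⟨c, hc, rfl⟩
      simp only [dif_pos h]
      rw [P.inj _ h.choose_spec.1 c hc h.choose_spec.2]
  have hnc : ∀ c ∈ Nb D x, nc c u = 1 + g (ψ c) := fun c hc => by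
    rw [hg c hc, ← add_assoc, CharTwo.add_self_eq_zero, zero_add]
  have line : ∀ v w, v ≠ 0 → w ≠ 0 → v ≠ w → pol (sP m) v w = 0 → g v = 1 → g (v + w) = g v + g w := by
    intro v w hv hw hvw hpol hgv
    obtain ⟨a', ha', rfl⟩ := P.surj v hv
    obtain ⟨c, hc, rfl⟩ := P.surj w hw
    have hcu : Commute a' u := nc_eq_zero_iff.1 (by rw [hnc a' ha', hgv]; decide)
    have hne : ψ a' + ψ c ≠ 0 := fun h => hvw (by
      calc ψ a' = ψ a' + ψ c + ψ c := by rw [add_assoc, OrthTwo.add_self_vec, add_zero]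
        _ = ψ c := by rw [h, zero_add])
    obtain ⟨c', hc', hce⟩ := P.surj _ hne
    obtain ⟨α, A⟩ := hP a' ha'.1
    have := sp_twin hxu hu P A ha' hcu hc hc' (fun h => hvw (h ▸ rfl))
      (nc_eq_zero_iff.1 (by rw [← P.pol_eq c hc a' ha', sP_comm]; exact hpol))
      (hce.trans (add_comm _ _)) hx
    rw [hnc c hc, hnc c' hc', hce] at this
    rw [hgv]
    generalize g (ψ a' + ψ c) = s at this ⊢
    generalize g (ψ c) = t at this ⊢
    revert s t; decide
  have perp : ∀ v w, pol (sP m) v w = 0 → g (v + w) = g v + g w := by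
    intro v w hpol
    by_cases hv : v = 0
    · rw [hv, zero_add, hg0, zero_add]
    by_cases hw : w = 0
    · rw [hw, add_zero, hg0, add_zero]
    by_cases hvw : v = w
    · rw [hvw, OrthTwo.add_self_vec, hg0, CharTwo.add_self_eq_zero]
    rcases OrthTwo.zmod2 (g v) with h1 | h1
    swap
    · exact line v w hv hw hvw hpol h1
    rcases OrthTwo.zmod2 (g w) with h2 | h2
    swap
    · rw [add_comm v w, line w v hw hv (Ne.symm hvw) (by rw [sP_comm]; exact hpol) h2, add_comm]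
    rcases OrthTwo.zmod2 (g (v + w)) with h3 | h3
    · rw [h1, h2, h3, add_zero]
    · have hne : v + w ≠ 0 := fun h => hvw (by
        calc v = v + w + w := by rw [add_assoc, OrthTwo.add_self_vec, add_zero]
          _ = w := by rw [h, zero_add])
      have e := line (v + w) v hne hv (fun h => hw (add_eq_left.1 h))
        (by rw [pol_add_left hQ, sP_self, sP_comm w v, hpol, add_zero]) h3
      rw [show v + w + v = w by rw [add_comm v w, add_assoc, OrthTwo.add_self_vec, add_zero], h3, h1,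
        add_zero] at e
      rw [h3, h1, zero_add, e]
  -- a line of common neighbours
  obtain ⟨α, A⟩ := hP a ha
  have hxA : x ∈ Nb D a := ⟨hx, hax.2.1.symm, hax.2.2.symm⟩
  have huA : u ∈ Nb D a := ⟨hu, hau.2.1.symm, hau.2.2.symm⟩
  have hpq : pol (sP m) (α x) (α u) = 1 := by rw [A.pol_eq x hxA u huA, nc_of_not hxu]
  obtain ⟨v, w, hvw, hvp, hvq, hwp, hwq⟩ := exists_pair_perp hm hpq
  have hv0 : v ≠ 0 := fun h => by rw [h, pol_zero_left hQ] at hvw; exact zero_ne_one hvw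
  have hw0 : w ≠ 0 := fun h => by rw [h, pol_zero_right hQ] at hvw; exact zero_ne_one hvw
  obtain ⟨c, hc, rfl⟩ := A.surj v hv0
  obtain ⟨d, hd, rfl⟩ := A.surj w hw0
  have mk : ∀ {z : G}, z ∈ Nb D a → pol (sP m) (α z) (α x) = 0 → pol (sP m) (α z) (α u) = 0 →
      z ∈ Nb D x ∧ g (ψ z) = 1 := by
    intro z hz h1 h2
    have hzx : z ≠ x := fun e => by
      rw [e, hpq] at h2; exact one_ne_zero h2
    have hzX : z ∈ Nb D x := ⟨hz.1, hzx, (nc_eq_zero_iff.1 ((A.pol_eq z hz x hxA).symm.trans h1)).symm⟩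
    refine ⟨hzX, ?_⟩
    rw [hg z hzX, ← A.pol_eq z hz u huA, h2, add_zero]
  obtain ⟨hcX, hgc⟩ := mk hc hvp hvq
  obtain ⟨hdX, hgd⟩ := mk hd hwp hwq
  have hcd : ¬ Commute c d := fun h => by
    rw [A.pol_eq c hc d hd, nc_of_commute h] at hvw; exact zero_ne_one hvw
  obtain ⟨heX, hge⟩ := mk (A.mem c hc d hd hcd)
    (by rw [A.third c hc d hd hcd, pol_add_left hQ, hvp, hwp, add_zero])
    (by rw [A.third c hc d hd hcd, pol_add_left hQ, hvq, hwq, add_zero])
  have hpc : pol (sP m) (ψ c) (ψ d) = 1 := by rw [P.pol_eq c hcX d hdX, nc_of_not hcd]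
  rw [P.third c hcX d hdX hcd] at hge
  exact ⟨g, quad_of_perp perp hpc (by rw [hge, hgc, hgd]; decide), hnc, _, _, hpc, hgc, hgd⟩

/-- No affine planes over a symplectic neighbourhood. -/
theorem sp_syOn [Finite G] (hL : Loc D) (hm : 2 ≤ m)
    (hP : ∀ t ∈ D, ∃ ψ : G → Fin m ⊕ Fin m → ZMod 2, SpModel (Nb D t) ψ) : SyOn D := by
  refine syOn_of_meet hL.toStd (fun t ht => ?_) fun z hz a ha b hb _ h1 h2 => ?_
  · obtain ⟨ψ, P⟩ := hP t ht
    exact P.syOn
  obtain ⟨ψ, P⟩ := hP z hz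
  obtain ⟨g, hg, hgn, v, w, hvw, hv, hw⟩ := sp_shape hL hm hP hz ha h1 P
  obtain ⟨g', hg', hgn', -⟩ := sp_shape hL hm hP hz hb h2 P
  have hQ := sP_form m
  have g0 : g 0 = 0 := by
    have := hg 0 0
    rw [add_zero, pol_zero_left hQ, add_zero, CharTwo.add_self_eq_zero] at this
    exact this
  have hvw1 : g (v + w) = 1 := by rw [hg, hv, hw, hvw]; decide
  obtain ⟨r, hr1, hr2⟩ : ∃ r, g r = 1 ∧ g' r = 1 := by
    rcases OrthTwo.zmod2 (g' v) with e1 | e1
    swap
    · exact ⟨v, hv, e1⟩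
    rcases OrthTwo.zmod2 (g' w) with e2 | e2
    swap
    · exact ⟨w, hw, e2⟩
    exact ⟨v + w, hvw1, by rw [hg', e1, e2, hvw]; decide⟩
  obtain ⟨e, he, rfl⟩ := P.surj r fun h => by rw [h, g0] at hr1; exact zero_ne_one hr1
  refine ⟨e, he.1, he.2.2.symm, nc_eq_zero_iff.1 ?_, nc_eq_zero_iff.1 ?_⟩
  · rw [hgn e he, hr1]; decide
  · rw [hgn' e he, hr2]; decide

end Cfsg.Agent.FischerClass
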