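import Cfsg.Agent.Lib.FischerClass.SpShape
import Cfsg.Agent.Lib.FischerClass.OrthRecog

/-!
Fischer's theorem: a symplectic neighbourhood gives an orthogonal group over two elements.
-/

set_option autoImplicit false

namespace Cfsg.Agent.FischerClass

open Cfsg Cfsg.Agent Cfsg.Agent.Fischer Cfsg.Agent.Fischer.Factor
open Cfsg.Agent.Transvec Cfsg.Agent.Transvec.Orth

universe u

variable {G : Type u} [Group G] {D : Set G} {m : ℕ} {ι : Type}

/-- Members with their vectors, grown along lines. -/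
inductive Gen (D : Set G) (x u₀ : G) (ψ : G → Fin m ⊕ Fin m → ZMod 2)
    (g : (Fin m ⊕ Fin m → ZMod 2) → ZMod 2) (E : (Fin m ⊕ Fin m → ZMod 2) → ι → ZMod 2)
    (ex eu : ι → ZMod 2) : G → (ι → ZMod 2) → Prop
  | px : Gen D x u₀ ψ g E ex eu x ex
  | pu : Gen D x u₀ ψ g E ex eu u₀ eu
  | pn {c : G} : c ∈ Nb D x → Gen D x u₀ ψ g E ex eu c (E (ψ c) + (1 + g (ψ c)) • ex)
  | line {a b : G} {v w : ι → ZMod 2} : Gen D x u₀ ψ g E ex eu a v → Gen D x u₀ ψ g E ex eu b w →
      ¬ Commute a b → Gen D x u₀ ψ g E ex eu (a * b * a) (v + w)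

theorem zmod2_sub (a b : ZMod 2) : a - b = a + b := by revert a b; decide

variable [Fintype ι] [DecidableEq ι] [Finite G] {q : (ι → ZMod 2) → ZMod 2}

/-- The recognition with given coordinates. -/
theorem sp_recog (hL : Loc D) (hsy : SyOn D) (hQ : Geo.IsNondegenerateQuadraticForm q)
    (hcard : 5 ≤ Fintype.card ι) {x u₀ : G} (hx : x ∈ D) (hu₀ : u₀ ∈ D) (hxu : ¬ Commute x u₀)
    {ψ : G → Fin m ⊕ Fin m → ZMod 2} (P : SpModel (Nb D x) ψ)
    {g : (Fin m ⊕ Fin m → ZMod 2) → ZMod 2} (hg : ∀ v w, g (v + w) = g v + g w + pol (sP m) v w)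
    (hgn : ∀ c ∈ Nb D x, nc c u₀ = 1 + g (ψ c))
    {E : (Fin m ⊕ Fin m → ZMod 2) → ι → ZMod 2} {ex eu : ι → ZMod 2}
    (hE : ∀ v w, E (v + w) = E v + E w) (hqE : ∀ v, q (E v) = g v) (hqx : q ex = 1) (hqu : q eu = 1)
    (hEx : ∀ v, pol q (E v) ex = 0) (hEu : ∀ v, pol q (E v) eu = 0) (hxy : pol q ex eu = 1)
    (hspan : ∀ z, ∃ v, ∃ s t : ZMod 2, z = E v + s • ex + t • eu) :
    ∃ e : G ≃* ↥(Cfsg.isometryGroup (ZMod 2) q), e '' D = {g : ↥(Cfsg.isometryGroup (ZMod 2) q) |
      (((g : GL ι (ZMod 2)) : Matrix ι ι (ZMod 2)) - 1).rank = 1} := by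
  classical
  have hS := hL.toStd
  have h11 : (1 : ZMod 2) + 1 = 0 := CharTwo.add_self_eq_zero 1
  have vv : ∀ v : ι → ZMod 2, v + v = 0 := OrthTwo.add_self_vec
  have pEE : ∀ v w, pol q (E v) (E w) = pol (sP m) v w := fun v w => by
    rw [pol, QuadraticMap.polar, ← hE, hqE, hqE, hqE, hg]; ring
  have psi2 : ∀ z : ι → ZMod 2, pol q z z = 0 := OrthTwo.pol_self_two hQ
  have pc : ∀ a b : ι → ZMod 2, pol q a b = pol q b a := fun a b => pol_comm (Q := q) a b
  have genD : ∀ {d v}, Gen D x u₀ ψ g E ex eu d v → d ∈ D := by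
    intro d v hd
    induction hd with
    | px => exact hx
    | pu => exact hu₀
    | pn h => exact h.1
    | line _ _ _ ha hb => exact hS.xux_mem ha hb
  have lin : ∀ {a b : G}, a ∈ D → b ∈ D → ¬ Commute a b → ∀ z ∈ D,
      nc z (a * b * a) = nc z a + nc z b :=
    fun ha hb h z hz => ((CharTwo.add_eq_zero).1 (hsy _ ha _ hb h z hz)).symm
  -- compatibility with each of the first members
  have bx : ∀ {d v}, Gen D x u₀ ψ g E ex eu d v → nc x d = pol q ex v := by
    intro d v hd
    induction hd with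
    | px => rw [nc_of_commute (Commute.refl x), psi2]
    | pu => rw [nc_of_not hxu, hxy]
    | @pn c h => rw [nc_of_commute h.2.2, pol_add_right hQ, pol_smul_right hQ, pc, hEx, psi2, mul_zero, add_zero]
    | @line a b v w ga gb hab iha ihb => rw [lin (genD ga) (genD gb) hab x hx, iha, ihb, pol_add_right hQ]
  have bu : ∀ {d v}, Gen D x u₀ ψ g E ex eu d v → nc u₀ d = pol q eu v := by
    intro d v hd
    induction hd with
    | px => rw [nc_comm, nc_of_not hxu, pc, hxy]
    | pu => rw [nc_of_commute (Commute.refl u₀), psi2]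
    | @pn c h =>
      rw [nc_comm, hgn c h, pol_add_right hQ, pol_smul_right hQ, pc, hEu, zero_add, pc eu ex, hxy, mul_one]
    | @line a b v w ga gb hab iha ihb => rw [lin (genD ga) (genD gb) hab u₀ hu₀, iha, ihb, pol_add_right hQ]
  have bn : ∀ {c}, c ∈ Nb D x → ∀ {d v}, Gen D x u₀ ψ g E ex eu d v →
      nc c d = pol q (E (ψ c) + (1 + g (ψ c)) • ex) v := by
    intro c hc d v hd
    induction hd with
    | px =>
      rw [nc_of_commute hc.2.2.symm, pol_add_left hQ, pol_smul_left hQ, hEx, psi2, mul_zero, add_zero]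
    | pu => rw [hgn c hc, pol_add_left hQ, pol_smul_left hQ, hEu, hxy, mul_one, zero_add]
    | @pn c' h =>
      simp only [pol_add_left hQ, pol_add_right hQ, pol_smul_left hQ, pol_smul_right hQ, hEx,
        pc ex (E _), psi2, mul_zero, add_zero, pEE]
      exact (P.pol_eq c hc c' h).symm
    | @line a b v w ga gb hab iha ihb => rw [lin (genD ga) (genD gb) hab c hc.1, iha, ihb, pol_add_right hQ]
  have gg : ∀ {d v e w}, Gen D x u₀ ψ g E ex eu d v → Gen D x u₀ ψ g E ex eu e w →
      nc d e = pol q v w := by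
    intro d v e w hd he
    induction hd with
    | px => exact bx he
    | pu => exact bu he
    | pn h => exact bn h he
    | @line a b v' w' ga gb hab iha ihb =>
      rw [nc_comm, lin (genD ga) (genD gb) hab e (genD he), nc_comm e a, nc_comm e b, iha, ihb,
        pol_add_left hQ]
  have hq1 : ∀ {d v}, Gen D x u₀ ψ g E ex eu d v → q v = 1 := by
    intro d v hd
    induction hd with
    | px => exact hqx
    | pu => exact hqu
    | @pn c h =>
      rw [q_add hQ, hqE, q_smul hQ, hqx, pol_smul_right hQ, hEx]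
      generalize g (ψ c) = s
      revert s; decide
    | @line a b v w ga gb hab iha ihb =>
      rw [q_add hQ, iha, ihb, ← gg ga gb, nc_of_not hab]; decide
  have back : ∀ {a u : G}, a ∈ D → a * (a * u * a) * a = u := fun {a u} ha => by
    rw [show a * (a * u * a) * a = (a * a) * u * (a * a) by simp only [mul_assoc], TSet.sq hS.tset ha,
      one_mul, mul_one]
  have near : ∀ d ∈ D, Commute x d → ∃ v, Gen D x u₀ ψ g E ex eu d v := by
    intro d hd hc
    by_cases e : d = x
    · exact ⟨ex, e ▸ Gen.px⟩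
    · exact ⟨_, Gen.pn ⟨hd, e, hc⟩⟩
  have farfar : ∀ u ∈ D, ¬ Commute x u → ¬ Commute u₀ u → ∃ v, Gen D x u₀ ψ g E ex eu u v := by
    intro u hu hxu' hu₀u
    have hw : Commute x (u₀ * u * u₀) := nc_eq_zero_iff.1 (by
      rw [lin hu₀ hu hu₀u x hx, nc_of_not hxu, nc_of_not hxu', h11])
    obtain ⟨v, hv⟩ := near _ (hS.xux_mem hu₀ hu) hw
    refine ⟨eu + v, ?_⟩
    have := Gen.line (Gen.pu (D := D) (x := x) (u₀ := u₀) (ψ := ψ) (g := g) (E := E) (ex := ex) (eu := eu))
      hv (hS.far_third hu₀ hu hu₀u)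
    rwa [back hu₀] at this
  have total : ∀ d ∈ D, ∃ v, Gen D x u₀ ψ g E ex eu d v := by
    intro d hd
    by_cases hxd : Commute x d
    · exact near d hd hxd
    by_cases hud : Commute u₀ d
    · have hf : ¬ Commute u₀ (x * d * x) := fun h => by
        have := lin hx hd hxd u₀ hu₀
        rw [nc_of_commute h, nc_of_commute hud, nc_comm, nc_of_not hxu] at this
        exact absurd this (by decide)
      obtain ⟨v, hv⟩ := farfar _ (hS.xux_mem hx hd) (hS.far_third hx hd hxd) hf
      refine ⟨ex + v, ?_⟩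
      have := Gen.line (Gen.px (D := D) (x := x) (u₀ := u₀) (ψ := ψ) (g := g) (E := E) (ex := ex) (eu := eu))
        hv (hS.far_third hx hd hxd)
      rwa [back hx] at this
    · exact farfar d hd hxd hud
  have hex : ∀ d, ∃ v, d ∈ D → Gen D x u₀ ψ g E ex eu d v := fun d => by
    by_cases hd : d ∈ D
    · exact ⟨(total d hd).choose, fun _ => (total d hd).choose_spec⟩
    · exact ⟨0, fun h => absurd h hd⟩
  choose Φ hΦ using hex
  have heq : ∀ {v w : ι → ZMod 2}, (∀ z, q z = 1 → pol q z v = pol q z w) → v = w := by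
    intro v w h
    have h' : ∀ z, pol q z (v + w) = 0 := by
      intro z
      rw [pol_add_right hQ]
      rcases OrthTwo.zmod2 (q z) with h0 | h1
      · obtain ⟨a, ha, haz, -⟩ := OrthTwo.exists_orth_one hQ z z hcard
        have h1 := h (z + a) (by rw [q_add hQ, h0, ha, pc, haz]; decide)
        rw [pol_add_left hQ, pol_add_left hQ, h a ha, add_left_inj] at h1
        rw [h1]; exact CharTwo.add_self_eq_zero _
      · rw [h z h1]; exact CharTwo.add_self_eq_zero _
    have h0 := nondeg_top hQ (v + w) trivial fun z _ => h' z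
    calc v = v + w + w := by rw [add_assoc, vv, add_zero]
      _ = w := by rw [h0, zero_add]
  have gen_eq : ∀ {d v}, Gen D x u₀ ψ g E ex eu d v →
      ∀ e ∈ D, pol q (Φ e) v = nc e d := fun hd e he => (gg (hΦ e he) hd).symm
  have surj0 : ∀ z, q z = 1 → ∃ d v, Gen D x u₀ ψ g E ex eu d v ∧ v = z := by
    have low : ∀ w, ∀ s : ZMod 2, q (E w + s • ex) = 1 → ∃ d, Gen D x u₀ ψ g E ex eu d (E w + s • ex) := by
      intro w s h
      rw [q_add hQ, hqE, q_smul hQ, hqx, pol_smul_right hQ, hEx] at h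
      by_cases hw : w = 0
      · refine ⟨x, ?_⟩
        subst hw
        have g0 : g 0 = 0 := by
          have := hg 0 0
          rw [add_zero, pol_zero_left (sP_form m), add_zero, CharTwo.add_self_eq_zero] at this
          exact this
        have E0 : E 0 = 0 := by
          have := hE 0 0
          rw [add_zero] at this
          exact left_eq_add.1 this
        have hs : s = 1 := by
          rw [g0] at h
          revert h
          generalize s = s'
          revert s'
          decide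
        rw [hs, E0, zero_add, one_smul]
        exact Gen.px
      · obtain ⟨c, hc, rfl⟩ := P.surj w hw
        refine ⟨c, ?_⟩
        have hs : s = 1 + g (ψ c) := by
          generalize g (ψ c) = t at h ⊢
          revert h
          generalize s = s'
          revert t s'
          decide
        rw [hs]
        exact Gen.pn hc
    have viau : ∀ z, q z = 1 → pol q z eu = 1 → ∀ v, ∀ s : ZMod 2, z = E v + s • ex + (1 : ZMod 2) • eu →
        ∃ d, Gen D x u₀ ψ g E ex eu d z := by
      intro z hz hzu v s he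
      have e1 : z + eu = E v + s • ex := by rw [he, one_smul, add_assoc, vv, add_zero]
      obtain ⟨d, hd⟩ := low v s (by rw [← e1, q_add hQ, hz, hqu, hzu]; decide)
      refine ⟨u₀ * d * u₀, ?_⟩
      have hnc : ¬ Commute u₀ d := fun h => by
        have := gg Gen.pu hd
        rw [nc_of_commute h, ← e1, pol_add_right hQ, pc, hzu, psi2] at this
        exact absurd this (by decide)
      have := Gen.line Gen.pu hd hnc
      rwa [← e1, add_comm z eu, ← add_assoc, vv, zero_add] at this
    intro z hz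
    obtain ⟨v, s, t, he⟩ := hspan z
    rcases OrthTwo.zmod2 t with rfl | rfl
    · rw [zero_smul, add_zero] at he
      obtain ⟨d, hd⟩ := low v s (he ▸ hz)
      exact ⟨d, _, hd, he.symm⟩
    rcases OrthTwo.zmod2 (pol q z eu) with h | h
    swap
    · obtain ⟨d, hd⟩ := viau z hz h v s he
      exact ⟨d, _, hd, rfl⟩
    · have hzx : pol q z ex = 1 := by
        rw [he, pol_add_left hQ, pol_add_left hQ, pol_smul_left hQ, hEx, psi2, one_smul, pc eu, hxy]
        simp
      obtain ⟨d, hd⟩ := viau (z + ex) (by rw [q_add hQ, hz, hqx, hzx]; decide)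
        (by rw [pol_add_left hQ, h, hxy, zero_add]) v (s + 1)
        (by rw [he, add_smul]; simp only [one_smul]; abel)
      have hnc : ¬ Commute x d := fun hc => by
        have := gg Gen.px hd
        rw [nc_of_commute hc, pol_add_right hQ, pc, hzx, psi2] at this
        exact absurd this (by decide)
      exact ⟨_, _, Gen.line Gen.px hd hnc, by rw [add_comm z ex, ← add_assoc, vv, zero_add]⟩
  have hsurj : ∀ z, q z = 1 → ∃ d ∈ D, Φ d = z := by
    intro z hz
    obtain ⟨d, v, hd, rfl⟩ := surj0 z hz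
    refine ⟨d, genD hd, heq fun z hz => ?_⟩
    obtain ⟨e, w, he, rfl⟩ := surj0 z hz
    rw [← gg he (hΦ d (genD hd)), ← gg he hd]
  have hpol : ∀ d ∈ D, ∀ e ∈ D, pol q (Φ d) (Φ e) = nc d e := fun d hd e he =>
    (gg (hΦ d hd) (hΦ e he)).symm
  refine exists_iso_of_model hS hcard (φ := Φ)
    ⟨hQ, fun d hd => hq1 (hΦ d hd), hsurj, fun d hd e he h => ?_, hpol⟩ fun d hd b hb hc => ?_
  · refine (hS.twinFree d e hd ⟨he, fun y hy => ?_⟩).symm
    rw [← nc_eq_zero_iff, ← nc_eq_zero_iff, ← hpol e he y hy, ← hpol d hd y hy, h]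
  · refine heq fun z hz => ?_
    obtain ⟨e, he, rfl⟩ := hsurj z hz
    rw [gen_eq (hΦ _ (hS.xux_mem hd hb)) e he, pol_add_right hQ, hpol e he d hd, hpol e he b hb,
      lin hd hb hc e he]

end Cfsg.Agent.FischerClass
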