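import Cfsg.Agent.Lib.FischerClass.FarPairs

/-!
Fischer's theorem: when the common neighbours of far members are the pairs missing one point, the
class is that of a symmetric group with two more letters.
-/

set_option autoImplicit false

namespace Cfsg.Agent.FischerClass

open Cfsg Cfsg.Agent Cfsg.Agent.Fischer Cfsg.Agent.Fischer.Factor
open scoped symmDiff

universe u

variable {G : Type u} [Group G] {D : Set G} {n : ℕ}

/-- The neighbours of `x` commuting with `u` are the pairs missing `i`. -/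
def Avoid (D : Set G) (x u : G) (ψ : G → Finset (Fin n)) (i : Fin n) : Prop :=
  ∀ c ∈ Nb D x, (Commute c u ↔ i ∉ ψ c)

theorem exists_pair_avoid (T : Finset (Fin n)) (h : T.card + 2 ≤ n) :
    ∃ p : Finset (Fin n), p.card = 2 ∧ Disjoint p T := by
  obtain ⟨p, hp, hc⟩ := Finset.exists_subset_card_eq (s := Finset.univ \ T) (n := 2) (by
    rw [Finset.card_sdiff_of_subset (Finset.subset_univ T), Finset.card_univ, Fintype.card_fin]
    omega)
  exact ⟨p, hc, Finset.disjoint_left.2 fun x hx hx' => (Finset.mem_sdiff.1 (hp hx)).2 hx'⟩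

theorem exists_pair_with (T : Finset (Fin n)) (h : T.card + 1 ≤ n) {i : Fin n} (hi : i ∈ T) :
    ∃ j ∉ T, ({i, j} : Finset (Fin n)).card = 2 := by
  obtain ⟨j, -, hj⟩ := Finset.exists_mem_notMem_of_card_lt_card (s := T) (t := Finset.univ) (by
    rw [Finset.card_univ, Fintype.card_fin]; omega)
  exact ⟨j, hj, Finset.card_pair fun e => hj (e ▸ hi)⟩

theorem nc_of_avoid {x u : G} {ψ : G → Finset (Fin n)} {i : Fin n} (h : Avoid D x u ψ i) {c : G}
    (hc : c ∈ Nb D x) : nc c u = if i ∈ ψ c then 1 else 0 := by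
  by_cases hi : i ∈ ψ c
  · rw [if_pos hi, nc_of_not fun h' => (h c hc).1 h' hi]
  · rw [if_neg hi, nc_of_commute ((h c hc).2 hi)]

theorem card_pair_inter {α : Type*} [DecidableEq α] {a b : α} (hab : a ≠ b) (p : Finset α) :
    ((({a, b} : Finset α) ∩ p).card : ZMod 2) =
      (if a ∈ p then 1 else 0) + (if b ∈ p then 1 else 0) := by
  by_cases ha : a ∈ p <;> by_cases hb : b ∈ p
  · rw [Finset.inter_eq_left.2 (by simp [Finset.insert_subset_iff, ha, hb]), Finset.card_pair hab]
    simp [ha, hb]; decide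
  · rw [show ({a, b} : Finset α) ∩ p = {a} by ext y; aesop]
    simp [ha, hb]
  · rw [show ({a, b} : Finset α) ∩ p = {b} by ext y; aesop]
    simp [ha, hb]
  · rw [show ({a, b} : Finset α) ∩ p = ∅ by ext y; aesop]
    simp [ha, hb]

variable [Finite G]

theorem SymPoint.syOn (hL : Loc D) (hn : 4 ≤ n)
    (hP : ∀ t ∈ D, ∃ ψ : G → Finset (Fin n), PairModel (Nb D t) ψ)
    (hA : ∀ x ∈ D, ∀ u ∈ D, ¬ Commute x u → ∀ ψ : G → Finset (Fin n), PairModel (Nb D x) ψ →
      ∃ i, Avoid D x u ψ i) : SyOn D := by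
  refine syOn_of_meet hL.toStd (fun t ht => ?_) fun z hz a ha b hb _ h1 h2 => ?_
  · obtain ⟨ψ, P⟩ := hP t ht
    exact P.syOn
  obtain ⟨ψ, P⟩ := hP z hz
  obtain ⟨i, hi⟩ := hA z hz a ha h1 ψ P
  obtain ⟨j, hj⟩ := hA z hz b hb h2 ψ P
  obtain ⟨p, hp, hpd⟩ := exists_pair_avoid ({i, j} : Finset (Fin n))
    (le_trans (Nat.add_le_add_right Finset.card_le_two 2) hn)
  obtain ⟨e, he, rfl⟩ := P.surj p hp
  exact ⟨e, he.1, he.2.2.symm, (hi e he).2 fun h => Finset.disjoint_left.1 hpd h (by simp),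
    (hj e he).2 fun h => Finset.disjoint_left.1 hpd h (by simp)⟩

/-- The recognition of the symmetric group. -/
theorem isSym_of_avoid (hL : Loc D) (hn : 5 ≤ n)
    (hP : ∀ t ∈ D, ∃ ψ : G → Finset (Fin n), PairModel (Nb D t) ψ)
    (hA : ∀ x ∈ D, ∀ u ∈ D, ¬ Commute x u → ∀ ψ : G → Finset (Fin n), PairModel (Nb D x) ψ →
      ∃ i, Avoid D x u ψ i) : IsSym D (n + 2) := by
  classical
  have hS := hL.toStd
  have hsy : SyOn D := SymPoint.syOn hL (by omega) hP hA
  obtain ⟨x, hx, y₀, hy₀, -, -, -, -, hxy, -⟩ := hL.exists_edge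
  obtain ⟨ψ, P⟩ := hP x hx
  haveI : Nonempty (Fin n) := ⟨⟨0, by omega⟩⟩
  have memFar : ∀ {u : G}, ¬ Commute x u → ∀ c ∈ Nb D x, c ≠ u := fun {u} h c hc e => h (e ▸ hc.2.2)
  obtain ⟨π, hπ⟩ : ∃ π : G → Fin n, ∀ u ∈ D, ¬ Commute x u → Avoid D x u ψ (π u) :=
    ⟨fun u => if h : u ∈ D ∧ ¬ Commute x u then (hA x hx u h.1 h.2 ψ P).choose else Classical.arbitrary _,
      fun u hu hxu => by
        simp only [dif_pos (And.intro hu hxu)]
        exact (hA x hx u hu hxu ψ P).choose_spec⟩
  have uniq : ∀ {u : G} {i j : Fin n}, Avoid D x u ψ i → Avoid D x u ψ j → i = j := by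
    intro u i j hi hj
    by_contra hne
    obtain ⟨l, hl, hc⟩ := exists_pair_with ({i, j} : Finset (Fin n))
      (by rw [Finset.card_pair hne]; omega) (i := i) (by simp)
    obtain ⟨c, hcm, hce⟩ := P.surj _ hc
    simp only [Finset.mem_insert, Finset.mem_singleton, not_or] at hl
    exact (hi c hcm).1 ((hj c hcm).2 (by rw [hce]; simp [Ne.symm hne, Ne.symm hl.2])) (by rw [hce]; simp)
  -- the other member of the pair
  have swapx : ∀ {u : G}, u ∈ D → ¬ Commute x u →
      ¬ Commute x (x * u * x) ∧ π (x * u * x) = π u := by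
    intro u hu hxu
    refine ⟨hS.far_third hx hu hxu, uniq (hπ _ (hS.xux_mem hx hu) (hS.far_third hx hu hxu)) ?_⟩
    intro c hc
    rw [← hπ u hu hxu c hc]
    exact hS.commute_third_iff hx hc.2.2.symm
  -- the third member of two far members far from `x`
  have wmem : ∀ {u v : G}, u ∈ D → v ∈ D → ¬ Commute x u → ¬ Commute x v → ¬ Commute u v →
      Commute x (u * v * u) ∧ ∀ c ∈ Nb D x, nc c (u * v * u) = nc c u + nc c v := by
    intro u v hu hv hxu hxv huv
    have key : ∀ z ∈ D, nc z (u * v * u) = nc z u + nc z v := fun z hz =>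
      ((CharTwo.add_eq_zero).1 (hsy u hu v hv huv z hz)).symm
    refine ⟨nc_eq_zero_iff.1 ?_, fun c hc => key c hc.1⟩
    rw [key x hx, nc_of_not hxu, nc_of_not hxv]
    exact CharTwo.add_self_eq_zero 1
  have farcase : ∀ {u v : G}, u ∈ D → v ∈ D → ¬ Commute x u → ¬ Commute x v → ¬ Commute u v →
      π u = π v → v = x * u * x := by
    intro u v hu hv hxu hxv huv e
    obtain ⟨hcw, hw⟩ := wmem hu hv hxu hxv huv
    have hwx : u * v * u = x := by
      by_contra hne
      refine no_central_nb hL.tg hL.trans hL.twinFree hx (b := u * v * u)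
        ⟨hS.xux_mem hu hv, hne, hcw⟩ fun c hc => ?_
      refine (nc_eq_zero_iff.1 ?_).symm
      rw [hw c hc, nc_of_avoid (hπ u hu hxu) hc, nc_of_avoid (hπ v hv hxv) hc, e]
      exact CharTwo.add_self_eq_zero _
    calc v = u * (u * v * u) * u := by
          simp only [mul_assoc, TSet.sq hS.tset hu, mul_one]
          rw [← mul_assoc, TSet.sq hS.tset hu, one_mul]
      _ = u * x * u := by rw [hwx]
      _ = x * u * x := (TSet.braid hS.tset hx hu hxu).symm
  have same : ∀ {u v : G}, u ∈ D → v ∈ D → ¬ Commute x u → ¬ Commute x v → π u = π v →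
      v = u ∨ v = x * u * x := by
    intro u v hu hv hxu hxv e
    by_cases huv : Commute u v
    · left
      by_contra hne
      have hxu' := hS.far_third hx hu hxu
      have hw : ¬ Commute (x * u * x) v := by
        intro h
        have := hsy x hx u hu hxu v hv
        rw [nc_of_not fun h' => hxv h'.symm, nc_of_commute huv.symm, nc_of_commute h.symm] at this
        exact absurd this (by decide)
      have := farcase (hS.xux_mem hx hu) hv hxu' hxv hw ((swapx hu hxu).2.trans e)
      refine hne (this.trans ?_)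
      rw [show x * (x * u * x) * x = (x * x) * u * (x * x) by simp only [mul_assoc], TSet.sq hS.tset hx,
        one_mul, mul_one]
    · exact Or.inr (farcase hu hv hxu hxv huv e)
  -- one member at each point, all far from each other
  set i₀ := π y₀ with hi₀
  have hpt : ∀ j, ∃ u ∈ D, ¬ Commute x u ∧ π u = j ∧ (j = i₀ → u = y₀) ∧
      (j ≠ i₀ → ¬ Commute y₀ u) := by
    intro j
    by_cases hj : j = i₀
    · exact ⟨y₀, hy₀, hxy, hj.symm, fun _ => rfl, fun h => absurd hj h⟩
    obtain ⟨c, hc, hce⟩ := P.surj {i₀, j} (Finset.card_pair (Ne.symm hj))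
    have hu : c * y₀ * c ∈ D := hS.xux_mem hc.1 hy₀
    have hxu : ¬ Commute x (c * y₀ * c) := fun h => hxy ((hS.commute_third_iff hc.1 hc.2.2).1 h)
    have hπu : π (c * y₀ * c) = j := by
      refine uniq (hπ _ hu hxu) fun d hd => ?_
      by_cases hcd : Commute d c
      · rw [hS.commute_third_iff hc.1 hcd, hπ y₀ hy₀ hxy d hd]
        rcases (P.commute_iff hd hc).1 hcd with rfl | h
        · rw [hce]; simp [hi₀]
        · rw [hce] at h
          simp only [Finset.disjoint_insert_right, Finset.disjoint_singleton_right] at h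
          rw [← hi₀]
          simp [h.1, h.2]
      · have hcd' : ¬ Commute c d := fun h => hcd h.symm
        have e1 : Commute d (c * y₀ * c) ↔ Commute (c * d * c) y₀ := by
          have e : Commute (c * d * c⁻¹) (c * (c * y₀ * c) * c⁻¹) ↔ Commute d (c * y₀ * c) :=
            commute_conj_iff c d _
          rw [TSet.inv hS.tset hc.1, show c * (c * y₀ * c) * c = (c * c) * y₀ * (c * c) by
            simp only [mul_assoc], TSet.sq hS.tset hc.1, one_mul, mul_one] at e
          exact e.symm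
        rw [e1, hπ y₀ hy₀ hxy _ (P.mem c hc d hd hcd'), P.third c hc d hd hcd', hce,
          Finset.mem_symmDiff, ← hi₀]
        have h1 : ((({i₀, j} : Finset (Fin n)) ∩ ψ d).card : ZMod 2) = 1 := by
          rw [← hce, ← P.nc_eq c hc d hd, nc_of_not hcd']
        rw [card_pair_inter (Ne.symm hj)] at h1
        by_cases ha : i₀ ∈ ψ d <;> by_cases hb : j ∈ ψ d <;> simp [ha, hb] at h1 ⊢
    by_cases hfar : Commute y₀ (c * y₀ * c)
    · obtain ⟨h1, h2⟩ := swapx hu hxu
      refine ⟨_, hS.xux_mem hx hu, h1, h2.trans hπu, fun h => absurd h hj, fun _ h => ?_⟩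
      have := hsy x hx _ hu hxu y₀ hy₀
      rw [nc_of_not fun h' => hxy h'.symm, nc_of_commute hfar, nc_of_commute h] at this
      exact absurd this (by decide)
    · exact ⟨_, hu, hxu, hπu, fun h => absurd h hj, fun _ => hfar⟩
  choose Y hYm hYf hYπ hY0 hYfar using hpt
  have hYall : ∀ j k, j ≠ k → ¬ Commute (Y j) (Y k) := by
    intro j k hjk
    by_cases hj : j = i₀
    · rw [hY0 j hj]
      exact hYfar k fun h => hjk (hj.trans h.symm)
    by_cases hk : k = i₀
    · rw [hY0 k hk]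
      exact fun h => hYfar j hj h.symm
    intro hcom
    obtain ⟨hcw, hw⟩ := wmem hy₀ (hYm j) hxy (hYf j) (hYfar j hj)
    set w := y₀ * Y j * y₀ with hwdef
    have hwx : w ≠ x := by
      intro h
      have : Y j = x * y₀ * x := by
        calc Y j = y₀ * w * y₀ := by
              rw [hwdef]; simp only [mul_assoc, TSet.sq hS.tset hy₀, mul_one]
              rw [← mul_assoc, TSet.sq hS.tset hy₀, one_mul]
          _ = x * y₀ * x := by rw [h]; exact (TSet.braid hS.tset hx hy₀ hxy).symm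
      exact hj ((hYπ j).symm.trans (by rw [this, (swapx hy₀ hxy).2]))
    have hwD : w ∈ Nb D x := ⟨hS.xux_mem hy₀ (hYm j), hwx, hcw⟩
    have hpat : ∀ c ∈ Nb D x, ((ψ c ∩ ψ w).card : ZMod 2) =
        (if i₀ ∈ ψ c then 1 else 0) + (if j ∈ ψ c then 1 else 0) := by
      intro c hc
      rw [← P.nc_eq c hc w hwD, hw c hc, nc_of_avoid (hπ y₀ hy₀ hxy) hc,
        nc_of_avoid (hπ _ (hYm j) (hYf j)) hc, hYπ j]
    have hψw : ψ w = {i₀, j} := by
      have h1 := hpat w hwD
      rw [Finset.inter_self, P.card w hwD] at h1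
      by_cases ha : i₀ ∈ ψ w <;> by_cases hb : j ∈ ψ w
      · refine (Finset.eq_of_subset_of_card_le (by simp [Finset.insert_subset_iff, ha, hb]) ?_).symm
        rw [P.card w hwD, Finset.card_pair (Ne.symm hj)]
      · simp [ha, hb] at h1; exact absurd h1 (by decide)
      · simp [ha, hb] at h1; exact absurd h1 (by decide)
      · obtain ⟨l, hl, hlc⟩ := exists_pair_with (insert i₀ (insert j (ψ w)))
          (le_trans (Nat.add_le_add_right ((Finset.card_insert_le _ _).trans
            (Nat.add_le_add_right (Finset.card_insert_le _ _) 1)) 1) (by rw [P.card w hwD]; omega))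
          (i := i₀) (by simp)
        obtain ⟨c, hc, hce⟩ := P.surj _ hlc
        simp only [Finset.mem_insert, not_or] at hl
        have := hpat c hc
        rw [hce, card_pair_inter (Ne.symm hl.1)] at this
        simp [ha, hb, hl.2.2, Ne.symm hl.2.1, hj] at this
    have h3 := hsy y₀ hy₀ _ (hYm j) (hYfar j hj) (Y k) (hYm k)
    rw [nc_of_not (fun h => hYfar k hk h.symm), nc_of_commute hcom.symm, nc_comm (Y k),
      nc_of_avoid (hπ _ (hYm k) (hYf k)) hwD, hψw, hYπ k] at h3
    simp [hk, Ne.symm hjk] at h3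
  -- the labels
  have cases : ∀ d ∈ D, d = x ∨ (d ∈ Nb D x) ∨ (∃ j, d = Y j) ∨ ∃ j, d = x * Y j * x := by
    intro d hd
    by_cases hxd : Commute x d
    · by_cases e : d = x
      · exact Or.inl e
      · exact Or.inr (Or.inl ⟨hd, e, hxd⟩)
    · rcases same (hYm (π d)) hd (hYf (π d)) hxd (hYπ (π d)) with h | h
      · exact Or.inr (Or.inr (Or.inl ⟨_, h⟩))
      · exact Or.inr (Or.inr (Or.inr ⟨_, h⟩))
  set em : Fin n ↪ Fin (n + 2) := ⟨Fin.castAdd 2, Fin.castAdd_injective n 2⟩ with hem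
  set s : Fin (n + 2) := Fin.natAdd n 0 with hs
  set t : Fin (n + 2) := Fin.natAdd n 1 with ht
  have hst : s ≠ t := fun h => by simp [hs, ht, Fin.ext_iff] at h
  have hse : ∀ i, s ≠ em i := fun i h => by
    have := congrArg Fin.val h
    simp [hem, hs] at this; omega
  have hte : ∀ i, t ≠ em i := fun i h => by
    have := congrArg Fin.val h
    simp [hem, ht] at this; omega
  obtain ⟨Ψ, hΨx, hΨn, hΨy, hΨy'⟩ : ∃ Ψ : G → Finset (Fin (n + 2)), Ψ x = {s, t} ∧
      (∀ c ∈ Nb D x, Ψ c = (ψ c).map em) ∧ (∀ j, Ψ (Y j) = {s, em j}) ∧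
      ∀ j, Ψ (x * Y j * x) = {t, em j} := by
    refine ⟨fun d => if d = x then {s, t} else if d ∈ Nb D x then (ψ d).map em
      else if d = Y (π d) then {s, em (π d)} else {t, em (π d)}, if_pos rfl, fun c hc => ?_,
      fun j => ?_, fun j => ?_⟩
    · dsimp only
      rw [if_neg hc.2.1, if_pos hc]
    · dsimp only
      rw [if_neg (fun h : Y j = x => hYf j (by rw [h])), if_neg (fun h => hYf j h.2.2), hYπ j, if_pos rfl]
    · obtain ⟨h1, h2⟩ := swapx (hYm j) (hYf j)
      dsimp only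
      rw [if_neg (fun h : x * Y j * x = x => h1 (by rw [h])), if_neg (fun h => h1 h.2.2), h2, hYπ j,
        if_neg fun h => hYf j ?_]
      have := conj_eq_self_of_commute (show Commute x (Y j) from by
        have h' : x * Y j * x * x = Y j * x := by rw [h]
        rw [mul_assoc (x * Y j), TSet.sq hS.tset hx, mul_one] at h'
        exact h')
      exact mul_inv_eq_iff_eq_mul.1 this
  have fx : ∀ j, nc x (Y j) = 1 := fun j => nc_of_not (hYf j)
  have fx' : ∀ j, nc x (x * Y j * x) = 1 := fun j => nc_of_not (swapx (hYm j) (hYf j)).1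
  have fn : ∀ c ∈ Nb D x, ∀ j, nc c (Y j) = if j ∈ ψ c then 1 else 0 := fun c hc j => by
    rw [nc_of_avoid (hπ _ (hYm j) (hYf j)) hc, hYπ j]
  have fn' : ∀ c ∈ Nb D x, ∀ j, nc c (x * Y j * x) = if j ∈ ψ c then 1 else 0 := fun c hc j => by
    obtain ⟨h1, h2⟩ := swapx (hYm j) (hYf j)
    rw [nc_of_avoid (hπ _ (hS.xux_mem hx (hYm j)) h1) hc, h2, hYπ j]
  have fyy : ∀ j k, nc (Y j) (Y k) = if j = k then 0 else 1 := fun j k => by
    by_cases h : j = k
    · subst h; rw [if_pos rfl, nc_of_commute (Commute.refl _)]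
    · rw [if_neg h, nc_of_not (hYall j k h)]
  have fyy' : ∀ j k, nc (Y j) (x * Y k * x) = if j = k then 1 else 0 := fun j k => by
    have := CharTwo.add_eq_zero.1 (hsy x hx (Y k) (hYm k) (hYf k) (Y j) (hYm j))
    rw [← this, nc_comm (Y j) x, fx, fyy]
    split_ifs <;> decide
  have fy'y' : ∀ j k, nc (x * Y j * x) (x * Y k * x) = if j = k then 0 else 1 := fun j k => by
    have := CharTwo.add_eq_zero.1 (hsy x hx (Y k) (hYm k) (hYf k) _ (hS.xux_mem hx (hYm j)))
    rw [← this, nc_comm _ x, fx', nc_comm, fyy']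
    by_cases h : j = k
    · subst h; simp; decide
    · simp [h, Ne.symm h]
  have two : ∀ d ∈ D, (Ψ d).card = 2 := by
    intro d hd
    rcases cases d hd with rfl | h | ⟨j, rfl⟩ | ⟨j, rfl⟩
    · rw [hΨx, Finset.card_pair hst]
    · rw [hΨn d h, Finset.card_map, P.card d h]
    · rw [hΨy, Finset.card_pair (hse j)]
    · rw [hΨy', Finset.card_pair (hte j)]
  have mem_map' : ∀ (i : Fin n) (p : Finset (Fin n)), em i ∈ p.map em ↔ i ∈ p :=
    fun i p => Finset.mem_map' em
  have s_map : ∀ p : Finset (Fin n), s ∉ p.map em := fun p h => by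
    obtain ⟨i, -, h⟩ := Finset.mem_map.1 h; exact hse i h.symm
  have t_map : ∀ p : Finset (Fin n), t ∉ p.map em := fun p h => by
    obtain ⟨i, -, h⟩ := Finset.mem_map.1 h; exact hte i h.symm
  have emeq : ∀ j k, em j = em k ↔ j = k := fun j k => em.injective.eq_iff
  have nc' : ∀ d ∈ D, ∀ e ∈ D, nc d e = ((Ψ d ∩ Ψ e).card : ZMod 2) := by
    intro d hd e he
    rcases cases d hd with rfl | hc | ⟨j, rfl⟩ | ⟨j, rfl⟩ <;>
      rcases cases e he with rfl | hc' | ⟨k, rfl⟩ | ⟨k, rfl⟩
    · rw [nc_of_commute (Commute.refl _), hΨx, card_pair_inter hst]; simp; decide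
    · rw [nc_of_commute hc'.2.2, hΨx, hΨn e hc', card_pair_inter hst]; simp [s_map, t_map]
    · rw [fx, hΨx, hΨy, card_pair_inter hst]; simp [hse, hst.symm, hte]
    · rw [fx', hΨx, hΨy', card_pair_inter hst]; simp [hse, hst, hte]
    · rw [nc_of_commute hc.2.2.symm, Finset.inter_comm, hΨx, hΨn d hc, card_pair_inter hst]
      simp [s_map, t_map]
    · rw [P.nc_eq d hc e hc', hΨn d hc, hΨn e hc', ← Finset.map_inter, Finset.card_map]
    · rw [fn d hc, Finset.inter_comm, hΨn d hc, hΨy, card_pair_inter (hse k)]; simp [s_map, mem_map']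
    · rw [fn' d hc, Finset.inter_comm, hΨn d hc, hΨy', card_pair_inter (hte k)]; simp [t_map, mem_map']
    · rw [nc_comm, fx, hΨx, hΨy, card_pair_inter (hse j)]; simp [hst, (hse j).symm, (hte j).symm]
    · rw [nc_comm, fn e hc', hΨn e hc', hΨy, card_pair_inter (hse j)]; simp [s_map, mem_map']
    · rw [fyy, hΨy, hΨy, card_pair_inter (hse j)]
      by_cases h : j = k <;> simp [h, hse, (hse _).symm, emeq] <;> decide
    · rw [fyy', hΨy, hΨy', card_pair_inter (hse j)]
      by_cases h : j = k <;> simp [h, hse, hst, (hte _).symm, emeq]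
    · rw [nc_comm, fx', hΨx, hΨy', card_pair_inter (hte j)]; simp [hst.symm, (hse j).symm, (hte j).symm]
    · rw [nc_comm, fn' e hc', hΨn e hc', hΨy', card_pair_inter (hte j)]; simp [t_map, mem_map']
    · rw [nc_comm, fyy', hΨy', hΨy, card_pair_inter (hte j)]
      by_cases h : j = k <;> simp [h, Ne.symm, hte, hst.symm, (hse _).symm, emeq]
    · rw [fy'y', hΨy', hΨy', card_pair_inter (hte j)]
      by_cases h : j = k <;> simp [h, hte, (hte _).symm, emeq] <;> decide
  refine PairModel.isSym hS (by omega) hsy two (fun p hp => ?_) nc'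
  obtain ⟨a, b, hab, rfl⟩ := Finset.card_eq_two.1 hp
  have split : ∀ a : Fin (n + 2), a = s ∨ a = t ∨ ∃ i, a = em i := fun a => by
    refine Fin.addCases (fun i => Or.inr (Or.inr ⟨i, rfl⟩)) (fun i => ?_) a
    fin_cases i
    · exact Or.inl rfl
    · exact Or.inr (Or.inl rfl)
  rcases split a with rfl | rfl | ⟨i, rfl⟩ <;> rcases split b with rfl | rfl | ⟨k, rfl⟩
  · exact absurd rfl hab
  · exact ⟨x, hx, hΨx⟩
  · exact ⟨Y k, hYm k, hΨy k⟩
  · exact ⟨x, hx, hΨx.trans (Finset.pair_comm _ _)⟩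
  · exact absurd rfl hab
  · exact ⟨_, hS.xux_mem hx (hYm k), hΨy' k⟩
  · exact ⟨Y i, hYm i, (hΨy i).trans (Finset.pair_comm _ _)⟩
  · exact ⟨_, hS.xux_mem hx (hYm i), (hΨy' i).trans (Finset.pair_comm _ _)⟩
  · obtain ⟨c, hc, hce⟩ := P.surj {i, k} (Finset.card_pair fun h => hab (congrArg em h))
    exact ⟨c, hc.1, by rw [hΨn c hc, hce, Finset.map_insert, Finset.map_singleton]⟩

end Cfsg.Agent.FischerClass
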