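import Cfsg.Agent.Lib.FischerClass.SymFive
import Cfsg.Agent.Lib.Fischer.SrgSquare

/-!
Fischer's theorem: with a symmetric group of degree five at the neighbourhood two far members do not
have exactly two common neighbours, as the graph would need thirty-three to be a square.
-/

set_option autoImplicit false

namespace Cfsg.Agent.FischerClass

open Cfsg Cfsg.Agent Cfsg.Agent.Fischer Cfsg.Agent.Fischer.Factor
open Matrix

universe u

/-- No real matrix has this quadratic equation with vanishing trace. -/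
theorem no_matrix {V : Type*} [Fintype V] [DecidableEq V] {A : Matrix V V ℝ} (v₀ : V)
    (hrow : ∀ v, ∑ w, A v w = 10) (hcol : ∀ w, ∑ v, A v w = 10) (hdiag : ∀ v, A v v = 0)
    (hsq : A * A = (8 : ℝ) • (1 : Matrix V V ℝ) + A + (2 : ℝ) • Matrix.of (fun _ _ => (1 : ℝ))) :
    False := by
  set J : Matrix V V ℝ := Matrix.of fun _ _ => (1 : ℝ) with hJ
  have hAJ : A * J = (10 : ℝ) • J := by
    ext v w; simp [hJ, Matrix.mul_apply, hrow]
  have hJA : J * A = (10 : ℝ) • J := by
    ext v w; simp [hJ, Matrix.mul_apply, hcol]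
  have hn : (Fintype.card V : ℝ) = 41 := by
    have h1 : ∑ w, (A * A) v₀ w = 100 := by
      simp only [Matrix.mul_apply]
      rw [Finset.sum_comm]
      simp only [← Finset.mul_sum, hrow, ← Finset.sum_mul]
      norm_num
    rw [hsq] at h1
    simp [hJ, Finset.sum_add_distrib, Matrix.one_apply, hrow] at h1
    linarith
  have hJJ : J * J = (41 : ℝ) • J := by
    ext v w; simp [hJ, Matrix.mul_apply, hn]
  set s : ℝ := Real.sqrt 33 with hs
  have hs0 : 0 < s := Real.sqrt_pos.2 (by norm_num)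
  have hs2 : s ^ 2 = 33 := Real.sq_sqrt (by norm_num)
  set N : Matrix V V ℝ := (2 : ℝ) • A - 1 - (19 / 41 : ℝ) • J with hN
  set P : Matrix V V ℝ := 1 - (1 / 41 : ℝ) • J with hP
  have hNN : N * N = (33 : ℝ) • P := by
    rw [hN, hP]
    simp only [sub_mul, mul_sub, smul_mul_assoc, mul_smul_comm, hsq, hAJ, hJA, hJJ, mul_one, one_mul,
      smul_smul, smul_add, smul_sub]
    module
  have hNJ : N * J = 0 := by
    rw [hN]
    simp only [sub_mul, smul_mul_assoc, hAJ, hJJ, one_mul, smul_smul]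
    module
  have hJN : J * N = 0 := by
    rw [hN]
    simp only [mul_sub, mul_smul_comm, hJA, hJJ, mul_one, smul_smul]
    module
  have hNP : N * P = N := by rw [hP, mul_sub, mul_one, mul_smul_comm, hNJ, smul_zero, sub_zero]
  have hPN : P * N = N := by rw [hP, sub_mul, one_mul, smul_mul_assoc, hJN, smul_zero, sub_zero]
  have hPP : P * P = P := by
    rw [hP]
    simp only [sub_mul, mul_sub, one_mul, mul_one, smul_mul_assoc, mul_smul_comm, hJJ, smul_smul]
    module
  set E : Matrix V V ℝ := (2 * s)⁻¹ • (N + s • P) with hE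
  have hEE : E * E = E := by
    rw [hE]
    simp only [smul_mul_assoc, mul_smul_comm, add_mul, mul_add, hNN, hNP, hPN, hPP, smul_smul, smul_add]
    match_scalars <;> field_simp <;> nlinarith [hs2]
  obtain ⟨r, hr⟩ := Fischer.SrgSquare.trace_idempotent hEE
  have htA : A.trace = 0 := by simp [Matrix.trace, hdiag]
  have htJ : J.trace = 41 := by simp [hJ, Matrix.trace, hn]
  have htN : N.trace = -60 := by
    rw [hN, Matrix.trace_sub, Matrix.trace_sub, Matrix.trace_smul, Matrix.trace_smul, htA, htJ,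
      Matrix.trace_one, hn]
    norm_num
  have htP : P.trace = 40 := by
    rw [hP, Matrix.trace_sub, Matrix.trace_smul, htJ, Matrix.trace_one, hn]
    norm_num
  rw [hE, Matrix.trace_smul, Matrix.trace_add, Matrix.trace_smul, htN, htP, smul_eq_mul, smul_eq_mul,
    inv_mul_eq_iff_eq_mul₀ (by positivity)] at hr
  have h1 : s * (40 - 2 * (r : ℝ)) = 60 := by linarith
  have h2 : (33 : ℝ) * (40 - 2 * (r : ℝ)) ^ 2 = 3600 := by
    rw [← hs2, ← mul_pow, h1]; norm_num
  have h3 : (33 : ℤ) * (40 - 2 * (r : ℤ)) ^ 2 = 3600 := by exact_mod_cast h2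
  generalize (40 - 2 * (r : ℤ)) ^ 2 = j at h3
  omega

variable {G : Type u} [Group G] [Finite G] {D : Set G}

/-- Two far members do not have exactly two common neighbours. -/
theorem two_common (hL : Loc D) (hP : ∀ t ∈ D, ∃ ψ : G → Finset (Fin 5), PairModel (Nb D t) ψ)
    {x u : G} (hx : x ∈ D) (hu : u ∈ D) (hxu : ¬ Commute x u) : (Nb D x ∩ Nb D u).ncard ≠ 2 := by
  classical
  intro h2
  haveI : Fintype D := Fintype.ofFinite _
  have hcnt : ∀ t ∈ D, (Nb D t).ncard = 10 ∧ ∀ a ∈ Nb D t, (Nb D t ∩ Nb D a).ncard = 3 := fun t ht => by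
    obtain ⟨ψ, P⟩ := hP t ht
    exact five_counts P
  let A : Matrix D D ℝ := Matrix.of fun v w => if (w : G) ∈ Nb D v then 1 else 0
  have sym : ∀ v w : D, (w : G) ∈ Nb D v ↔ (v : G) ∈ Nb D w := fun v w =>
    ⟨fun h => ⟨v.2, h.2.1.symm, h.2.2.symm⟩, fun h => ⟨w.2, h.2.1.symm, h.2.2.symm⟩⟩
  have card_sub : ∀ S : Set G, S ⊆ D → ((Finset.univ : Finset D).filter fun w : D => (w : G) ∈ S).card = S.ncard := by
    intro S hS
    rw [← Set.ncard_coe_finset]
    refine Set.ncard_congr (fun (w : D) _ => (w : G)) (fun w hw => by simpa using hw)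
      (fun a b _ _ e => Subtype.ext e) fun y hy => ⟨⟨y, hS hy⟩, by simpa using hy, rfl⟩
  have hrow : ∀ v, ∑ w, A v w = 10 := fun v => by
    simp only [A, Matrix.of_apply]
    rw [Finset.sum_boole, card_sub (Nb D v) (fun y hy => hy.1), (hcnt v v.2).1]
    norm_num
  refine no_matrix (⟨x, hx⟩ : D) (A := A) hrow (fun w => ?_) (fun v => ?_) ?_
  · rw [← hrow w]
    refine Finset.sum_congr rfl fun v _ => ?_
    simp only [A, Matrix.of_apply, sym v w]
  · simp only [A, Matrix.of_apply]
    exact if_neg fun h => h.2.1 rfl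
  ext v w
  have hvw : (A * A) v w = ((Nb D v ∩ Nb D w).ncard : ℝ) := by
    rw [Matrix.mul_apply, ← card_sub (Nb D v ∩ Nb D w) (fun y hy => hy.1.1), ← Finset.sum_boole]
    refine Finset.sum_congr rfl fun z _ => ?_
    simp only [A, Matrix.of_apply, Set.mem_inter_iff, sym z w]
    split_ifs <;> simp_all
  rw [hvw]
  simp only [Matrix.add_apply, Matrix.smul_apply, Matrix.one_apply, Matrix.of_apply, A, smul_eq_mul]
  by_cases e : v = w
  · subst e
    rw [Set.inter_self, (hcnt v v.2).1, if_pos rfl, if_neg fun h => h.2.1 rfl]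
    norm_num
  have e' : (v : G) ≠ w := fun h => e (Subtype.ext h)
  by_cases hc : Commute (v : G) (w : G)
  · have hm : (w : G) ∈ Nb D v := ⟨w.2, e'.symm, hc⟩
    rw [(hcnt v v.2).2 w hm, if_neg e, if_pos hm]
    norm_num
  · obtain ⟨k, hk1, hk2⟩ := hL.far_move hx hu hxu v.2 w.2 hc
    have := nb_inter_conj hL.toStd k x u
    rw [hk1, hk2, h2] at this
    rw [this, if_neg e, if_neg fun h => hc h.2.2]
    norm_num

end Cfsg.Agent.FischerClass
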